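import Mathlib
import Cfsg.Prelude.Def_SporadicB

/-! Fischer spaces: basic calculus. -/

set_option autoImplicit false

namespace Cfsg.Agent.Fis

open Subgroup

variable {G : Type*} [Group G]

/-- A normal set of 3-transpositions. -/
class TT (D : Set G) : Prop where
  sq : ∀ d ∈ D, d * d = 1
  ne : ∀ d ∈ D, d ≠ 1
  three : ∀ d ∈ D, ∀ e ∈ D, d * e = e * d ∨ d * e * d = e * d * e
  conj : ∀ g, ∀ d ∈ D, g * d * g⁻¹ ∈ D

/-- Points. -/
@[ext] structure Pt (D : Set G) where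
  t : G
  mem : t ∈ D

theorem tt_of_class {D : Set G} (h : Cfsg.IsThreeTranspositionClass D) : TT D := by
  obtain ⟨⟨h1, h2⟩, ⟨d0, -, h3⟩, -⟩ := h
  have sq : ∀ d ∈ D, d * d = 1 := fun d hd => by
    have := pow_orderOf_eq_one d; rwa [h1 d hd, pow_two] at this
  refine ⟨sq, fun d hd h => ?_, fun d hd e he => ?_, fun g d hd => ?_⟩
  · have := h1 d hd; rw [h] at this; simp at this
  · have hd' : d⁻¹ = d := inv_eq_of_mul_eq_one_right (sq d hd)
    have he' : e⁻¹ = e := inv_eq_of_mul_eq_one_right (sq e he)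
    rcases h2 d hd e he with h | h
    · left
      have : (d * e)⁻¹ = d * e := inv_eq_of_mul_eq_one_right (by rwa [pow_two] at h)
      rw [mul_inv_rev, hd', he'] at this; exact this.symm
    · right
      have : (e * d * e)⁻¹ = d * e * d := by
        apply inv_eq_of_mul_eq_one_left
        rw [← h]; simp only [pow_succ, pow_zero, one_mul, mul_assoc]
      rw [← this]; simp only [mul_inv_rev, hd', he', mul_assoc]
  · rw [h3] at hd ⊢
    exact IsConj.trans hd (isConj_iff.2 ⟨g, rfl⟩)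

variable {D : Set G}

instance instFinitePt [Finite G] : Finite (Pt D) :=
  Finite.of_injective (fun x : Pt D => x.t) (fun _ _ h => Pt.ext h)

variable [TT D]

instance instMulActionPt : MulAction G (Pt D) where
  smul g x := ⟨g * x.t * g⁻¹, TT.conj g _ x.mem⟩
  one_smul x := Pt.ext (by show 1 * x.t * 1⁻¹ = x.t; simp)
  mul_smul g h x := Pt.ext (by
    show g * h * x.t * (g * h)⁻¹ = g * (h * x.t * h⁻¹) * g⁻¹; simp only [mul_inv_rev, mul_assoc])

theorem smul_t (g : G) (x : Pt D) : (g • x).t = g * x.t * g⁻¹ := rfl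

theorem Pt.sq (x : Pt D) : x.t * x.t = 1 := TT.sq _ x.mem
theorem Pt.inv (x : Pt D) : x.t⁻¹ = x.t := inv_eq_of_mul_eq_one_right x.sq
theorem Pt.ne_one (x : Pt D) : x.t ≠ 1 := TT.ne _ x.mem
theorem Pt.sq' (x : Pt D) (g : G) : x.t * (x.t * g) = g := by rw [← mul_assoc, x.sq, one_mul]

/-- conjugation of a point by a point -/
def st (a b : Pt D) : Pt D := a.t • b

@[inherit_doc] scoped infixr:72 " ⋆ " => st

theorem st_def (a b : Pt D) : a ⋆ b = a.t • b := rfl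
theorem st_t (a b : Pt D) : (a ⋆ b).t = a.t * b.t * a.t := by rw [st, smul_t, a.inv]

/-- commuting points (possibly equal) -/
def Cm (a b : Pt D) : Prop := a ⋆ b = b

theorem cm_iff {a b : Pt D} : Cm a b ↔ Commute a.t b.t := by
  rw [Cm, Pt.ext_iff, st, smul_t, mul_inv_eq_iff_eq_mul]; rfl

theorem Cm.symm {a b : Pt D} (h : Cm a b) : Cm b a := cm_iff.2 (cm_iff.1 h).symm
theorem cm_comm {a b : Pt D} : Cm a b ↔ Cm b a := ⟨Cm.symm, Cm.symm⟩
theorem Cm.eq {a b : Pt D} (h : Cm a b) : a ⋆ b = b := h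
theorem Cm.eq' {a b : Pt D} (h : Cm a b) : b ⋆ a = a := h.symm
theorem Cm.refl (a : Pt D) : Cm a a := cm_iff.2 (Commute.refl _)
theorem nc_symm {a b : Pt D} (h : ¬ Cm a b) : ¬ Cm b a := fun h' => h h'.symm
theorem ne_of_nc {a b : Pt D} (h : ¬ Cm a b) : a ≠ b := fun e => h (e ▸ Cm.refl a)

@[simp] theorem st_self (a : Pt D) : a ⋆ a = a := Cm.refl a
@[simp] theorem st_st (a b : Pt D) : a ⋆ a ⋆ b = b := by
  rw [st, st, smul_smul, a.sq, one_smul]
theorem smul_st (g : G) (a b : Pt D) : g • (a ⋆ b) = (g • a) ⋆ (g • b) := by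
  rw [st, st, smul_smul, smul_smul, smul_t, inv_mul_cancel_right]
theorem st_dist (a b c : Pt D) : a ⋆ b ⋆ c = (a ⋆ b) ⋆ (a ⋆ c) := smul_st _ _ _
theorem st_st_left (a b c : Pt D) : (a ⋆ b) ⋆ c = a ⋆ b ⋆ a ⋆ c := by
  rw [st_dist a b, st_st]
theorem smul_st_left (g : G) (b c : Pt D) : (g • b) ⋆ c = g • (b ⋆ g⁻¹ • c) := by
  rw [smul_st, smul_inv_smul]
theorem st_inj {a b c : Pt D} (h : a ⋆ b = a ⋆ c) : b = c := by rw [← st_st a b, h, st_st]
theorem st_eq_iff {a b c : Pt D} : a ⋆ b = c ↔ b = a ⋆ c :=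
  ⟨fun h => by rw [← h, st_st], fun h => by rw [h, st_st]⟩

theorem st_comm {a b : Pt D} (h : ¬ Cm a b) : a ⋆ b = b ⋆ a := by
  rcases TT.three _ a.mem _ b.mem with h' | h'
  · exact absurd (cm_iff.2 h') h
  · exact Pt.ext (by rw [st_t, st_t, h'])

theorem cm_smul (g : G) {a b : Pt D} : Cm (g • a) (g • b) ↔ Cm a b := by
  rw [Cm, Cm, ← smul_st, smul_left_cancel_iff]
theorem cm_st (c : Pt D) {a b : Pt D} : Cm (c ⋆ a) (c ⋆ b) ↔ Cm a b := cm_smul _
theorem Cm.smul {a b : Pt D} (h : Cm a b) (g : G) : Cm (g • a) (g • b) := (cm_smul g).2 h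
theorem Cm.st {a b : Pt D} (h : Cm a b) (c : Pt D) : Cm (c ⋆ a) (c ⋆ b) := h.smul _
theorem cm_st_iff {a b c : Pt D} : Cm a (c ⋆ b) ↔ Cm (c ⋆ a) b := by
  rw [← cm_st c, st_st]
theorem cm_smul_iff {a b : Pt D} {g : G} : Cm a (g • b) ↔ Cm (g⁻¹ • a) b := by
  rw [← cm_smul g⁻¹, inv_smul_smul]

theorem Cm.comm {a b : Pt D} (h : Cm a b) (c : Pt D) : a ⋆ b ⋆ c = b ⋆ a ⋆ c := by
  rw [st_dist, h.eq]

theorem braid {a b : Pt D} (h : ¬ Cm a b) (c : Pt D) : a ⋆ b ⋆ a ⋆ c = b ⋆ a ⋆ b ⋆ c := by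
  rw [← st_st_left, ← st_st_left, st_comm h]

theorem Cm.st_right {z a b : Pt D} (ha : Cm z a) (hb : Cm z b) : Cm z (a ⋆ b) := by
  rw [cm_st_iff, ha.eq']; exact hb

theorem nc_st_right {z a b : Pt D} (ha : Cm z a) (hb : ¬ Cm z b) : ¬ Cm z (a ⋆ b) := by
  rw [cm_st_iff, ha.eq']; exact hb

theorem nc_st_left {z a b : Pt D} (hab : ¬ Cm a b) (ha : ¬ Cm z a) (hb : Cm z b) :
    ¬ Cm z (a ⋆ b) := by
  rw [st_comm hab]; exact nc_st_right hb ha

theorem nc_st_self {a b : Pt D} (h : ¬ Cm a b) : ¬ Cm a (a ⋆ b) := nc_st_right (Cm.refl a) h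
theorem nc_st_self' {a b : Pt D} (h : ¬ Cm a b) : ¬ Cm b (a ⋆ b) := by
  rw [st_comm h]; exact nc_st_self (nc_symm h)

theorem st_st_fst {a b : Pt D} (h : ¬ Cm a b) : (a ⋆ b) ⋆ a = b := by
  rw [st_comm (nc_symm (nc_st_self h)), st_st]
theorem st_st_snd {a b : Pt D} (h : ¬ Cm a b) : (a ⋆ b) ⋆ b = a := by
  rw [st_comm h, st_st_fst (nc_symm h)]
theorem st_st_mid {a b : Pt D} (h : ¬ Cm a b) : b ⋆ a ⋆ b = a := by
  rw [st_comm h, st_st]

theorem st_left_inj {a b c : Pt D} (ha : ¬ Cm a c) (h : a ⋆ c = b ⋆ c) : a = b := by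
  have hb : ¬ Cm b c := fun hb => ha (by rw [Cm, h]; exact hb)
  rw [st_comm ha, st_comm hb] at h; exact st_inj h

/-- The `S₄` lemma. -/
theorem s4_cm {a b f : Pt D} (hb : ¬ Cm a b) (hf : ¬ Cm a f) (h : Cm b f) :
    Cm a (b ⋆ f ⋆ a) := by
  rw [Cm, st_dist a b, st_st_mid (nc_symm hf), st_comm hb, st_st_left, h.eq, st_comm hf]

theorem s4_swap {a b f : Pt D} (hb : ¬ Cm a b) (hf : ¬ Cm a f) (h : Cm b f) :
    (a ⋆ b) ⋆ (a ⋆ f) ⋆ b = f := by
  have h1 : (a ⋆ f) ⋆ b = a ⋆ f ⋆ a ⋆ b := st_st_left _ _ _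
  rw [h1, ← st_dist, st_comm hb, ← h.comm, st_st, st_st_mid (nc_symm hf)]

theorem s4_swap' {a b f : Pt D} (hb : ¬ Cm a b) (hf : ¬ Cm a f) (h : Cm b f) :
    (a ⋆ b) ⋆ (a ⋆ f) ⋆ f = b := by
  rw [(h.st a).comm, s4_swap hf hb h.symm]

/-- The `A₄` lemma: a point commuting with the two middle nodes. -/
theorem a4_cm {v d a u : Pt D} (hvd : ¬ Cm v d) (hda : ¬ Cm d a) (hau : ¬ Cm a u)
    (hva : Cm v a) (hvu : Cm v u) (hdu : Cm d u) :
    Cm d (u ⋆ a ⋆ d ⋆ v) ∧ Cm a (u ⋆ a ⋆ d ⋆ v) := by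
  constructor
  · rw [Cm, hdu.comm, braid hda, hva.eq']
  · rw [Cm, ← st_st_left, st_comm hau, st_st_left, hdu.symm.comm, hvu.eq']

theorem smul_eq_iff_commute {g : G} {x : Pt D} : g • x = x ↔ Commute g x.t := by
  rw [Pt.ext_iff, smul_t, mul_inv_eq_iff_eq_mul]; rfl

theorem st_mul (a b x : Pt D) : (a.t * b.t) • x = a ⋆ b ⋆ x := mul_smul _ _ _

theorem cube_eq_one {a b : Pt D} (h : ¬ Cm a b) : (a.t * b.t) ^ 3 = 1 := by
  have h1 := congrArg Pt.t (st_comm h)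
  rw [st_t, st_t] at h1
  have : (a.t * b.t) ^ 3 = (a.t * b.t * a.t) * (b.t * a.t * b.t) := by
    simp only [pow_succ, pow_zero, one_mul, mul_assoc]
  rw [this, h1]; simp only [mul_assoc, Pt.sq', Pt.sq]

theorem sq_eq_one {a b : Pt D} (h : Cm a b) : (a.t * b.t) ^ 2 = 1 := by
  rw [(cm_iff.1 h).mul_pow, pow_two, pow_two, a.sq, b.sq, one_mul]

theorem six_eq_one (a b : Pt D) : (a.t * b.t) ^ 6 = 1 := by
  by_cases h : Cm a b
  · rw [show 6 = 2 * 3 from rfl, pow_mul, sq_eq_one h, one_pow]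
  · rw [show 6 = 3 * 2 from rfl, pow_mul, cube_eq_one h, one_pow]

/-- fixed points of a product of two adjacent points -/
theorem st_eq_st_iff {a b y : Pt D} (h : a ≠ b) : a ⋆ y = b ⋆ y ↔ Cm a y ∧ Cm b y := by
  constructor
  · intro e
    have ha : Cm a y := by
      by_contra ha; exact h (st_left_inj ha e)
    exact ⟨ha, by rw [Cm, ← e]; exact ha⟩
  · rintro ⟨h1, h2⟩; rw [h1.eq, h2.eq]

theorem mul_smul_eq_iff {a b y : Pt D} (h : a ≠ b) : (a.t * b.t) • y = y ↔ Cm a y ∧ Cm b y := by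
  rw [st_mul, st_eq_iff, eq_comm, st_eq_st_iff h]

/-- induction on a generated subgroup -/
theorem closure_smul_mem {S : Set (Pt D)} {P : Pt D → Prop}
    (hP : ∀ s ∈ S, ∀ x, P x → P (s ⋆ x)) {g : G} (hg : g ∈ closure (Pt.t '' S)) :
    ∀ x, P x → P (g • x) := by
  have : (∀ x, P x → P (g • x)) ∧ (∀ x, P x → P (g⁻¹ • x)) := by
    induction hg using closure_induction with
    | mem s hs =>
      obtain ⟨s, hs, rfl⟩ := hs
      rw [s.inv]; exact ⟨hP s hs, hP s hs⟩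
    | one => simp
    | mul g h _ _ ih1 ih2 =>
      refine ⟨fun x hx => ?_, fun x hx => ?_⟩
      · rw [mul_smul]; exact ih1.1 _ (ih2.1 _ hx)
      · rw [mul_inv_rev, mul_smul]; exact ih2.2 _ (ih1.2 _ hx)
    | inv g _ ih => rw [inv_inv]; exact ⟨ih.2, ih.1⟩
  exact this.1

theorem image_t_univ : Pt.t '' (Set.univ : Set (Pt D)) = D := by
  ext d; constructor
  · rintro ⟨x, -, rfl⟩; exact x.mem
  · intro hd; exact ⟨⟨d, hd⟩, trivial, rfl⟩

/-- A conjugacy class generating the group. -/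
structure Cl (D : Set G) [TT D] : Prop where
  gen : closure D = ⊤
  tr : ∀ x y : Pt D, ∃ g : G, g • x = y

theorem cl_of_class {D : Set G} [TT D] (h : Cfsg.IsThreeTranspositionClass D) : Cl D := by
  obtain ⟨-, ⟨d0, -, h3⟩, h4⟩ := h
  refine ⟨h4, fun x y => ?_⟩
  have hx : x.t ∈ conjugatesOf d0 := h3 ▸ x.mem
  have hy : y.t ∈ conjugatesOf d0 := h3 ▸ y.mem
  obtain ⟨g, hg⟩ := isConj_iff.1 (IsConj.trans (IsConj.symm hx) hy)
  exact ⟨g, Pt.ext hg⟩

namespace Cl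

theorem ind (h : Cl D) {P : Pt D → Prop} (hP : ∀ s x, P x → P (s ⋆ x)) {x : Pt D} (hx : P x)
    (y : Pt D) : P y := by
  obtain ⟨g, rfl⟩ := h.tr x y
  refine closure_smul_mem (S := Set.univ) (fun s _ => hP s) ?_ x hx
  rw [image_t_univ, h.gen]; trivial

theorem ind' (h : Cl D) {P : Pt D → Prop} (hP : ∀ x y, P x → ¬ Cm x y → P y) {x : Pt D}
    (hx : P x) (y : Pt D) : P y := by
  refine h.ind (fun s x hx => ?_) hx y
  by_cases hs : Cm s x
  · rwa [hs.eq]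
  · exact hP _ _ hx (nc_st_self' hs)

/-- The non-commuting graph has diameter two. -/
theorem diam (h : Cl D) {x y : Pt D} (hxy : x ≠ y) (hc : Cm x y) :
    ∃ z, ¬ Cm z x ∧ ¬ Cm z y := by
  have : x = y ∨ ¬ Cm x y ∨ ∃ z, ¬ Cm z x ∧ ¬ Cm z y := by
    refine h.ind' (P := fun y => x = y ∨ ¬ Cm x y ∨ ∃ z, ¬ Cm z x ∧ ¬ Cm z y) ?_ (Or.inl rfl) y
    rintro v w (rfl | hv | ⟨u, hu, huv⟩) hvw
    · exact Or.inr (Or.inl hvw)
    · exact Or.inr (Or.inr ⟨v, nc_symm hv, hvw⟩)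
    · refine Or.inr (Or.inr ?_)
      by_cases h1 : Cm x v
      · by_cases h2 : Cm u w
        · exact ⟨u ⋆ v, nc_symm (nc_st_left huv (nc_symm hu) h1),
            nc_symm (nc_st_right h2.symm (nc_symm hvw))⟩
        · exact ⟨u, hu, h2⟩
      · exact ⟨v, nc_symm h1, hvw⟩
  rcases this with h1 | h1 | h1
  · exact absurd h1 hxy
  · exact absurd hc h1
  · exact h1

theorem exists_nc (h : Cl D) {x y : Pt D} (hxy : x ≠ y) (z : Pt D) : ∃ w, ¬ Cm w z := by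
  obtain ⟨g, rfl⟩ := h.tr x z
  by_cases hc : Cm x y
  · obtain ⟨w, hw, -⟩ := h.diam hxy hc
    exact ⟨g • w, by rwa [cm_smul]⟩
  · exact ⟨g • y, by rw [cm_smul]; exact nc_symm hc⟩

theorem mem_center_iff (h : Cl D) {g : G} : g ∈ center G ↔ ∀ x : Pt D, g • x = x := by
  constructor
  · intro hg x
    exact smul_eq_iff_commute.2 (Subgroup.mem_center_iff.1 hg x.t).symm
  · intro hg
    rw [Subgroup.mem_center_iff]
    intro k
    have hk : k ∈ closure D := by rw [h.gen]; trivial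
    have : closure D ≤ centralizer {g} := by
      rw [closure_le]
      intro d hd
      rw [SetLike.mem_coe, mem_centralizer_singleton_iff]
      exact (smul_eq_iff_commute.1 (hg ⟨d, hd⟩)).symm
    exact mem_centralizer_singleton_iff.1 (this hk)

end Cl

end Cfsg.Agent.Fis
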