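import Cfsg.Agent.Fis.A
import Cfsg.Agent.S1618
import Cfsg.Agent.S0144
import Cfsg.Agent.Comp.Rad
import Cfsg.Agent.Core.Basic

/-! Fischer spaces: primitivity (no proper modules). -/

set_option autoImplicit false

namespace Cfsg.Agent.Fis

open Subgroup
open scoped commutatorElement

variable {G : Type*} [Group G] {D : Set G} [TT D]

theorem solv_of_six [Finite G] {Y : Subgroup G} (h : ∀ k ∈ Y, k ^ 6 ∈ center G) :
    Group.IsSolvable Y := by
  set φ := QuotientGroup.mk' (center G)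
  have h1 : ∀ p : ℕ, p.Prime → p ∣ Nat.card (Y.map φ) → p = 2 ∨ p = 3 := by
    intro p hp hd
    haveI := Fact.mk hp
    obtain ⟨⟨x, k, hk, rfl⟩, hx⟩ := exists_prime_orderOf_dvd_card' p hd
    have h6 : (⟨φ k, k, hk, rfl⟩ : Y.map φ) ^ 6 = 1 := by
      apply Subtype.ext
      show φ k ^ 6 = 1
      rw [← map_pow]; exact (QuotientGroup.eq_one_iff _).2 (h k hk)
    have := orderOf_dvd_of_pow_eq_one h6
    rw [hx, show 6 = 2 * 3 from rfl, hp.dvd_mul] at this
    rcases this with h2 | h2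
    · exact Or.inl ((Nat.prime_dvd_prime_iff_eq hp Nat.prime_two).1 h2)
    · exact Or.inr ((Nat.prime_dvd_prime_iff_eq hp Nat.prime_three).1 h2)
  obtain ⟨a, m, hm, he⟩ := Nat.exists_eq_two_pow_mul_odd (n := Nat.card (Y.map φ)) Nat.card_pos.ne'
  have hm0 : m ≠ 0 := by rintro rfl; simp at hm
  have h3 : m = 3 ^ m.primeFactorsList.length := by
    refine Nat.eq_prime_pow_of_unique_prime_dvd hm0 (fun {p} hp hd => ?_)
    rcases h1 p hp (he ▸ hd.mul_left _) with rfl | rfl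
    · exact absurd hd (Odd.not_two_dvd_nat hm)
    · rfl
  have hs : Group.IsSolvable (Y.map φ) :=
    Cfsg.Agent.S0144.result 2 3 a _ Nat.prime_two Nat.prime_three (by rw [he, ← h3])
  have hc : Group.IsSolvable (center G) :=
    Group.isSolvable_of_comm (fun a b => Subtype.ext (Subgroup.mem_center_iff.1 b.2 a))
  exact Core.isSolvable_of_le (Core.isSolvable_comap_mk' hc hs) (le_comap_map _ _)

theorem quot_lemma [Finite G] (h : Cl D) (hp : ⁅commutator G, commutator G⁆ = commutator G)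
    (K : Subgroup G) [K.Normal] (hK : ∀ x y : Pt D, Cm x y → x.t * y.t ∈ K) (x y : Pt D) :
    x.t * y.t ∈ K := by
  set φ := QuotientGroup.mk' K
  have hφ : Function.Surjective φ := QuotientGroup.mk'_surjective K
  have hmem : ∀ g, φ g = 1 ↔ g ∈ K := fun g => QuotientGroup.eq_one_iff g
  have hsq : ∀ z : Pt D, φ z.t * φ z.t = 1 := fun z => by rw [← map_mul, z.sq, map_one]
  have heq : ∀ x y : Pt D, x.t * y.t ∈ K ↔ φ x.t = φ y.t := fun x y => by
    rw [← hmem, map_mul, mul_eq_one_iff_eq_inv, inv_eq_of_mul_eq_one_right (hsq y)]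
  rw [heq]
  by_cases h1 : ∃ z : Pt D, φ z.t = 1
  · obtain ⟨z, hz⟩ := h1
    have : ∀ w : Pt D, φ w.t = 1 := fun w => by
      obtain ⟨g, rfl⟩ := h.tr z w
      simp [smul_t, hz]
    rw [this, this]
  push Not at h1
  have hn := Cfsg.Agent.S1618.result (G := G ⧸ K) 3 Nat.prime_three (by norm_num) (D := φ '' D)
    (by
      rintro _ ⟨d, hd, rfl⟩
      exact orderOf_eq_prime (by rw [pow_two]; exact hsq ⟨d, hd⟩) (h1 ⟨d, hd⟩))
    (by
      refine ⟨φ x.t, ⟨x.t, x.mem, rfl⟩, ?_⟩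
      ext q; constructor
      · rintro ⟨d, hd, rfl⟩
        obtain ⟨g, hg⟩ := h.tr x ⟨d, hd⟩
        have : d = g * x.t * g⁻¹ := (congrArg Pt.t hg).symm
        exact isConj_iff.2 ⟨φ g, by rw [this]; simp⟩
      · intro hq
        obtain ⟨c, hc⟩ := isConj_iff.1 hq
        obtain ⟨g, rfl⟩ := hφ c
        exact ⟨(g • x).t, (g • x).mem, by rw [← hc]; simp [smul_t]⟩)
    (by rw [← MonoidHom.map_closure, h.gen]; exact map_top_of_surjective _ hφ)
    (by
      rintro _ ⟨d, hd, rfl⟩ _ ⟨e, he, rfl⟩ hne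
      have hc : ¬ Cm (⟨d, hd⟩ : Pt D) ⟨e, he⟩ := fun hc => hne ((heq _ _).1 (hK _ _ hc))
      have h3 : (φ d * φ e) ^ 3 = 1 := by
        rw [← map_mul, ← map_pow]; exact (congrArg φ (cube_eq_one hc)).trans (map_one _)
      rcases (Nat.dvd_prime Nat.prime_three).1 (orderOf_dvd_of_pow_eq_one h3) with h4 | h4
      · exact ⟨0, h4⟩
      · exact ⟨1, h4⟩)
  have hc : (commutator G).map φ = commutator (G ⧸ K) := by
    rw [commutator_def, commutator_def, map_commutator, map_top_of_surjective _ hφ]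
  have hb : commutator (G ⧸ K) = ⊥ := by
    refine Comp.perfect_solvable_eq_bot ?_ (Comp.solvable_of_nilpotent hn)
    rw [← hc, ← map_commutator, hp]
  have hcomm : φ x.t * φ y.t = φ y.t * φ x.t := by
    have : ⁅φ x.t, φ y.t⁆ ∈ commutator (G ⧸ K) := commutator_mem_commutator trivial trivial
    rw [hb, mem_bot, commutatorElement_eq_one_iff_mul_comm] at this; exact this
  by_cases hxy : Cm x y
  · exact (heq _ _).1 (hK _ _ hxy)
  · have h2 := congrArg (fun z : Pt D => φ z.t) (st_comm hxy)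
    simp only [st_t, map_mul] at h2
    rw [hcomm, mul_assoc, hsq, mul_one, ← hcomm, mul_assoc, hsq, mul_one] at h2
    exact h2.symm

/-- An invariant equivalence relation whose classes are modules. -/
structure Blk (R : Pt D → Pt D → Prop) : Prop where
  refl : ∀ x, R x x
  symm : ∀ {x y}, R x y → R y x
  trans : ∀ {x y z}, R x y → R y z → R x z
  smul : ∀ (g : G) {x y}, R x y → R (g • x) (g • y)
  mod : ∀ {m m' x}, R m m' → ¬ R m x → Cm m x → Cm m' x

namespace Blk

variable {R : Pt D → Pt D → Prop} (h : Blk R)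
include h

theorem st (c : Pt D) {x y : Pt D} (hr : R x y) : R (c ⋆ x) (c ⋆ y) := h.smul _ hr

theorem st_iff (c : Pt D) {x y : Pt D} : R (c ⋆ x) (c ⋆ y) ↔ R x y :=
  ⟨fun hr => by simpa using h.st c hr, h.st c⟩

theorem mod' {m m' x : Pt D} (h1 : R m m') (h2 : ¬ R m x) (h3 : ¬ Cm m x) : ¬ Cm m' x :=
  fun h4 => h3 (h.mod (h.symm h1) (fun h5 => h2 (h.trans h1 h5)) h4)

theorem st_self {m y : Pt D} (h1 : R m y) : R y (m ⋆ y) := by
  have := h.st m h1; rw [Fis.st_self] at this; exact h.trans (h.symm h1) this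

theorem act_eq {m m' : Pt D} (h1 : R m m') (y : Pt D) : R (m ⋆ y) (m' ⋆ y) := by
  by_cases h2 : R m y
  · exact h.trans (h.symm (h.st_self h2)) (h.st_self (h.trans (h.symm h1) h2))
  by_cases h3 : Cm m y
  · rw [h3.eq, (h.mod h1 h2 h3).eq]; exact h.refl y
  · rw [st_comm h3, st_comm (h.mod' h1 h2 h3)]; exact h.st y h1

theorem not_st {m s : Pt D} (h1 : ¬ R m s) : ¬ R m (m ⋆ s) := fun h2 => by
  have := h.st m h2; rw [Fis.st_self, st_st] at this; exact h1 this

theorem not_st' {m s : Pt D} (h1 : ¬ R m s) (h2 : ¬ Cm m s) : ¬ R s (m ⋆ s) := by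
  rw [st_comm h2]; exact h.not_st (fun h3 => h1 (h.symm h3))

/-- kernel of the action on the blocks -/
def ker : Subgroup G where
  carrier := {g | ∀ x, R (g • x) x}
  one_mem' := fun x => by rw [one_smul]; exact h.refl x
  mul_mem' := fun {a b} ha hb x => by rw [mul_smul]; exact h.trans (ha _) (hb _)
  inv_mem' := fun {a} ha x => by
    have := ha (a⁻¹ • x); rw [smul_inv_smul] at this; exact h.symm this

theorem mem_ker {g : G} : g ∈ h.ker ↔ ∀ x, R (g • x) x := Iff.rfl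

theorem ker_normal : h.ker.Normal := ⟨fun n hn g x => by
  have := h.smul g (hn (g⁻¹ • x))
  rwa [smul_inv_smul, ← mul_smul, ← mul_smul] at this⟩

theorem mul_mem_ker {u v : Pt D} (huv : R u v) : u.t * v.t ∈ h.ker := fun x => by
  rw [st_mul]
  have := h.act_eq huv (v ⋆ x); rwa [st_st] at this

theorem trans_on {m s r : Pt D} (h1 : ¬ R m s) (h2 : ¬ Cm m s) (h3 : R s r) :
    ∃ v, R m v ∧ v ⋆ m ⋆ s = r := by
  refine ⟨(m ⋆ s) ⋆ r, ?_, ?_⟩
  · have := h.st (m ⋆ s) h3; rwa [st_st_snd h2] at this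
  · exact st_st_fst (nc_symm (h.mod' h3 (h.not_st' h1 h2) (nc_st_self' h2)))

end Blk

/-- The hypotheses of Fischer's theorem. -/
structure Prim (D : Set G) [TT D] : Prop extends Cl D where
  perf : ⁅commutator G, commutator G⁆ = commutator G
  sol : ∀ N : Subgroup G, N.Normal → Group.IsSolvable N → N ≤ center G

/-- subgroup generated by products of pairs of a set of points -/
def XS (S : Set (Pt D)) : Subgroup G := closure {g | ∃ u ∈ S, ∃ v ∈ S, g = u.t * v.t}

theorem mul_mem_XS {S : Set (Pt D)} {u v : Pt D} (hu : u ∈ S) (hv : v ∈ S) : u.t * v.t ∈ XS S :=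
  subset_closure ⟨u, hu, v, hv, rfl⟩

theorem XS_le {S : Set (Pt D)} {K : Subgroup G} (h : ∀ u ∈ S, ∀ v ∈ S, u.t * v.t ∈ K) :
    XS S ≤ K := by
  rw [XS, closure_le]; rintro _ ⟨u, hu, v, hv, rfl⟩; exact h u hu v hv

theorem XS_fix {S : Set (Pt D)} {w : Pt D} (h : ∀ u ∈ S, Cm u w) {k : G} (hk : k ∈ XS S) :
    k • w = w := by
  refine XS_le (K := MulAction.stabilizer G w) (fun u hu v hv => ?_) hk
  rw [MulAction.mem_stabilizer_iff, st_mul, (h v hv).eq, (h u hu).eq]

theorem conj_mem_XS {S : Set (Pt D)} {g : G} (hg : ∀ u ∈ S, g • u ∈ S) {k : G} (hk : k ∈ XS S) :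
    g * k * g⁻¹ ∈ XS S := by
  refine XS_le (K := (XS S).comap (MulAut.conj g).toMonoidHom) (fun u hu v hv => ?_) hk
  have := mul_mem_XS (hg u hu) (hg v hv)
  simp only [smul_t] at this
  simpa [mul_assoc] using this

theorem mem_normalizer_XS {S : Set (Pt D)} {g : G} (hg : ∀ u ∈ S, g • u ∈ S)
    (hg' : ∀ u ∈ S, g⁻¹ • u ∈ S) : g ∈ normalizer (XS S : Set G) := by
  rw [mem_normalizer_iff]
  refine fun k => ⟨conj_mem_XS hg, fun hk => ?_⟩
  have := conj_mem_XS hg' hk
  simpa [mul_assoc] using this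

namespace Prim

variable [Finite G] (h : Prim D)
include h

theorem cc {P : Pt D → Prop} (hP : ∀ x y, P x → Cm x y → P y) {x : Pt D} (hx : P x)
    (y : Pt D) : P y := by
  have hB : Blk (Relation.ReflTransGen (Cm (D := D))) :=
    ⟨fun _ => .refl, fun {x y} hr => by
        induction hr with
        | refl => exact .refl
        | tail _ hc ih => exact .head hc.symm ih,
      fun h1 h2 => h1.trans h2,
      fun g x y hr => by
        induction hr with
        | refl => exact .refl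
        | tail _ hc ih => exact .tail ih (hc.smul g),
      fun _ h2 h3 => absurd (.single h3) h2⟩
  haveI := hB.ker_normal
  have h1 := quot_lemma h.toCl h.perf hB.ker (fun x y hc => hB.mul_mem_ker (.single hc))
  have h2 : Relation.ReflTransGen Cm x y := by
    refine h.toCl.ind (P := Relation.ReflTransGen Cm x) (fun s z hz => ?_) .refl y
    have := h1 s z z
    rw [st_mul, Fis.st_self] at this
    exact hz.trans (hB.symm this)
  induction h2 with
  | refl => exact hx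
  | tail _ hc ih => exact hP _ _ ih hc

theorem core {R : Pt D → Pt D → Prop} (hB : Blk R) {a b x0 : Pt D} (hab : R a b)
    (hx0 : ¬ R a x0)
    (h4 : ∀ s, ¬ R a s → ¬ Cm a s → ∃ z, ¬ R a z ∧ Cm a z ∧ ¬ R s z ∧ ¬ Cm s z) : a = b := by
  set S : Set (Pt D) := {u | R a u}
  have hle : XS S ≤ hB.ker := XS_le (fun u hu v hv => hB.mul_mem_ker (hB.trans (hB.symm hu) hv))
  have hfix : ∀ w, ¬ R a w → Cm a w → ∀ k ∈ XS S, k • w = w := fun w h1 h2 k hk =>
    XS_fix (fun u hu => hB.mod hu h1 h2) hk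
  have hsemi : ∀ k ∈ XS S, ∀ s, ¬ R a s → ¬ Cm a s → k • s = s → ∀ r, R s r → k • r = r := by
    intro k hk s h1 h2 h3 r hr
    obtain ⟨z, hz1, hz2, hz3, hz4⟩ := h4 s h1 h2
    obtain ⟨w, hw, rfl⟩ := hB.trans_on (fun h => hz3 (hB.symm h)) (nc_symm hz4) hr
    have hw1 : ¬ R a w := fun h => hz1 (hB.trans h (hB.symm hw))
    have hw2 : Cm a w := (hB.mod hw (fun h => hz1 (hB.symm h)) hz2.symm).symm
    rw [smul_st, smul_st, h3, hfix z hz1 hz2 k hk, hfix w hw1 hw2 k hk]
  have hout : ∀ k ∈ XS S, ∀ y, ¬ R a y → k ^ 6 • y = y := by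
    intro k hk y h1
    by_cases h2 : Cm a y
    · exact hfix y h1 h2 _ (pow_mem hk 6)
    obtain ⟨v, hv, hv'⟩ := hB.trans_on h1 h2 (hB.symm (hle hk y))
    have hva : v.t * a.t ∈ XS S := mul_mem_XS hv (hB.refl a)
    have h3 : ∀ r, R y r → k • r = (v.t * a.t) • r := by
      intro r hr
      have := hsemi (k⁻¹ * (v.t * a.t)) (mul_mem (inv_mem hk) hva) y h1 h2
        (by rw [mul_smul, st_mul, hv', inv_smul_smul]) r hr
      rw [mul_smul, inv_smul_eq_iff] at this; exact this.symm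
    have h5 : ∀ n : ℕ, k ^ n • y = (v.t * a.t) ^ n • y := by
      intro n
      induction n with
      | zero => simp
      | succ n ih =>
        rw [pow_succ', pow_succ', mul_smul, mul_smul, ← ih]
        exact h3 _ (hB.symm (hle (pow_mem hk n) y))
    rw [h5, six_eq_one, one_smul]
  obtain ⟨y, hy1, hy2⟩ : ∃ y, ¬ R a y ∧ ¬ Cm a y := by
    by_contra hne
    push Not at hne
    refine hx0 (h.toCl.ind' (P := R a) (fun x y hx hxy => ?_) (hB.refl a) x0)
    by_contra hy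
    exact hxy (hB.mod hx hy (hne y hy))
  have hcen : ∀ k ∈ XS S, k ^ 6 ∈ center G := by
    intro k hk
    rw [h.toCl.mem_center_iff]
    intro m
    by_cases hm : R a m
    · have h1 : ¬ R a (y ⋆ m) := fun h1 =>
        hB.not_st' (m := y) (s := m) (fun h2 => hy1 (hB.trans hm (hB.symm h2)))
          (nc_symm (hB.mod' hm hy1 hy2)) (hB.trans (hB.symm hm) h1)
      conv_lhs => rw [← st_st y m]
      rw [smul_st, hout k hk y hy1, hout k hk _ h1, st_st]
    · exact hout k hk m hm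
  have hsol := solv_of_six hcen
  haveI := hB.ker_normal
  have hR : XS S ≤ Comp.Rad (fun N => Group.IsSolvable N) hB.ker := by
    refine Comp.le_Rad hle (fun k hk => mem_normalizer_XS (fun u hu => ?_) (fun u hu => ?_)) hsol
    · exact hB.trans hu (hB.symm (hk u))
    · exact hB.trans hu (hB.symm (inv_mem hk u))
  have hN : (Comp.Rad (fun N => Group.IsSolvable N) hB.ker).Normal := by
    rw [← normalizer_eq_top_iff, eq_top_iff]
    refine le_trans ?_ (Comp.Rad_normalizer (fun g N => Comp.solvable_map_iff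
      (MulAut.conj g).injective) _)
    rw [normalizer_eq_top]
  have hc := h.sol _ hN (Comp.Rad_prop (P := fun N => Group.IsSolvable N) _ inferInstance
    (fun A B => Comp.solvable_sup))
    (hR (mul_mem_XS (hB.refl a) hab))
  have := h.toCl.mem_center_iff.1 hc y
  rw [st_mul, st_eq_iff] at this
  exact st_left_inj hy2 this.symm

end Prim

/-- modules -/
def IsMod (M : Set (Pt D)) : Prop := ∀ x ∉ M, ∀ m ∈ M, ∀ m' ∈ M, Cm m x → Cm m' x

theorem IsMod.union {M N : Set (Pt D)} (hM : IsMod M) (hN : IsMod N) {p : Pt D} (h1 : p ∈ M)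
    (h2 : p ∈ N) : IsMod (M ∪ N) := by
  intro x hx m hm m' hm' hc
  have hxM : x ∉ M := fun h => hx (Or.inl h)
  have hxN : x ∉ N := fun h => hx (Or.inr h)
  have hp : Cm p x := by
    rcases hm with hm | hm
    · exact hM x hxM m hm p h1 hc
    · exact hN x hxN m hm p h2 hc
  rcases hm' with hm' | hm'
  · exact hM x hxM p h1 m' hm' hp
  · exact hN x hxN p h2 m' hm' hp

theorem IsMod.smul {M : Set (Pt D)} (hM : IsMod M) (g : G) : IsMod {x | g • x ∈ M} :=
  fun x hx m hm m' hm' hc => (cm_smul g).1 (hM _ hx _ hm _ hm' (hc.smul g))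

namespace Prim

variable [Finite G] (h : Prim D)
include h

theorem union_ne {M N : Set (Pt D)} (hM : IsMod M) (hN : IsMod N) {u w : Pt D} (hu : u ∉ N)
    (hw : w ∉ M) : ∃ x, x ∉ M ∪ N := by
  by_contra hne
  push Not at hne
  have h1 : ∀ x, x ∉ N → x ∈ M := fun x hx => (hne x).resolve_right hx
  have hwN : w ∈ N := (hne w).resolve_left hw
  have key : ∀ x ∉ N, ∀ n ∈ N, Cm n x ↔ Cm u w := by
    intro x hx n hn
    constructor
    · intro hc
      exact hM w hw x (h1 x hx) u (h1 u hu) (hN x hx n hn w hwN hc).symm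
    · intro hc
      exact hN x hx w hwN n hn (hM w hw u (h1 u hu) x (h1 x hx) hc).symm
  by_cases hc : Cm u w
  · refine hu (h.toCl.ind' (P := (· ∈ N)) (fun x y hx hxy => ?_) hwN u)
    by_contra hy; exact hxy ((key y hy x hx).2 hc)
  · refine hu (h.cc (P := (· ∈ N)) (fun x y hx hxy => ?_) hwN u)
    by_contra hy; exact hc ((key y hy x hx).1 hxy)

/-- **No proper modules.** -/
theorem mod {M0 : Set (Pt D)} (hM0 : IsMod M0) {a b : Pt D} (ha0 : a ∈ M0) (hb0 : b ∈ M0)
    (hab : a ≠ b) (x0 : Pt D) : x0 ∈ M0 := by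
  by_contra hx0
  obtain ⟨M, -, ⟨hM, ha, hb, x1, hx1⟩, hmax⟩ := Finite.exists_le_maximal
    (p := fun M : Set (Pt D) => IsMod M ∧ a ∈ M ∧ b ∈ M ∧ ∃ x, x ∉ M) ⟨hM0, ha0, hb0, x0, hx0⟩
  have hsub : ∀ N : Set (Pt D), IsMod (M ∪ N) → (∃ x, x ∉ M ∪ N) → N ⊆ M := fun N h1 h2 x hx =>
    hmax ⟨h1, Or.inl ha, Or.inl hb, h2⟩ Set.subset_union_left (Or.inr hx)
  have hblk0 : ∀ (g : G) (x : Pt D), x ∈ M → g • x ∈ M → ∀ y, g • y ∈ M → y ∈ M := by
    intro g x hx hgx y hy
    refine hsub {x | g • x ∈ M} (hM.union (hM.smul g) hx hgx) ?_ hy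
    exact h.union_ne hM (hM.smul g) (u := g⁻¹ • x1) (by simpa using hx1) hx1
  have hblk : ∀ (g : G) (x : Pt D), x ∈ M → g • x ∈ M → ∀ y ∈ M, g • y ∈ M := by
    intro g x hx hgx y hy
    exact hblk0 g⁻¹ (g • x) hgx (by simpa using hx) _ (by simpa using hy)
  set R : Pt D → Pt D → Prop := fun x y => ∃ g : G, g • x ∈ M ∧ g • y ∈ M with hR
  have hB : Blk R := by
    refine ⟨fun x => ?_, fun ⟨g, h1, h2⟩ => ⟨g, h2, h1⟩, ?_, ?_, ?_⟩
    · obtain ⟨g, hg⟩ := h.tr x a
      exact ⟨g, hg ▸ ha, hg ▸ ha⟩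
    · rintro x y z ⟨g, h1, h2⟩ ⟨k, h3, h4⟩
      refine ⟨g, h1, ?_⟩
      have := hblk (g * k⁻¹) (k • y) h3 (by rwa [mul_smul, inv_smul_smul]) _ h4
      rwa [mul_smul, inv_smul_smul] at this
    · rintro g x y ⟨k, h1, h2⟩
      exact ⟨k * g⁻¹, by rwa [mul_smul, inv_smul_smul], by rwa [mul_smul, inv_smul_smul]⟩
    · rintro m m' x ⟨g, h1, h2⟩ h3 h4
      exact (cm_smul g).1 (hM (g • x) (fun h5 => h3 ⟨g, h1, h5⟩) _ h1 _ h2 (h4.smul g))
  have hRa : ∀ y, R a y ↔ y ∈ M := fun y =>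
    ⟨fun ⟨g, h1, h2⟩ => hblk0 g a ha h1 y h2, fun hy => ⟨1, by simpa using ha, by simpa using hy⟩⟩
  refine hab (h.core hB ((hRa b).2 hb) (fun h1 => hx1 ((hRa _).1 h1)) ?_)
  intro s hs1 hs2
  by_contra hne
  push Not at hne
  have hc1 : ¬ R a (a ⋆ s) := hB.not_st hs1
  have hc2 : ¬ R s (a ⋆ s) := hB.not_st' hs1 hs2
  have key : ∀ x, ¬ R a x → ¬ R s x → Cm s x → Cm a x := by
    intro x h1 h2 h3
    obtain ⟨c, e1, e2⟩ : ∃ c, c ⋆ s = a ∧ c ⋆ a = s := ⟨_, st_st_snd hs2, st_st_fst hs2⟩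
    have h4 := hne (c ⋆ x) (by rw [← e1, hB.st_iff]; exact h2)
      (by have := h3.st c; rwa [e1] at this) (by rw [← e2, hB.st_iff]; exact h1)
    rwa [← e2, cm_st] at h4
  refine hs1 ((hRa s).2 (hsub {y | R s y} ?_ ⟨a ⋆ s, ?_⟩ (hB.refl s)))
  · intro x hx m hm m' hm' hc
    have h1 : ¬ R a x := fun h => hx (Or.inl ((hRa x).1 h))
    have h2 : ¬ R s x := fun h => hx (Or.inr h)
    have h3 : Cm a x := by
      rcases hm with hm | hm
      · have := (hRa m).2 hm
        exact hB.mod (hB.symm this) (fun h => h1 (hB.trans this h)) hc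
      · exact key x h1 h2 (hB.mod (hB.symm hm) (fun h => h2 (hB.trans hm h)) hc)
    rcases hm' with hm' | hm'
    · exact hB.mod ((hRa m').2 hm') h1 h3
    · exact hB.mod hm' h2 (hne x h1 h3 h2)
  · rintro (h1 | h1)
    · exact hc1 ((hRa _).2 h1)
    · exact hc2 h1

end Prim

end Cfsg.Agent.Fis
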