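import Cfsg.Agent.Fis.B

/-! Fischer spaces: transitivity results (rank three). -/

set_option autoImplicit false

namespace Cfsg.Agent.Fis

open Subgroup
open scoped commutatorElement

variable {G : Type*} [Group G] {D : Set G} [TT D]

theorem swap2 {d a b : Pt D} (ha : ¬ Cm d a) (hb : ¬ Cm d b) (h : Cm a b) :
    d ⋆ (a ⋆ b ⋆ d) ⋆ a = b := by
  rw [st_st_left a, st_self, st_st_left b, h.eq', st_comm ha, h.comm, st_st, st_st_mid (nc_symm hb)]

theorem swap2' {d a b : Pt D} (ha : ¬ Cm d a) (hb : ¬ Cm d b) (h : Cm a b) :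
    d ⋆ (a ⋆ b ⋆ d) ⋆ b = a := by
  rw [h.comm, swap2 hb ha h.symm]

theorem Cl.exists_swap (h : Cl D) {a b : Pt D} (hab : a ≠ b) : ∃ g : G, g • a = b ∧ g • b = a := by
  by_cases hc : Cm a b
  · obtain ⟨d, h1, h2⟩ := h.diam hab hc
    exact ⟨d.t * (a ⋆ b ⋆ d).t, by rw [st_mul, swap2 h1 h2 hc], by rw [st_mul, swap2' h1 h2 hc]⟩
  · exact ⟨(a ⋆ b).t, st_st_fst hc, st_st_snd hc⟩

theorem ncard_smul (g : G) (S : Set (Pt D)) : {w | g • w ∈ S}.ncard = S.ncard := by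
  have : S = (fun w => g • w) '' {w | g • w ∈ S} := by
    ext w; constructor
    · intro hw; exact ⟨g⁻¹ • w, by simpa using hw, by simp⟩
    · rintro ⟨v, hv, rfl⟩; exact hv
  conv_rhs => rw [this]
  exact (Set.ncard_image_of_injective _ (MulAction.injective g)).symm

/-- common neighbours in the non-commuting graph -/
def AA (u v : Pt D) : Set (Pt D) := {w | ¬ Cm w u ∧ ¬ Cm w v}
/-- common neighbours in the commuting graph -/
def DD (u v : Pt D) : Set (Pt D) := {w | Cm w u ∧ Cm w v}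
/-- points commuting with `x`, other than `x` -/
def Dx (x : Pt D) : Set (Pt D) := {y | y ≠ x ∧ Cm x y}
/-- the group generated by `Dx x` -/
def HH (x : Pt D) : Subgroup G := closure (Pt.t '' Dx x)

theorem ncard_AA (g : G) (u v : Pt D) : (AA (g • u) (g • v)).ncard = (AA u v).ncard := by
  rw [← ncard_smul g]; congr 1; ext w; simp [AA, cm_smul]
theorem ncard_DD (g : G) (u v : Pt D) : (DD (g • u) (g • v)).ncard = (DD u v).ncard := by
  rw [← ncard_smul g]; congr 1; ext w; simp [DD, cm_smul]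

theorem t_mem_HH {x y : Pt D} (h : y ∈ Dx x) : y.t ∈ HH x := subset_closure ⟨y, h, rfl⟩

theorem HH_fix {x : Pt D} {g : G} (hg : g ∈ HH x) : g • x = x :=
  closure_smul_mem (P := fun y => y = x) (fun s hs y hy => by rw [hy]; exact hs.2.eq') hg x rfl

theorem Dx_smul {x y : Pt D} {g : G} (hg : g • x = x) (hy : y ∈ Dx x) : g • y ∈ Dx x :=
  ⟨fun h => hy.1 (MulAction.injective g (h.trans hg.symm)), by rw [← hg]; exact hy.2.smul g⟩

theorem Dx_st {x y z : Pt D} (hy : y ∈ Dx x) (hz : z ∈ Dx x) : y ⋆ z ∈ Dx x :=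
  Dx_smul hy.2.eq' hz

theorem image_Dx (x : Pt D) : Pt.t '' Dx x = {y : G | y ∈ D ∧ y ≠ x.t ∧ Commute x.t y} := by
  ext y; constructor
  · rintro ⟨z, hz, rfl⟩; exact ⟨z.mem, fun h => hz.1 (Pt.ext h), cm_iff.1 hz.2⟩
  · rintro ⟨h1, h2, h3⟩
    exact ⟨⟨y, h1⟩, ⟨fun h => h2 (congrArg Pt.t h), cm_iff.2 h3⟩, rfl⟩

namespace Prim

variable [Finite G] (h : Prim D)
include h

theorem sep {a b : Pt D} (hab : a ≠ b) : ∃ x, x ≠ a ∧ Cm a x ∧ ¬ Cm b x := by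
  by_contra hne
  push Not at hne
  obtain ⟨g, h1, h2⟩ := h.toCl.exists_swap hab
  have hne' : ∀ x, x ≠ b → Cm b x → Cm a x := by
    intro x hx hc
    have := hne (g • x) (by rw [← h2]; exact fun e => hx (MulAction.injective g e))
      (by rw [← h2]; exact hc.smul g)
    rwa [← h1, cm_smul] at this
  have hM : IsMod ({a, b} : Set (Pt D)) := by
    intro x hx m hm m' hm' hc
    simp only [Set.mem_insert_iff, Set.mem_singleton_iff, not_or] at hx hm hm'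
    rcases hm with rfl | rfl <;> rcases hm' with rfl | rfl
    · exact hc
    · exact hne x hx.1 hc
    · exact hne' x hx.2 hc
    · exact hc
  have hall := h.mod hM (Or.inl rfl) (Or.inr rfl) hab
  by_cases hc : Cm a b
  · obtain ⟨z, h3, h4⟩ := h.toCl.diam hab hc
    rcases hall z with rfl | rfl
    · exact h3 (Cm.refl _)
    · exact h4 (Cm.refl _)
  · rcases hall (a ⋆ b) with e | e
    · exact nc_st_self hc (by rw [e]; exact Cm.refl _)
    · exact hc e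

theorem sep2 {x y z : Pt D} (hx : x ∈ Dx z) (hy : y ∈ Dx z)
    (hw : ∀ w, ¬ Cm z w → (Cm y w ↔ Cm x w)) : x = y := by
  by_contra hxy
  set T : Set (Pt D) := {t | t ∈ Dx z ∧ ∀ w, ¬ Cm z w → (Cm t w ↔ Cm x w)}
  have hT : ∀ (s : Pt D) (r : Pt D), Cm s z → ∀ t ∈ T, Cm s t → r ∈ T → s ⋆ r ∈ T := by
    intro s r hs t ht hst hr
    refine ⟨Dx_smul hs.eq hr.1, fun w hw => ?_⟩
    have hw' : ¬ Cm z (s ⋆ w) := nc_st_right hs.symm hw
    rw [← cm_st_iff, hr.2 _ hw', ← ht.2 _ hw', cm_st_iff, hst.eq, ht.2 _ hw]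
  have hM : IsMod T := by
    intro w hw' m hm m' hm' hc
    by_cases h1 : Cm z w
    · by_contra h2
      apply hw'
      have h3 := hT w m' h1.symm m hm hc.symm hm'
      have h4 := hT m' _ hm'.1.2.symm m' hm' (Cm.refl _) h3
      rwa [st_st_mid (nc_symm h2)] at h4
    · rw [hm'.2 w h1, ← hm.2 w h1]; exact hc
  exact (h.mod hM (a := x) ⟨hx, fun _ _ => Iff.rfl⟩ ⟨hy, hw⟩ hxy z).1.1 rfl

omit [Finite G] h in
theorem trD_aux {x y z : Pt D} (hy : y ∈ Dx x) (hz : z ∈ Dx x) (hn : ¬ ∃ g ∈ HH x, g • y = z) :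
    y ≠ z ∧ Cm y z ∧ ∀ w, ¬ Cm w y → ¬ Cm w z → ¬ Cm w x := by
  have key : ∀ u ∈ Dx x, ∀ v ∈ Dx x, ¬ Cm u v → ∃ g ∈ HH x, g • u = v := fun u hu v hv hc =>
    ⟨_, t_mem_HH (Dx_st hu hv), st_st_fst hc⟩
  refine ⟨fun e => hn ⟨1, one_mem _, by rw [one_smul, e]⟩, ?_, fun w h1 h2 h3 => ?_⟩
  · by_contra hc; exact hn (key y hy z hz hc)
  · have hw : w ∈ Dx x := ⟨fun e => h1 (e ▸ hy.2), h3.symm⟩
    obtain ⟨g, hg, e1⟩ := key y hy w hw (nc_symm h1)
    obtain ⟨k, hk, e2⟩ := key w hw z hz h2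
    exact hn ⟨k * g, mul_mem hk hg, by rw [mul_smul, e1, e2]⟩

/-- `⟨D_x⟩` is transitive on `D_x`. -/
theorem trD {x y z : Pt D} (hy : y ∈ Dx x) (hz : z ∈ Dx x) : ∃ g ∈ HH x, g • y = z := by
  by_contra hn
  obtain ⟨hyz, hc, hw⟩ := trD_aux hy hz hn
  obtain ⟨g, e1, e2⟩ := h.toCl.exists_swap hy.1
  have hz' : g • z ∈ Dx x :=
    ⟨fun e => hyz (MulAction.injective g (e1.trans e.symm)), e1 ▸ hc.smul g⟩
  have hz'' : g • z ∈ Dx y :=
    ⟨fun e => hz.1 (MulAction.injective g (e.trans e2.symm)), e2 ▸ hz.2.smul g⟩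
  have hw' : ∀ w, ¬ Cm w x → ¬ Cm w (g • z) → ¬ Cm w y := by
    intro w h1 h2
    rw [← e1] at h1
    rw [← e2]
    rw [cm_smul_iff] at h1 h2 ⊢
    exact hw _ h1 h2
  by_cases hE : ∃ k ∈ HH x, k • y = g • z
  · obtain ⟨k, hk, e3⟩ := hE
    have c1 : (AA y z).ncard = (AA x y).ncard := by
      rw [← ncard_AA g y z, e1, ← e3, ← ncard_AA k x y, HH_fix hk]
    have c2 : AA y z = AA x y :=
      Set.eq_of_subset_of_ncard_le (fun w hw1 => ⟨hw w hw1.1 hw1.2, hw1.1⟩) c1.ge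
    refine hz.1 (h.sep2 (z := y) ⟨hyz.symm, hc⟩ ⟨hy.1.symm, hy.2.symm⟩ (fun w h1 => ?_))
    have := Set.ext_iff.1 c2 w
    simp only [AA, Set.mem_setOf_eq, nc_symm h1, not_false_eq_true, true_and, and_true,
      not_iff_not] at this
    rw [cm_comm, ← this, cm_comm]
  · obtain ⟨h1, h2, h3⟩ := trD_aux hy hz' hE
    refine hy.1 (h.sep2 (z := g • z) ⟨h1, h2.symm⟩ ⟨hz'.1.symm, hz'.2.symm⟩ (fun w h4 => ?_))
    constructor
    · intro h5; by_contra h6; exact h3 w (nc_symm h6) (nc_symm h4) h5.symm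
    · intro h5; by_contra h6; exact hw' w (nc_symm h6) (nc_symm h4) h5.symm

theorem tr2 {a b c d : Pt D} (hb : b ∈ Dx a) (hd : d ∈ Dx c) : ∃ g : G, g • a = c ∧ g • b = d := by
  obtain ⟨g, rfl⟩ := h.tr a c
  obtain ⟨k, hk, e⟩ := h.trD (x := g • a) (y := g • b)
    ⟨fun e => hb.1 (MulAction.injective g e), hb.2.smul g⟩ hd
  exact ⟨k * g, by rw [mul_smul, HH_fix hk], by rw [mul_smul, e]⟩

theorem exists_DD (d a : Pt D) : ∃ w, w ∈ DD d a := by
  refine h.cc (P := fun a => ∃ w, w ∈ DD d a) ?_ ⟨d, Cm.refl d, Cm.refl d⟩ a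
  rintro v a ⟨u, hud, huv⟩ hva
  by_cases h1 : Cm d a
  · exact ⟨d, Cm.refl d, h1⟩
  by_cases h2 : Cm v d
  · exact ⟨v, h2, hva⟩
  by_cases h3 : Cm a u
  · exact ⟨u, hud, h3.symm⟩
  have := a4_cm h2 h1 h3 hva huv.symm hud.symm
  exact ⟨_, this.1.symm, this.2.symm⟩

theorem trA {d a b : Pt D} (ha : ¬ Cm d a) (hb : ¬ Cm d b) : ∃ g : G, g • d = d ∧ g • a = b := by
  set O : Pt D → Pt D → Prop := fun a b => ∃ g : G, g • d = d ∧ g • a = b with hO
  have Os : ∀ {a b}, O a b → O b a := fun ⟨g, h1, h2⟩ =>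
    ⟨g⁻¹, by rw [inv_smul_eq_iff, h1], by rw [inv_smul_eq_iff, h2]⟩
  have Ot : ∀ {a b c}, O a b → O b c → O a c := fun ⟨g, h1, h2⟩ ⟨k, h3, h4⟩ =>
    ⟨k * g, by rw [mul_smul, h1, h3], by rw [mul_smul, h2, h4]⟩
  have o2 : ∀ {a b}, ¬ Cm d a → ¬ Cm d b → Cm a b → O a b := fun {a b} ha hb hc =>
    ⟨d.t * (a ⋆ b ⋆ d).t, by rw [st_mul, (s4_cm ha hb hc).eq', st_self],
      by rw [st_mul, swap2 ha hb hc]⟩
  have o3 : ∀ {a b f}, ¬ Cm d a → ¬ Cm d (a ⋆ b) → f ∈ DD d b → ¬ Cm f a → O a (a ⋆ b) := by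
    intro a b f ha hab hf hfa
    refine Ot ⟨f.t, hf.1.eq, rfl⟩ (o2 (nc_st_right hf.1.symm ha) hab ?_)
    rw [← st_def, st_comm hfa]; exact hf.2.st a
  have dich : ∀ {a b}, ¬ Cm d a → ¬ Cm d b → ¬ O a b → DD d a ⊆ DD d b ∨ DD d b ⊆ DD d a := by
    intro a b ha hb hn
    have hab : ¬ Cm a b := fun hc => hn (o2 ha hb hc)
    have hab' : ¬ Cm d (a ⋆ b) := fun hc => hn ⟨(a ⋆ b).t, hc.eq', st_st_fst hab⟩
    by_contra hne
    simp only [not_or, Set.not_subset] at hne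
    obtain ⟨⟨f, hf, hf'⟩, ⟨k, hk, hk'⟩⟩ := hne
    have h1 := o3 ha hab' hk (fun hc => hk' ⟨hk.1, hc⟩)
    have h2 := o3 hb (st_comm hab ▸ hab') hf (fun hc => hf' ⟨hf.1, hc⟩)
    rw [← st_comm hab] at h2
    exact hn (Ot h1 (Os h2))
  have main : ∀ {a b}, ¬ Cm d a → ¬ Cm d b → (DD d a).ncard ≤ (DD d b).ncard → O a b := by
    intro a b ha hb hle
    by_contra hn
    obtain ⟨f, hf⟩ := h.exists_DD d a
    obtain ⟨x, h1, h2, h3⟩ := h.sep (ne_of_nc hb)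
    obtain ⟨k, hk, e⟩ := h.trD (x := d) (y := x) (z := f) ⟨h1, h2⟩
      ⟨fun e => ha (e ▸ hf.2), hf.1.symm⟩
    have hkd := HH_fix hk
    have hb' : ¬ Cm d (k • b) := by rw [← hkd, cm_smul]; exact hb
    have hsub : DD d a ⊆ DD d (k • b) := by
      rcases dich ha hb' (fun ho => hn (Ot ho (Os ⟨k, hkd, rfl⟩))) with h4 | h4
      · exact h4
      · refine (Set.eq_of_subset_of_ncard_le h4 ?_).ge
        rw [← ncard_DD k d b, hkd] at hle; exact hle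
    have := (hsub hf).2
    rw [← e, cm_smul] at this
    exact h3 this.symm
  rcases le_total (DD d a).ncard (DD d b).ncard with h1 | h1
  · exact main ha hb h1
  · exact Os (main hb ha h1)

end Prim

theorem cm_of_pgroup {P : Subgroup G} (hP : IsPGroup 2 P) {a b : Pt D} (ha : a.t ∈ P)
    (hb : b.t ∈ P) : Cm a b := by
  by_contra hc
  obtain ⟨k, hk⟩ := hP ⟨a.t * b.t, mul_mem ha hb⟩
  have hk' : (a.t * b.t) ^ 2 ^ k = 1 := congrArg Subtype.val hk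
  have h1 := Nat.dvd_gcd (orderOf_dvd_of_pow_eq_one hk') (orderOf_dvd_of_pow_eq_one (cube_eq_one hc))
  rw [(Nat.Coprime.pow_left k (by norm_num : Nat.Coprime 2 3)).gcd_eq_one, Nat.dvd_one,
    orderOf_eq_one_iff, mul_eq_one_iff_eq_inv, b.inv] at h1
  exact ne_of_nc hc (Pt.ext h1)

theorem pgroup_closure {E : Set G} (hE : E ⊆ D) (hc : ∀ a ∈ E, ∀ b ∈ E, Commute a b) :
    IsPGroup 2 (closure E) := by
  have := Subgroup.isMulCommutative_closure (k := E) hc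
  rintro ⟨g, hg⟩
  refine ⟨1, Subtype.ext ?_⟩
  show g ^ 2 ^ 1 = 1
  induction hg using closure_induction with
  | mem x hx => simpa [pow_two] using TT.sq x (hE hx)
  | one => simp
  | mul x y hx hy ihx ihy =>
    rw [(show Commute x y from setLike_mul_comm hx hy).mul_pow, ihx, ihy, one_mul]
  | inv x hx ih => rw [inv_pow, ih, inv_one]

theorem prim_of {D : Set G} [TT D] (hsol : ∀ N : Subgroup G, N.Normal → Group.IsSolvable N → N = ⊥)
    (hperf : ⁅commutator G, commutator G⁆ = commutator G)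
    (hD : Cfsg.IsThreeTranspositionClass D) : Prim D :=
  ⟨cl_of_class hD, hperf, fun N h1 h2 => by rw [hsol N h1 h2]; exact bot_le⟩

end Cfsg.Agent.Fis
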