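import Cfsg.Agent.Fis.C
import Cfsg.Agent.Core.Cores

/-! Fischer spaces: counting lemmas, isomorphism criterion and the `S₅` case. -/

set_option autoImplicit false

namespace Cfsg.Agent.Fis

open Subgroup
open scoped commutatorElement

variable {G : Type*} [Group G] {D : Set G} [TT D]

theorem card_modEq [Finite G] {p : ℕ} [Fact p.Prime] {P : Subgroup G} (hP : IsPGroup p P)
    (S : Set (Pt D)) (hS : ∀ k ∈ P, ∀ x ∈ S, k • x ∈ S) :
    S.ncard ≡ {x ∈ S | ∀ k ∈ P, k • x = x}.ncard [MOD p] := by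
  let A : SubMulAction P (Pt D) := ⟨S, fun k x hx => hS k k.2 x hx⟩
  have h1 := hP.card_modEq_card_fixedPoints A
  have h2 : Nat.card (MulAction.fixedPoints P A) = {x ∈ S | ∀ k ∈ P, k • x = x}.ncard := by
    rw [← Nat.card_coe_set_eq]
    refine Nat.card_congr ⟨fun x => ⟨x.1.1, x.1.2, fun k hk => congrArg Subtype.val (x.2 ⟨k, hk⟩)⟩,
      fun x => ⟨⟨x.1, x.2.1⟩, fun k => Subtype.ext (x.2.2 k k.2)⟩, fun _ => rfl, fun _ => rfl⟩
  rw [h2] at h1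
  exact h1

theorem card_modEq_elt [Finite G] {p : ℕ} [Fact p.Prime] {g : G} (hg : g ^ p = 1)
    (S : Set (Pt D)) (hS : ∀ x ∈ S, g • x ∈ S) :
    S.ncard ≡ {x ∈ S | g • x = x}.ncard [MOD p] := by
  have hP : IsPGroup p (zpowers g) := by
    rintro ⟨_, k, rfl⟩
    refine ⟨1, Subtype.ext ?_⟩
    show (g ^ k) ^ p ^ 1 = 1
    rw [pow_one, ← zpow_natCast, ← zpow_mul, mul_comm, zpow_mul, zpow_natCast, hg, one_zpow]
  have hS' : ∀ (n : ℕ), ∀ x ∈ S, g ^ n • x ∈ S := by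
    intro n
    induction n with
    | zero => simp
    | succ n ih => intro x hx; rw [pow_succ, mul_smul]; exact ih _ (hS x hx)
  have := card_modEq hP S (fun k hk x hx => by
    obtain ⟨n, rfl⟩ := (mem_powers_iff_mem_zpowers.2 hk); exact hS' n x hx)
  convert this using 2
  ext x
  simp only [Set.mem_setOf_eq, and_congr_right_iff]
  intro _
  exact ⟨fun h k hk => (zpowers_le (H := MulAction.stabilizer G x)).2 h hk,
    fun h => h g (mem_zpowers g)⟩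

theorem pgroup_of_nilpotent [Finite G] {p : ℕ} [Fact p.Prime] {N : Subgroup G}
    (hN : Group.IsNilpotent N) {T : Set G} (hT : ∀ g ∈ T, g ∈ N ∧ g ^ p = 1) :
    IsPGroup p (closure T) := by
  obtain ⟨P⟩ : Nonempty (Sylow p N) := inferInstance
  have hu := Sylow.unique_of_normal P inferInstance
  refine (P.2.map N.subtype).to_le ?_
  rw [closure_le]
  intro g hg
  have h1 : IsPGroup p (zpowers (⟨g, (hT g hg).1⟩ : N)) := by
    rintro ⟨_, k, rfl⟩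
    refine ⟨1, Subtype.ext (Subtype.ext ?_)⟩
    show (g ^ k) ^ p ^ 1 = 1
    rw [pow_one, ← zpow_natCast, ← zpow_mul, mul_comm, zpow_mul, zpow_natCast, (hT g hg).2,
      one_zpow]
  obtain ⟨Q, hQ⟩ := h1.exists_le_sylow
  rw [Subsingleton.elim Q P] at hQ
  exact ⟨_, hQ (mem_zpowers _), rfl⟩

theorem three_group [Finite G] {S : Set (Pt D)} (hS : ∀ u ∈ S, ∀ v ∈ S, u ⋆ v ∈ S)
    (hc : ∀ u ∈ S, ∀ v ∈ S, u ≠ v → ¬ Cm u v) : IsPGroup 3 (XS S) := by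
  rcases S.eq_empty_or_nonempty with rfl | ⟨s, hs⟩
  · have : XS (∅ : Set (Pt D)) = ⊥ := by simp [XS]
    rw [this]; exact IsPGroup.of_bot
  set H := closure (Pt.t '' S)
  have hm : ∀ u ∈ S, u.t ∈ H := fun u hu => subset_closure ⟨u, hu, rfl⟩
  have hn := Cfsg.Agent.S1618.result (G := H) 3 Nat.prime_three (by norm_num)
    (D := ((↑) : H → G) ⁻¹' (Pt.t '' S))
    (by
      rintro d ⟨u, hu, e⟩
      rw [← orderOf_coe, ← e]
      exact orderOf_eq_prime (by rw [pow_two]; exact u.sq) u.ne_one)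
    (by
      refine ⟨⟨s.t, hm s hs⟩, ⟨s, hs, rfl⟩, ?_⟩
      ext q; constructor
      · rintro ⟨u, hu, e⟩
        by_cases hsu : s = u
        · subst hsu
          have : q = ⟨s.t, hm s hs⟩ := Subtype.ext e.symm
          rw [this]; exact IsConj.refl _
        · refine isConj_iff.2 ⟨⟨(s ⋆ u).t, hm _ (hS s hs u hu)⟩, Subtype.ext ?_⟩
          rw [← e]; exact congrArg Pt.t (st_st_fst (hc s hs u hu hsu))
      · intro hq
        obtain ⟨c, hc'⟩ := isConj_iff.1 hq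
        exact ⟨(c : G) • s, closure_smul_mem (P := (· ∈ S)) hS c.2 s hs,
          congrArg Subtype.val hc'⟩)
    closure_closure_coe_preimage
    (by
      rintro d ⟨u, hu, e⟩ d' ⟨v, hv, e'⟩ hne
      have huv : u ≠ v := fun h => hne (Subtype.ext (by rw [← e, ← e', h]))
      have h3 : (d * d') ^ 3 = 1 := Subtype.ext (by
        have := cube_eq_one (hc u hu v hv huv); rw [e, e'] at this; exact this)
      rcases (Nat.dvd_prime Nat.prime_three).1 (orderOf_dvd_of_pow_eq_one h3) with h4 | h4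
      · exact ⟨0, h4⟩
      · exact ⟨1, h4⟩)
  have hn' := Comp.nilpotent_map H.subtype hn
  rw [map_subtype_commutator] at hn'
  refine pgroup_of_nilpotent hn' ?_
  rintro _ ⟨u, hu, v, hv, rfl⟩
  by_cases huv : u = v
  · subst huv; rw [u.sq]; exact ⟨one_mem _, one_pow _⟩
  refine ⟨?_, cube_eq_one (hc u hu v hv huv)⟩
  have := commutator_mem_commutator (hm u hu) (hm _ (hS u hu v hv))
  have e := congrArg Pt.t (st_st_fst (hc u hu v hv huv))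
  rwa [commutatorElement_def, Pt.inv, Pt.inv, mul_assoc, mul_assoc, ← mul_assoc (u ⋆ v).t,
    ← st_t, st_st_fst (hc u hu v hv huv)] at this

theorem noncentral {x : Pt D} (N : Subgroup (HH x)) [N.Normal] (hN : ¬ N ≤ center (HH x)) :
    ∃ e ∈ Dx x, ∃ e' ∈ Dx x, e ≠ e' ∧ e'.t * e.t ∈ N.map (HH x).subtype ∧
      ∀ y ∈ Dx x, ¬ (Cm y e ↔ Cm y e') → y.t * e.t ∈ N.map (HH x).subtype := by
  obtain ⟨k, hk, hk'⟩ := SetLike.not_le_iff_exists.1 hN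
  obtain ⟨e, he, hke⟩ : ∃ e ∈ Dx x, (k : G) • e ≠ e := by
    by_contra hne
    push Not at hne
    apply hk'
    rw [Subgroup.mem_center_iff]
    intro g
    have : HH x ≤ centralizer {(k : G)} := by
      refine (closure_le _).2 ?_
      rintro _ ⟨e, he, rfl⟩
      rw [SetLike.mem_coe, mem_centralizer_singleton_iff]
      exact (smul_eq_iff_commute.1 (hne e he)).symm
    exact Subtype.ext (mem_centralizer_singleton_iff.1 (this g.2))
  have he' := Dx_smul (HH_fix k.2) he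
  set φ := QuotientGroup.mk' N
  have hmem : ∀ g, φ g = 1 ↔ g ∈ N := fun g => QuotientGroup.eq_one_iff g
  set E : HH x := ⟨e.t, t_mem_HH he⟩
  set E' : HH x := ⟨((k : G) • e).t, t_mem_HH he'⟩
  have h1 : φ E' = φ E := by
    have : E' = k * E * k⁻¹ := rfl
    rw [this, map_mul, map_mul, map_inv, (hmem k).2 hk]; simp
  have h2 : φ E * φ E = 1 := by
    rw [← map_mul]; exact (congrArg φ (Subtype.ext e.sq)).trans (map_one _)
  refine ⟨e, he, _, he', hke.symm, ⟨E' * E, (hmem _).1 (by rw [map_mul, h1, h2]), rfl⟩, ?_⟩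
  intro y hy hne
  set Y : HH x := ⟨y.t, t_mem_HH hy⟩
  refine ⟨Y * E, (hmem _).1 ?_, rfl⟩
  have h3 : φ (Y * E') = φ (Y * E) := by rw [map_mul, h1, map_mul]
  have key : φ (Y * E) ^ 2 = 1 ∧ φ (Y * E) ^ 3 = 1 := by
    by_cases hc : Cm y e
    · have hc' : ¬ Cm y ((k : G) • e) := fun h => hne ⟨fun _ => h, fun _ => hc⟩
      constructor
      · rw [← map_pow]; exact (congrArg φ (Subtype.ext (sq_eq_one hc))).trans (map_one _)
      · rw [← h3, ← map_pow]; exact (congrArg φ (Subtype.ext (cube_eq_one hc'))).trans (map_one _)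
    · have hc' : Cm y ((k : G) • e) := by
        by_contra h; exact hne ⟨fun h' => absurd h' hc, fun h' => absurd h' h⟩
      constructor
      · rw [← h3, ← map_pow]; exact (congrArg φ (Subtype.ext (sq_eq_one hc'))).trans (map_one _)
      · rw [← map_pow]; exact (congrArg φ (Subtype.ext (cube_eq_one hc))).trans (map_one _)
  have := key.2
  rwa [pow_succ, key.1, one_mul] at this

section iso

variable {K Y : Type*} [Group K] [MulAction K Y]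

/-- compatible pairs -/
def Gam (P : Y → Prop) (hP : ∀ (σ : K) y, P y → P (σ • y)) (ρ : Y → Pt D) : Subgroup (K × G) where
  carrier := {q | ∀ y, P y → ρ (q.1 • y) = q.2 • ρ y}
  one_mem' := fun y _ => by simp
  mul_mem' := fun {a b} ha hb y hy => by
    rw [Prod.fst_mul, Prod.snd_mul, mul_smul, mul_smul, ha _ (hP _ _ hy), hb _ hy]
  inv_mem' := fun {a} ha y hy => by
    rw [Prod.fst_inv, Prod.snd_inv, eq_inv_smul_iff, ← ha _ (hP _ _ hy), smul_inv_smul]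

variable {P : Y → Prop} {hP : ∀ (σ : K) y, P y → P (σ • y)} {ρ : Y → Pt D}

theorem Gam_fst {S : Set K} (hS : closure S = ⊤) (h : ∀ s ∈ S, ∃ g, (s, g) ∈ Gam P hP ρ) (σ : K) :
    ∃ g, (σ, g) ∈ Gam P hP ρ := by
  have : closure S ≤ (Gam P hP ρ).map (MonoidHom.fst K G) := by
    rw [closure_le]; intro s hs
    obtain ⟨g, hg⟩ := h s hs
    exact ⟨_, hg, rfl⟩
  obtain ⟨q, hq, rfl⟩ := this (hS ▸ mem_top σ)
  exact ⟨q.2, hq⟩

theorem iso_of_Gam (h : Cl D) (hZ : center G = ⊥) (h1 : ∀ σ, ∃ g, (σ, g) ∈ Gam P hP ρ)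
    (h2 : ∀ x : Pt D, ∃ σ, (σ, x.t) ∈ Gam P hP ρ) (h3 : ∀ x, ∃ y, P y ∧ ρ y = x)
    (h4 : ∀ σ, (σ, 1) ∈ Gam P hP ρ → σ = 1) : Nonempty (G ≃* K) := by
  have h5 : ∀ g, (1, g) ∈ Gam P hP ρ → g = 1 := by
    intro g hg
    rw [← mem_bot, ← hZ, h.mem_center_iff]
    intro x
    obtain ⟨y, hy, rfl⟩ := h3 x
    have := hg y hy
    simpa using this.symm
  have h6 : ∀ g, ∃ σ, (σ, g) ∈ Gam P hP ρ := by
    intro g
    have : closure D ≤ (Gam P hP ρ).map (MonoidHom.snd K G) := by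
      rw [closure_le]; intro d hd
      obtain ⟨σ, hσ⟩ := h2 ⟨d, hd⟩
      exact ⟨_, hσ, rfl⟩
    obtain ⟨q, hq, rfl⟩ := this (h.gen ▸ mem_top g)
    exact ⟨q.1, hq⟩
  obtain ⟨e, -⟩ := Subgroup.exists_mulEquiv_eq_graph (G := Gam P hP ρ)
    ⟨fun a b hab => by
      have h7 := h5 (a.1.2⁻¹ * b.1.2) (by
        have := mul_mem (inv_mem a.2) b.2
        have e : a.1.1 = b.1.1 := hab
        rwa [show a.1⁻¹ * b.1 = (1, a.1.2⁻¹ * b.1.2) from Prod.ext (by simp [e]) rfl] at this)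
      exact Subtype.ext (Prod.ext hab (inv_mul_eq_one.1 h7)),
     fun σ => by obtain ⟨g, hg⟩ := h1 σ; exact ⟨⟨_, hg⟩, rfl⟩⟩
    ⟨fun a b hab => by
      have h7 := h4 (a.1.1⁻¹ * b.1.1) (by
        have := mul_mem (inv_mem a.2) b.2
        have e : a.1.2 = b.1.2 := hab
        rwa [show a.1⁻¹ * b.1 = (a.1.1⁻¹ * b.1.1, 1) from Prod.ext rfl (by simp [e])] at this)
      exact Subtype.ext (Prod.ext (inv_mul_eq_one.1 h7) hab),
     fun g => by obtain ⟨σ, hσ⟩ := h6 g; exact ⟨⟨_, hσ⟩, rfl⟩⟩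
  exact ⟨e.symm⟩

end iso

/-- the ten points of an `S₅` -/
def r5 (a b c d : Pt D) : Fin 5 × Fin 5 → Pt D := fun y =>
  ![![a, a, a ⋆ b, a ⋆ b ⋆ c, a ⋆ b ⋆ c ⋆ d], ![a, a, b, b ⋆ c, b ⋆ c ⋆ d],
    ![a ⋆ b, b, a, c, c ⋆ d], ![a ⋆ b ⋆ c, b ⋆ c, c, a, d],
    ![a ⋆ b ⋆ c ⋆ d, b ⋆ c ⋆ d, c ⋆ d, d, a]] y.1 y.2

theorem ne_smul5 (σ : Equiv.Perm (Fin 5)) (y : Fin 5 × Fin 5) (h : y.1 ≠ y.2) :
    (σ • y).1 ≠ (σ • y).2 := fun e => h (σ.injective e)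

theorem r5_gen {a b c d : Pt D} (hab : ¬ Cm a b) (hbc : ¬ Cm b c) (hcd : ¬ Cm c d)
    (hac : Cm a c) (had : Cm a d) (hbd : Cm b d) (k : Fin 4) :
    (Equiv.swap k.castSucc k.succ, (![a, b, c, d] k).t) ∈
      Gam (fun y : Fin 5 × Fin 5 => y.1 ≠ y.2) ne_smul5 (r5 a b c d) := by
  rintro ⟨i, j⟩ hij
  show r5 a b c d (Equiv.swap k.castSucc k.succ i, Equiv.swap k.castSucc k.succ j) =
    ![a, b, c, d] k ⋆ r5 a b c d (i, j)
  have e1 := hac.eq; have e2 := had.eq; have e3 := hbd.eq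
  have e4 := hac.eq'; have e5 := had.eq'; have e6 := hbd.eq'
  have e7 := st_comm (nc_symm hab); have e8 := st_comm (nc_symm hbc)
  have e9 := st_comm (nc_symm hcd)
  have f1 := st_st_mid hab; have f2 := st_st_mid hbc; have f3 := st_st_mid hcd
  have f4 := braid (nc_symm hab); have f5 := braid (nc_symm hbc)
  have f6 := hac.symm.comm; have f7 := had.symm.comm; have f8 := hbd.symm.comm
  have f9 := (hac.st_right had).eq
  fin_cases k <;> fin_cases i <;> fin_cases j <;>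
    first
    | exact absurd rfl hij
    | simp [r5, Equiv.swap_apply_def, e1, e2, e3, e4, e5, e6, e7, e8, e9, f1, f2, f3, f4, f5,
        f6, f7, f8, f9]

theorem iso_S5 [Finite G] (h : Prim D) (hZ : center G = ⊥) {a b c d : Pt D} (hab : ¬ Cm a b)
    (hbc : ¬ Cm b c) (hcd : ¬ Cm c d) (hac : Cm a c) (had : Cm a d) (hbd : Cm b d)
    (hD : ∀ y ∈ Dx a, y = c ∨ y = d ∨ y = c ⋆ d) : Nonempty (G ≃* Equiv.Perm (Fin 5)) := by
  have hg := r5_gen hab hbc hcd hac had hbd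
  have h1 : ∀ σ, ∃ g, (σ, g) ∈ Gam (fun y : Fin 5 × Fin 5 => y.1 ≠ y.2) ne_smul5 (r5 a b c d) := by
    refine Gam_fst (closure_eq_top_of_mclosure_eq_top (Equiv.Perm.mclosure_swap_castSucc_succ 4)) ?_
    rintro _ ⟨k, rfl⟩; exact ⟨_, hg k⟩
  have h0 : ∀ i j : Fin 5, i ≠ j → (Equiv.swap 0 i * Equiv.swap 1 (Equiv.swap 0 i j)) •
      ((0 : Fin 5), (1 : Fin 5)) = (i, j) := by decide
  have ha : r5 a b c d (0, 1) = a := rfl
  have h3 : ∀ x, ∃ y : Fin 5 × Fin 5, y.1 ≠ y.2 ∧ r5 a b c d y = x := by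
    refine h.cc (P := fun x => ∃ y : Fin 5 × Fin 5, y.1 ≠ y.2 ∧ r5 a b c d y = x) ?_
      ⟨(0, 1), by decide, ha⟩
    rintro _ z ⟨⟨i, j⟩, hij, rfl⟩ hz
    obtain ⟨g, hg⟩ := h1 (Equiv.swap 0 i * Equiv.swap 1 (Equiv.swap 0 i j))
    have h2 := hg (0, 1) (by decide)
    simp only [h0 i j hij, ha] at h2
    rw [h2, ← smul_inv_smul g z, cm_smul] at hz
    have : ∃ y : Fin 5 × Fin 5, y.1 ≠ y.2 ∧ r5 a b c d y = g⁻¹ • z := by
      by_cases e : g⁻¹ • z = a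
      · exact ⟨(0, 1), by decide, e.symm⟩
      rcases hD _ ⟨e, hz⟩ with e | e | e
      · exact ⟨(2, 3), by decide, e.symm⟩
      · exact ⟨(3, 4), by decide, e.symm⟩
      · exact ⟨(2, 4), by decide, e.symm⟩
    obtain ⟨y, hy, e⟩ := this
    exact ⟨_, ne_smul5 _ y hy, by rw [hg y hy, e]; simp⟩
  refine iso_of_Gam h.toCl hZ h1 (fun x => ?_) h3 (fun σ hσ => ?_)
  · obtain ⟨⟨i, j⟩, hij, rfl⟩ := h3 x
    obtain ⟨g, hg'⟩ := h1 (Equiv.swap 0 i * Equiv.swap 1 (Equiv.swap 0 i j))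
    have h2 := hg' (0, 1) (by decide)
    simp only [h0 i j hij, ha] at h2
    rw [h2]
    exact ⟨_, mul_mem (mul_mem hg' (hg 0)) (inv_mem hg')⟩
  · by_contra hne
    set N := (Gam (fun y : Fin 5 × Fin 5 => y.1 ≠ y.2) ne_smul5 (r5 a b c d)).comap
      (MonoidHom.inl (Equiv.Perm (Fin 5)) G)
    haveI : N.Normal := ⟨fun n hn τ => by
      obtain ⟨g, hg⟩ := h1 τ
      have := mul_mem (mul_mem hg hn) (inv_mem hg)
      simpa [N] using this⟩
    have := Equiv.Perm.alternatingGroup_le_of_normal (N := N) (by simp)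
      ⟨⟨σ, hσ⟩, 1, fun e => hne (congrArg Subtype.val e)⟩
      (show Equiv.swap 0 1 * Equiv.swap 1 2 ∈ alternatingGroup (Fin 5) by
        simp [Equiv.Perm.mem_alternatingGroup])
    have h2 := this (0, 1) (by decide)
    have h3 : (Equiv.swap (0 : Fin 5) 1 * Equiv.swap 1 2) • ((0 : Fin 5), (1 : Fin 5)) = (1, 2) := by
      decide
    simp only [MonoidHom.inl_apply, h3, one_smul] at h2
    exact ne_of_nc hab h2.symm

/-- The hypothesis of the `S₅` case. -/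
def Th (x e e' : Pt D) : Prop :=
  e' ∈ Dx x ∧ ¬ Cm e e' ∧ ∀ y, Cm y x → Cm y e → y ≠ e → Cm y e'

namespace Prim

variable [Finite G] (h : Prim D)
include h

theorem th_path (hT : ∀ x : Pt D, ∀ e ∈ Dx x, ∃ e', Th x e e') {x e : Pt D} (he : e ∈ Dx x) :
    ∃ f e', ¬ Cm x f ∧ ¬ Cm f e' ∧ ¬ Cm e' e ∧ Cm x e' ∧ Cm f e ∧
      ∀ y, Cm y x → Cm y e → y ≠ x → y ≠ e → Cm y e' ∧ Cm y f := by
  obtain ⟨e', h1, h2, h3⟩ := hT x e he
  obtain ⟨f, h4, h5, h6⟩ := h.sep (ne_of_nc h2)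
  have h7 : ¬ Cm x f := fun hc => h6 (h3 f hc.symm h5.symm h4).symm
  refine ⟨f, e', h7, nc_symm h6, nc_symm h2, h1.2, h5.symm, fun y hx hy hx' hy' => ?_⟩
  refine ⟨h3 y hx hy hy', ?_⟩
  have c1 : ¬ Cm (e' ⋆ f) x := nc_symm (nc_st_right h1.2 h7)
  have c2 : ¬ Cm (e' ⋆ f) e := nc_symm (nc_st_left h6 h2 h5)
  have s1 := swap2 c1 c2 he.2
  have s2 := swap2' c1 c2 he.2
  have s3 : (e' ⋆ f) ⋆ (x ⋆ e ⋆ e' ⋆ f) ⋆ e' = f := by
    have : Cm e' (x ⋆ e ⋆ e' ⋆ f) := by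
      refine h1.2.symm.st_right ?_
      rw [st_comm h6]; exact s4_cm (nc_symm h2) h6 h5
    rw [this.eq', st_st_fst h6]
  rw [← st_mul] at s1 s2 s3
  generalize (e' ⋆ f).t * (x ⋆ e ⋆ e' ⋆ f).t = g at s1 s2 s3
  have := h3 (g⁻¹ • y) (by rw [← cm_smul_iff, s1]; exact hy) (by rw [← cm_smul_iff, s2]; exact hx)
    (by rw [Ne, inv_smul_eq_iff, s2]; exact hx')
  rwa [← cm_smul_iff, s3] at this

theorem th_notri (hT : ∀ x : Pt D, ∀ e ∈ Dx x, ∃ e', Th x e e') {x e y : Pt D} (he : e ∈ Dx x)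
    (hy : y ∈ Dx x) (hc : Cm y e) : y = e := by
  by_contra hne
  obtain ⟨f, e', a1, a2, a3, a4, a5, a6⟩ := h.th_path hT he
  obtain ⟨f', e'', b1, b2, b3, b4, b5, b6⟩ := h.th_path hT (x := e) (e := y) ⟨hne, hc.symm⟩
  obtain ⟨a7, a8⟩ := a6 y hy.2.symm hc hy.1 hne
  have c1 : ¬ Cm (e'' ⋆ f') e := nc_symm (nc_st_right b4 b1)
  have c2 : ¬ Cm (e'' ⋆ f') y := nc_symm (nc_st_left (nc_symm b2) (nc_symm b3) b5.symm)
  have s1 := swap2 c1 c2 hc.symm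
  have s2 := swap2' c1 c2 hc.symm
  have s3 : ∀ w, Cm w e → Cm w y → w ≠ e → w ≠ y →
      (e'' ⋆ f') ⋆ (e ⋆ y ⋆ e'' ⋆ f') ⋆ w = w := by
    intro w h1 h2 h3 h4
    obtain ⟨h5, h6⟩ := b6 w h1 h2 h3 h4
    rw [(h1.st_right (h2.st_right (h5.st_right h6))).eq', (h5.st_right h6).eq']
  have s4 := s3 x he.2 hy.2 he.1.symm hy.1.symm
  have s5 := s3 f a5 a8.symm (fun e1 => a1 (e1 ▸ he.2)) (fun e1 => a1 (e1 ▸ hy.2))
  rw [← st_mul] at s1 s2 s4 s5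
  generalize (e'' ⋆ f').t * (e ⋆ y ⋆ e'' ⋆ f').t = g at s1 s2 s4 s5
  have := (a6 (g • e') (by rw [← s4, cm_smul]; exact a4.symm) (by rw [← s2, cm_smul]; exact a7.symm)
    (by rw [← s4]; exact fun e1 => a3 (MulAction.injective g e1 ▸ he.2))
    (by rw [← s2]; exact fun e1 => a3 (MulAction.injective g e1 ▸ hc))).2
  rw [← s5, cm_smul] at this
  exact a2 this.symm

theorem mu_one (hn : ∀ {x e y : Pt D}, e ∈ Dx x → y ∈ Dx x → Cm y e → y = e)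
    {x e e' : Pt D} (he : e ∈ Dx x) (he' : e' ∈ Dx x) (hee : e ≠ e')
    {a b u v : Pt D} (hab : ¬ Cm a b) (hu : u ∈ DD a b) (hv : v ∈ DD a b) : u = v := by
  haveI : Fact (Nat.Prime 3) := ⟨Nat.prime_three⟩
  by_contra huv
  have hP := three_group (S := Dx x) (fun u hu v hv => Dx_st hu hv)
    (fun u hu v hv hne hc => hne (hn hv hu hc))
  have c1 := card_modEq hP (Set.univ : Set (Pt D)) (fun _ _ _ _ => trivial)
  have c1' : {y ∈ (Set.univ : Set (Pt D)) | ∀ k ∈ XS (Dx x), k • y = y} = {x} := by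
    ext y
    simp only [Set.mem_univ, true_and, Set.mem_setOf_eq, Set.mem_singleton_iff]
    refine ⟨fun hy => ?_, fun hy k hk => by rw [hy]; exact XS_fix (fun u hu => hu.2.symm) hk⟩
    by_contra hyx
    obtain ⟨w, h1, h2, h3⟩ := h.sep (Ne.symm hyx)
    by_cases hw : w = e
    · exact h3 ((mul_smul_eq_iff (hw ▸ hee)).1 (hy _ (mul_mem_XS ⟨h1, h2⟩ he'))).1.symm
    · exact h3 ((mul_smul_eq_iff hw).1 (hy _ (mul_mem_XS ⟨h1, h2⟩ he))).1.symm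
  have c2 := card_modEq_elt (cube_eq_one hab) (Set.univ : Set (Pt D)) (fun _ _ => trivial)
  have c2' : {y ∈ (Set.univ : Set (Pt D)) | (a.t * b.t) • y = y} = DD a b := by
    ext y
    simp only [Set.mem_univ, true_and, Set.mem_setOf_eq, mul_smul_eq_iff (ne_of_nc hab), DD,
      cm_comm (a := y)]
  have hua : u ∈ Dx a := ⟨fun e => hab (e ▸ hu.2), hu.1.symm⟩
  have hva : v ∈ Dx a := ⟨fun e => hab (e ▸ hv.2), hv.1.symm⟩
  have hc : ¬ Cm u v := fun hc => huv (hn hva hua hc)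
  have c3 := card_modEq_elt (cube_eq_one hc) (DD a b) (fun w hw => by
    rw [st_mul]
    exact ⟨(hu.1.symm.st_right (hv.1.symm.st_right hw.1.symm)).symm,
      (hu.2.symm.st_right (hv.2.symm.st_right hw.2.symm)).symm⟩)
  have c3' : {y ∈ DD a b | (u.t * v.t) • y = y} = ∅ := by
    ext y
    simp only [Set.mem_setOf_eq, mul_smul_eq_iff huv, Set.mem_empty_iff_false, iff_false]
    rintro ⟨h1, h2, h3⟩
    have := hn hua (y := y) ⟨fun e => hab (e ▸ h1.2), h1.1.symm⟩ h2.symm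
    exact hc (this ▸ h3.symm)
  rw [c1', Set.ncard_singleton] at c1
  rw [c2'] at c2
  rw [c3', Set.ncard_empty] at c3
  exact absurd ((c1.symm.trans c2).trans c3) (by decide)

theorem th_S5 (hZ : center G = ⊥) {x0 e0 e0' : Pt D} (he0 : e0 ∈ Dx x0) (h0 : Th x0 e0 e0') :
    Nonempty (G ≃* Equiv.Perm (Fin 5)) := by
  have hT : ∀ x : Pt D, ∀ e ∈ Dx x, ∃ e', Th x e e' := by
    intro x e he
    obtain ⟨g, rfl, rfl⟩ := h.tr2 he0 he
    refine ⟨g • e0', ⟨fun e => h0.1.1 (MulAction.injective g e), h0.1.2.smul g⟩,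
      by rw [cm_smul]; exact h0.2.1, fun y h1 h2 h3 => ?_⟩
    rw [cm_smul_iff] at h1 h2 ⊢
    exact h0.2.2 _ h1 h2 (by rw [Ne, inv_smul_eq_iff]; exact h3)
  have hn : ∀ {x e y : Pt D}, e ∈ Dx x → y ∈ Dx x → Cm y e → y = e := h.th_notri hT
  have hmu : ∀ {a b u v : Pt D}, ¬ Cm a b → u ∈ DD a b → v ∈ DD a b → u = v :=
    h.mu_one hn he0 h0.1 (ne_of_nc h0.2.1)
  obtain ⟨f, u, a1, a2, a3, a4, a5, -⟩ := h.th_path hT he0
  refine iso_S5 h hZ (nc_symm a3) (nc_symm a2) (nc_symm a1) a5.symm he0.2.symm a4.symm ?_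
  intro y hy
  by_contra hne
  simp only [not_or] at hne
  obtain ⟨n1, n2, n3⟩ := hne
  have hx : x0 ∈ Dx e0 := ⟨he0.1.symm, he0.2.symm⟩
  have hf : f ∈ Dx e0 := ⟨fun e => a1 (e ▸ he0.2), a5.symm⟩
  have k1 : ∀ a ∈ Dx e0, a ≠ x0 → ¬ Cm x0 a := fun a ha hne hc => hne (hn hx ha hc.symm)
  have k2 : ∀ a ∈ Dx e0, a ≠ x0 → ¬ Cm a u := fun a ha hne hc =>
    a3 (hmu (k1 a ha hne) ⟨a4.symm, hc.symm⟩ ⟨hx.2, ha.2⟩ ▸ Cm.refl _)
  have k3 : ∀ a ∈ Dx e0, a ≠ x0 → Cm a (e0 ⋆ u ⋆ x0 ⋆ a) ∧ Cm u (e0 ⋆ u ⋆ x0 ⋆ a) := by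
    intro a ha hne
    rw [st_comm (k1 a ha hne)]
    exact a4_cm (k1 a ha hne) (k2 a ha hne) a3 a4 he0.2 ha.2.symm
  have hfx : f ≠ x0 := (ne_of_nc a1).symm
  have hfy : ¬ Cm f y := fun hc => n1 (hn hf hy hc.symm)
  have h3 : f ⋆ y ∈ Dx e0 := Dx_st hf hy
  have h3x : f ⋆ y ≠ x0 := fun e => n3 (st_eq_iff.1 e)
  obtain ⟨w1, hw1⟩ : ∃ w, w = e0 ⋆ u ⋆ x0 ⋆ f := ⟨_, rfl⟩
  obtain ⟨w2, hw2⟩ : ∃ w, w = e0 ⋆ u ⋆ x0 ⋆ y := ⟨_, rfl⟩
  have e3 : e0 ⋆ u ⋆ x0 ⋆ f ⋆ y = w1 ⋆ w2 := by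
    rw [hw1, hw2, ← st_dist, ← st_dist, ← st_dist]
  obtain ⟨p1, p2⟩ := k3 f hf hfx
  obtain ⟨p3, p4⟩ := k3 y hy n2
  obtain ⟨p5, p6⟩ := k3 _ h3 h3x
  rw [← hw1] at p1 p2
  rw [← hw2] at p3 p4
  rw [e3] at p5 p6
  have q1 : ¬ Cm w1 y := fun hc =>
    a3 (hmu hfy ⟨hf.2, hy.2⟩ ⟨p1.symm, hc⟩ ▸ p2)
  have q2 : Cm (w1 ⋆ y) (f ⋆ y) := by
    rw [st_comm q1, st_comm hfy]; exact p1.symm.st y
  have q3 : w1 ⋆ y ≠ f ⋆ y := fun e => k2 f hf hfx (st_left_inj q1 e ▸ p2.symm)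
  have q4 : w1 ⋆ w2 ≠ f ⋆ y := fun e => k2 _ h3 h3x (e ▸ p6.symm)
  have := hn (x := f ⋆ y) ⟨q3, q2.symm⟩ ⟨q4, p5⟩ (p3.st w1).symm
  exact k2 y hy n2 (st_inj this ▸ p4.symm)

theorem odd_S5 (hZ : center G = ⊥) {x : Pt D} (N : Subgroup (HH x)) [N.Normal]
    (hN : ¬ N ≤ center (HH x)) (ho : (Nat.card N).Coprime 2) :
    Nonempty (G ≃* Equiv.Perm (Fin 5)) := by
  obtain ⟨e, he, e', he', hne, h1, h2⟩ := noncentral N hN
  have key : ∀ u v : Pt D, u.t * v.t ∈ N.map (HH x).subtype → Cm u v → u = v := by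
    intro u v hm hc
    have h3 := Nat.dvd_gcd (orderOf_dvd_natCard _ hm) (orderOf_dvd_of_pow_eq_one (sq_eq_one hc))
    rw [card_map_of_injective (HH x).subtype_injective, ho.gcd_eq_one, Nat.dvd_one,
      orderOf_eq_one_iff, mul_eq_one_iff_eq_inv, v.inv] at h3
    exact Pt.ext h3
  refine h.th_S5 hZ he ⟨he', fun hc => hne (key _ _ h1 hc.symm).symm, fun y h3 h4 h5 => ?_⟩
  by_cases hy : y = x
  · rw [hy]; exact he'.2
  by_contra h6
  exact h5 (key _ _ (h2 y ⟨hy, h3.symm⟩ (fun h7 => h6 (h7.1 h4))) h4)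

end Prim

theorem center_bot (hsol : ∀ N : Subgroup G, N.Normal → Group.IsSolvable N → N = ⊥) :
    center G = ⊥ :=
  hsol _ inferInstance
    (Group.isSolvable_of_comm (fun a b => Subtype.ext (Subgroup.mem_center_iff.1 b.2 a)))

end Cfsg.Agent.Fis
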