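import Cfsg.Agent.Fis.D

/-! Fischer spaces: singular lines. -/

set_option autoImplicit false

namespace Cfsg.Agent.Fis

open Subgroup

variable {G : Type*} [Group G] {D : Set G} [TT D]

theorem pick {α : Type*} (S : Set α) (l : List α) (h : l.length < S.ncard) : ∃ z ∈ S, z ∉ l := by
  classical
  by_contra hne
  push Not at hne
  have h1 : S.ncard ≤ (l.toFinset : Set α).ncard :=
    Set.ncard_le_ncard (fun z hz => by simpa using hne z hz) (Finset.finite_toSet _)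
  rw [Set.ncard_coe_finset] at h1
  exact absurd (h1.trans (List.toFinset_card_le l)) (by omega)

/-- the group generated by the points commuting with `d` -/
def H1 (d : Pt D) : Subgroup G := closure (Pt.t '' {y | Cm d y})

theorem t_mem_H1 {d y : Pt D} (h : Cm d y) : y.t ∈ H1 d := subset_closure ⟨y, h, rfl⟩

theorem H1_fix {d : Pt D} {g : G} (hg : g ∈ H1 d) : g • d = d :=
  closure_smul_mem (P := fun y => y = d) (fun s hs y hy => by rw [hy]; exact Cm.eq' hs) hg d rfl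

theorem HH_le_H1 (d : Pt D) : HH d ≤ H1 d := closure_mono (Set.image_mono fun _ h => h.2)

theorem Prim.trA' [Finite G] (h : Prim D) {d a b : Pt D} (ha : ¬ Cm d a) (hb : ¬ Cm d b) :
    ∃ g ∈ H1 d, g • a = b := by
  set O : Pt D → Pt D → Prop := fun a b => ∃ g ∈ H1 d, g • a = b with hO
  have Os : ∀ {a b}, O a b → O b a := fun ⟨g, h1, h2⟩ =>
    ⟨g⁻¹, inv_mem h1, by rw [inv_smul_eq_iff, h2]⟩
  have Ot : ∀ {a b c}, O a b → O b c → O a c := fun ⟨g, h1, h2⟩ ⟨k, h3, h4⟩ =>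
    ⟨k * g, mul_mem h3 h1, by rw [mul_smul, h2, h4]⟩
  have o2 : ∀ {a b}, ¬ Cm d a → ¬ Cm d b → Cm a b → O a b := fun {a b} ha hb hc =>
    ⟨d.t * (a ⋆ b ⋆ d).t, mul_mem (t_mem_H1 (Cm.refl d)) (t_mem_H1 (s4_cm ha hb hc)),
      by rw [st_mul, swap2 ha hb hc]⟩
  have o3 : ∀ {a b f}, ¬ Cm d a → ¬ Cm d (a ⋆ b) → f ∈ DD d b → ¬ Cm f a → O a (a ⋆ b) := by
    intro a b f ha hab hf hfa
    refine Ot ⟨f.t, t_mem_H1 hf.1.symm, rfl⟩ (o2 (nc_st_right hf.1.symm ha) hab ?_)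
    rw [← st_def, st_comm hfa]; exact hf.2.st a
  have dich : ∀ {a b}, ¬ Cm d a → ¬ Cm d b → ¬ O a b → DD d a ⊆ DD d b ∨ DD d b ⊆ DD d a := by
    intro a b ha hb hn
    have hab : ¬ Cm a b := fun hc => hn (o2 ha hb hc)
    have hab' : ¬ Cm d (a ⋆ b) := fun hc => hn ⟨(a ⋆ b).t, t_mem_H1 hc, st_st_fst hab⟩
    by_contra hne
    simp only [not_or, Set.not_subset] at hne
    obtain ⟨⟨f, hf, hf'⟩, ⟨k, hk, hk'⟩⟩ := hne
    have h1 := o3 ha hab' hk (fun hc => hk' ⟨hk.1, hc⟩)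
    have h2 := o3 hb (st_comm hab ▸ hab') hf (fun hc => hf' ⟨hf.1, hc⟩)
    rw [← st_comm hab] at h2
    exact hn (Ot h1 (Os h2))
  have main : ∀ {a b}, ¬ Cm d a → ¬ Cm d b → (DD d a).ncard ≤ (DD d b).ncard → O a b := by
    intro a b ha hb hle
    by_contra hn
    obtain ⟨f, hf⟩ := h.exists_DD d a
    obtain ⟨x, h1, h2, h3⟩ := h.sep (ne_of_nc hb)
    obtain ⟨k, hk, e⟩ := h.trD (x := d) (y := x) (z := f) ⟨h1, h2⟩
      ⟨fun e => ha (e ▸ hf.2), hf.1.symm⟩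
    have hkd := HH_fix hk
    have hb' : ¬ Cm d (k • b) := by rw [← hkd, cm_smul]; exact hb
    have hsub : DD d a ⊆ DD d (k • b) := by
      rcases dich ha hb' (fun ho => hn (Ot ho (Os ⟨k, HH_le_H1 d hk, rfl⟩))) with h4 | h4
      · exact h4
      · refine (Set.eq_of_subset_of_ncard_le h4 ?_).ge
        rw [← ncard_DD k d b, hkd] at hle; exact hle
    have := (hsub hf).2
    rw [← e, cm_smul] at this
    exact h3 this.symm
  rcases le_total (DD d a).ncard (DD d b).ncard with h1 | h1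
  · exact main ha hb h1
  · exact Os (main hb ha h1)

theorem Prim.DD_eq [Finite G] (h : Prim D) {d a b : Pt D} (ha : ¬ Cm d a) (hb : ¬ Cm d b)
    (hs : DD d a ⊆ DD d b) : DD d a = DD d b := by
  obtain ⟨g, h1, h2⟩ := h.trA ha hb
  refine Set.eq_of_subset_of_ncard_le hs ?_
  rw [← ncard_DD g d a, h1, h2]

theorem DD_comm (a b : Pt D) : DD a b = DD b a := by ext; simp [DD, and_comm]

theorem cox5 {a b c d : Pt D} (hab : ¬ Cm a b) (hbc : ¬ Cm b c) (hcd : ¬ Cm c d)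
    (hac : Cm a c) (had : Cm a d) (hbd : Cm b d) (y : Pt D) :
    ((a.t * c.t) * (d.t * b.t)) ^ 5 • y = y := by
  have f4 := braid (nc_symm hab); have f5 := braid (nc_symm hbc); have f6 := braid (nc_symm hcd)
  have g1 := hac.symm.comm; have g2 := had.symm.comm; have g3 := hbd.symm.comm
  have k1 : ∀ z, c ⋆ b ⋆ a ⋆ c ⋆ z = b ⋆ c ⋆ b ⋆ a ⋆ z := fun z => by rw [← g1, f5]
  have k2 : ∀ z, d ⋆ c ⋆ b ⋆ d ⋆ z = c ⋆ d ⋆ c ⋆ b ⋆ z := fun z => by rw [← g3, f6]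
  have k3 : ∀ z, d ⋆ c ⋆ b ⋆ a ⋆ d ⋆ z = c ⋆ d ⋆ c ⋆ b ⋆ a ⋆ z := fun z => by rw [← g2, k2]
  simp only [pow_succ, pow_zero, one_mul, mul_smul, ← st_def, f4, f5, f6, g1, g2, g3, k1, k2, k3,
    st_st]

/-- singular lines -/
def Ln (x e : Pt D) : Set (Pt D) := {z | ∀ y, Cm y x → Cm y e → Cm y z}

theorem left_mem_Ln (x e : Pt D) : x ∈ Ln x e := fun _ h _ => h
theorem right_mem_Ln (x e : Pt D) : e ∈ Ln x e := fun _ _ h => h
theorem Ln_comm (x e : Pt D) : Ln x e = Ln e x := by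
  ext z; exact ⟨fun h y h1 h2 => h y h2 h1, fun h y h1 h2 => h y h2 h1⟩
theorem Ln_cm_left {x e z : Pt D} (h : Cm x e) (hz : z ∈ Ln x e) : Cm x z := hz x (Cm.refl x) h
theorem Ln_cm_right {x e z : Pt D} (h : Cm x e) (hz : z ∈ Ln x e) : Cm e z :=
  hz e h.symm (Cm.refl e)
theorem Ln_cm {x e u v : Pt D} (h : Cm x e) (hu : u ∈ Ln x e) (hv : v ∈ Ln x e) : Cm u v :=
  hv u (Ln_cm_left h hu).symm (Ln_cm_right h hu).symm
theorem Ln_smul (g : G) {x e z : Pt D} (hz : z ∈ Ln x e) : g • z ∈ Ln (g • x) (g • e) :=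
  fun y h1 h2 => by
    rw [cm_smul_iff] at h1 h2 ⊢; exact hz _ h1 h2
theorem Ln_smul_iff (g : G) {x e z : Pt D} : g • z ∈ Ln (g • x) (g • e) ↔ z ∈ Ln x e :=
  ⟨fun h => by simpa using Ln_smul g⁻¹ h, Ln_smul g⟩
theorem ncard_Ln (g : G) (x e : Pt D) : (Ln (g • x) (g • e)).ncard = (Ln x e).ncard := by
  rw [← ncard_smul g]; congr 1; ext w; exact Ln_smul_iff g
theorem Ln_mem_Dx {x e z : Pt D} (he : e ∈ Dx x) (hz : z ∈ Ln x e) (hzx : z ≠ x) : z ∈ Dx x :=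
  ⟨hzx, Ln_cm_left he.2 hz⟩
theorem Dx_symm {x y : Pt D} (h : y ∈ Dx x) : x ∈ Dx y := ⟨h.1.symm, h.2.symm⟩

/-- the elements acting on a singular line -/
def al (a u v : Pt D) : G := (a ⋆ u).t * (a ⋆ v).t

theorem al_smul (a u v z : Pt D) : al a u v • z = (a ⋆ u) ⋆ (a ⋆ v) ⋆ z := mul_smul _ _ _

theorem al_left {a u v : Pt D} (hu : ¬ Cm a u) (hv : ¬ Cm a v) (h : Cm u v) : al a u v • u = v := by
  rw [al_smul, s4_swap hu hv h]
theorem al_right {a u v : Pt D} (hu : ¬ Cm a u) (hv : ¬ Cm a v) (h : Cm u v) : al a u v • v = u := by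
  rw [al_smul, s4_swap' hu hv h]
theorem al_sq {a u v : Pt D} (h : Cm u v) : al a u v ^ 2 = 1 := sq_eq_one (h.st a)
theorem al_al {a u v : Pt D} (h : Cm u v) (z : Pt D) : al a u v • al a u v • z = z := by
  rw [← mul_smul, ← pow_two, al_sq h, one_smul]
theorem al_fix {a u v z : Pt D} (h1 : Cm z a) (h2 : Cm z u) (h3 : Cm z v) : al a u v • z = z := by
  rw [al_smul, (h1.st_right h3).eq', (h1.st_right h2).eq']
theorem al_comm {a u v u' v' : Pt D} (h1 : Cm u u') (h2 : Cm u v') (h3 : Cm v u') (h4 : Cm v v')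
    (z : Pt D) : al a u v • al a u' v' • z = al a u' v' • al a u v • z := by
  simp only [al_smul]
  rw [(h3.st a).comm, (h1.st a).comm, (h4.st a).comm, (h2.st a).comm]

namespace Prim

variable [Finite G] (h : Prim D)
include h

theorem Ln_two {x e u v b : Pt D} (he : e ∈ Dx x) (hu : u ∈ Ln x e) (hv : v ∈ Ln x e)
    (huv : u ≠ v) (h1 : Cm b u) (h2 : Cm b v) : Cm b x ∧ Cm b e := by
  obtain ⟨g, e1, e2⟩ := h.tr2 he (c := u) (d := v) ⟨huv.symm, Ln_cm he.2 hu hv⟩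
  have : DD x e = DD u v := Set.eq_of_subset_of_ncard_le
    (fun y hy => ⟨hu y hy.1 hy.2, hv y hy.1 hy.2⟩) (by rw [← ncard_DD g x e, e1, e2])
  exact (this.ge : DD u v ⊆ DD x e) ⟨h1, h2⟩

theorem Ln_all {x e u v b z : Pt D} (he : e ∈ Dx x) (hu : u ∈ Ln x e) (hv : v ∈ Ln x e)
    (huv : u ≠ v) (h1 : Cm b u) (h2 : Cm b v) (hz : z ∈ Ln x e) : Cm b z :=
  hz b (h.Ln_two he hu hv huv h1 h2).1 (h.Ln_two he hu hv huv h1 h2).2

theorem Ln_eq {x e u v : Pt D} (he : e ∈ Dx x) (hu : u ∈ Ln x e) (hv : v ∈ Ln x e)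
    (huv : u ≠ v) : Ln u v = Ln x e := by
  ext z
  exact ⟨fun hz y h1 h2 => hz y (hu y h1 h2) (hv y h1 h2),
    fun hz y h1 h2 => h.Ln_all he hu hv huv h1 h2 hz⟩

theorem ncard_Ln_eq {x e x' e' : Pt D} (he : e ∈ Dx x) (he' : e' ∈ Dx x') :
    (Ln x e).ncard = (Ln x' e').ncard := by
  obtain ⟨g, rfl, rfl⟩ := h.tr2 he he'
  rw [ncard_Ln]

theorem al_mem {x e a u v z : Pt D} (he : e ∈ Dx x) (hu : u ∈ Ln x e) (hv : v ∈ Ln x e)
    (huv : u ≠ v) (h1 : ¬ Cm a u) (h2 : ¬ Cm a v) (hz : z ∈ Ln x e) : al a u v • z ∈ Ln x e := by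
  have hc := Ln_cm he.2 hu hv
  rw [← h.Ln_eq he hu hv huv] at hz
  have := Ln_smul (al a u v) hz
  rwa [al_left h1 h2 hc, al_right h1 h2 hc, h.Ln_eq he hv hu huv.symm] at this

theorem al_fix_iff {x e a u v z : Pt D} (he : e ∈ Dx x) (hu : u ∈ Ln x e) (hv : v ∈ Ln x e)
    (huv : u ≠ v) (hz : z ∈ Ln x e) : al a u v • z = z ↔ Cm a z := by
  refine ⟨fun h1 => ?_, fun h1 => al_fix h1.symm (Ln_cm he.2 hz hu) (Ln_cm he.2 hz hv)⟩
  obtain ⟨h2, h3⟩ := (mul_smul_eq_iff (fun e => huv (st_inj e))).1 h1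
  rw [← cm_st_iff] at h2 h3
  by_contra h4
  exact nc_st_self' h4 (h.Ln_all he hu hv huv h2.symm h3.symm hz).symm

theorem even_nc {x e a u v : Pt D} (he : e ∈ Dx x) (hu : u ∈ Ln x e) (hv : v ∈ Ln x e)
    (huv : u ≠ v) (h1 : ¬ Cm a u) (h2 : ¬ Cm a v) : Even {z ∈ Ln x e | ¬ Cm a z}.ncard := by
  haveI : Fact (Nat.Prime 2) := ⟨Nat.prime_two⟩
  have hc := Ln_cm he.2 hu hv
  have := card_modEq_elt (al_sq (a := a) hc) {z ∈ Ln x e | ¬ Cm a z} (fun z hz =>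
    ⟨h.al_mem he hu hv huv h1 h2 hz.1, fun h3 => hz.2 (by
      have h4 := (h.al_fix_iff he hu hv huv (h.al_mem he hu hv huv h1 h2 hz.1)).2 h3
      rw [al_al hc] at h4; rwa [← h4] at h3)⟩)
  have e1 : {z ∈ {z ∈ Ln x e | ¬ Cm a z} | al a u v • z = z} = ∅ := by
    ext z
    simp only [Set.mem_setOf_eq, Set.mem_empty_iff_false, iff_false]
    rintro ⟨⟨h3, h4⟩, h5⟩
    exact h4 ((h.al_fix_iff he hu hv huv h3).1 h5)
  rw [e1, Set.ncard_empty] at this
  exact even_iff_two_dvd.2 ((Nat.modEq_zero_iff_dvd).1 this)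

theorem Ln_Q0 {p u v y : Pt D} (hu : u ∈ Dx p) (hv : v ∈ Ln p u) (hvp : v ≠ p) (hy : Cm p y) :
    u ⋆ v ⋆ y ∈ Ln p y := by
  intro w h1 h2
  by_cases h3 : Cm w u
  · exact h3.st_right ((hv w h1 h3).st_right h2)
  by_cases h4 : Cm y u
  · rw [(hv y hy.symm h4).eq', h4.eq']; exact h2
  have h5 : ¬ Cm y v := fun h5 => h4 (h.Ln_two hu (left_mem_Ln p u) hv hvp.symm hy.symm h5).2
  rw [cm_st_iff, st_comm (nc_symm h5)]
  have := Ln_smul y.t hv
  rw [← st_def, ← st_def, ← st_def, hy.eq', st_comm h4] at this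
  exact this _ (hu.2.st_right h1.symm).symm (h2.st u)

end Prim

/-- The polar case. -/
structure Pol (D : Set G) [TT D] : Prop extends Prim D where
  tau : ∀ x : Pt D, ∀ e ∈ Dx x, ∃ z ∈ Ln x e, z ≠ x ∧ z ≠ e

theorem Prim.pol_of [Finite G] (h : Prim D) {x : Pt D} (N : Subgroup (HH x)) [N.Normal]
    (hN : ¬ N ≤ center (HH x)) (h2 : IsPGroup 2 N) : Pol D := by
  obtain ⟨e, he, e', he', hne, h1, h3⟩ := noncentral N hN
  have h4 := h2.map (HH x).subtype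
  have key : ∀ u v : Pt D, u.t * v.t ∈ N.map (HH x).subtype → Cm u v := by
    intro u v hm
    by_contra hc
    obtain ⟨k, hk⟩ := h4 ⟨_, hm⟩
    have hk' : (u.t * v.t) ^ 2 ^ k = 1 := congrArg Subtype.val hk
    have h5 := Nat.dvd_gcd (orderOf_dvd_of_pow_eq_one hk')
      (orderOf_dvd_of_pow_eq_one (cube_eq_one hc))
    rw [(Nat.Coprime.pow_left k (by norm_num : Nat.Coprime 2 3)).gcd_eq_one, Nat.dvd_one,
      orderOf_eq_one_iff, mul_eq_one_iff_eq_inv, v.inv] at h5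
    exact ne_of_nc hc (Pt.ext h5)
  have h5 : e' ∈ Ln x e := by
    intro y hx hy
    by_cases hyx : y = x
    · rw [hyx]; exact he'.2
    by_contra hc
    have := key e' e h1
    have h6 := h3 y ⟨hyx, hx.symm⟩ (fun h7 => hc (h7.1 hy))
    have h7 := key y e' (by
      have := mul_mem h6 (inv_mem h1)
      rwa [mul_inv_rev, e.inv, e'.inv, mul_assoc, e.sq'] at this)
    exact hc h7
  refine ⟨h, fun x' e'' he'' => ?_⟩
  obtain ⟨g, rfl, rfl⟩ := h.tr2 he he''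
  exact ⟨g • e', Ln_smul g h5, fun e1 => he'.1 (MulAction.injective g e1),
    fun e1 => hne (MulAction.injective g e1).symm⟩

namespace Pol

variable [Finite G] (h : Pol D)
include h

theorem exists_only {x e : Pt D} (he : e ∈ Dx x) :
    ∃ a, Cm a x ∧ ∀ z ∈ Ln x e, z ≠ x → ¬ Cm a z := by
  obtain ⟨a, -, h1, h2⟩ := h.sep he.1.symm
  exact ⟨a, h1.symm, fun z hz hzx hc =>
    h2 (h.Ln_two he (left_mem_Ln x e) hz hzx.symm h1.symm hc).2.symm⟩

theorem odd_Ln {x e : Pt D} (he : e ∈ Dx x) : Odd (Ln x e).ncard := by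
  obtain ⟨a, h1, h2⟩ := h.exists_only he
  obtain ⟨z, hz, h3, h4⟩ := h.tau x e he
  have := h.even_nc he (right_mem_Ln x e) hz h4.symm (h2 e (right_mem_Ln x e) he.1) (h2 z hz h3)
  have e1 : Ln x e = insert x {z ∈ Ln x e | ¬ Cm a z} := by
    ext w; constructor
    · intro hw
      by_cases hwx : w = x
      · exact Or.inl hwx
      · exact Or.inr ⟨hw, h2 w hw hwx⟩
    · rintro (rfl | hw)
      · exact left_mem_Ln _ e
      · exact hw.1
  rw [e1, Set.ncard_insert_of_notMem (fun hx => hx.2 h1)]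
  exact this.add_one

theorem one_or_all {x e : Pt D} (he : e ∈ Dx x) (b : Pt D) : ∃ z ∈ Ln x e, Cm b z := by
  by_contra hne
  push Not at hne
  have := h.even_nc he (left_mem_Ln x e) (right_mem_Ln x e) he.1.symm (hne _ (left_mem_Ln x e))
    (hne _ (right_mem_Ln x e))
  have e1 : {z ∈ Ln x e | ¬ Cm b z} = Ln x e := by
    ext w; exact ⟨fun hw => hw.1, fun hw => ⟨hw, hne w hw⟩⟩
  rw [e1] at this
  exact Nat.not_even_iff_odd.2 (h.odd_Ln he) this

theorem P4a {a b y : Pt D} (ha : ¬ Cm a b) (hay : Cm a y) (hs : ∀ w ∈ DD a b, Cm w y) : a = y := by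
  by_contra hne
  obtain ⟨w, h1, h2, h3⟩ := h.sep hne
  obtain ⟨w', h4, h5⟩ := h.one_or_all (x := a) (e := w) ⟨h1, h2⟩ b
  have h6 : w' ≠ a := fun e => ha (e ▸ h5.symm)
  exact h3 (h.Ln_two ⟨h1, h2⟩ (left_mem_Ln a w) h4 h6.symm hay.symm
    (hs w' ⟨(Ln_cm_left h2 h4).symm, h5.symm⟩).symm).2

theorem Ln_le_five {x e : Pt D} (he : e ∈ Dx x) : (Ln x e).ncard ≤ 5 := by
  by_contra hlt
  push Not at hlt
  have hc : ∀ {u v}, u ∈ Ln x e → v ∈ Ln x e → Cm u v := fun hu hv => Ln_cm he.2 hu hv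
  have hx := left_mem_Ln x e
  obtain ⟨a, hax, ha⟩ := h.exists_only he
  have hne : a ≠ x := fun e1 => ha e (right_mem_Ln x e) he.1 (e1 ▸ he.2)
  obtain ⟨b, -, hab, hbx⟩ := h.sep hne
  obtain ⟨p, hp, hbp⟩ := h.one_or_all he b
  have hpx : p ≠ x := fun e1 => hbx (e1 ▸ hbp.symm)
  have hb : ∀ z ∈ Ln x e, z ≠ p → ¬ Cm b z := fun z hz hzp h1 =>
    hbx (h.Ln_two he hz hp hzp h1 hbp).1.symm
  have agree : ∀ (c q : Pt D), q ∈ Ln x e → (∀ z ∈ Ln x e, z ≠ q → ¬ Cm c z) →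
      ∀ {u v u' v' z y}, u ∈ Ln x e → v ∈ Ln x e → u' ∈ Ln x e → v' ∈ Ln x e → z ∈ Ln x e →
      y ∈ Ln x e → z ≠ q → y ≠ q → al c u v • z = al c u' v' • z →
      al c u v • y = al c u' v' • y := by
    intro c q hq hcq u v u' v' z y hu hv hu' hv' hz hy hzq hyq e1
    rw [← al_left (hcq z hz hzq) (hcq y hy hyq) (hc hz hy),
      al_comm (hc hu hz) (hc hu hy) (hc hv hz) (hc hv hy), e1,
      al_comm (hc hu' hz) (hc hu' hy) (hc hv' hz) (hc hv' hy)]
  have same : ∀ {u}, u ∈ Ln x e → u ≠ x → u ≠ p → Cm (a ⋆ u) (b ⋆ u) := by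
    intro u hu h1 h2
    rw [st_comm (ha u hu h1), st_comm (hb u hu h2)]; exact hab.st u
  have adj : ∀ {u v}, u ∈ Ln x e → v ∈ Ln x e → u ≠ v → u ≠ x → u ≠ p → v ≠ x → v ≠ p →
      ¬ Cm (a ⋆ u) (b ⋆ v) := by
    intro u v hu hv huv h1 h2 h3 h4 h5
    have h6 : Cm (a ⋆ v) (b ⋆ u) := by
      have := (h5.st b).st a
      rw [st_st, ← hab.comm, st_st] at this
      exact this.symm
    have h7 : al a u v • al b u v • x = al b u v • x := by
      conv_rhs => rw [← al_fix (a := a) hax.symm (hc hx hu) (hc hx hv)]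
      simp only [al_smul]
      rw [h6.comm, (same hu h1 h2).comm, (same hv h3 h4).comm, h5.comm]
    have h8 := h.al_mem he hu hv huv (hb u hu h2) (hb v hv h4) hx
    have h9 := (h.al_fix_iff he hu hv huv h8).1 h7
    have h10 : al b u v • x = x := by
      by_contra h10; exact ha _ h8 h10 h9
    exact hbx ((h.al_fix_iff he hu hv huv hx).1 h10).symm
  have three : ∀ {u v}, u ∈ Ln x e → v ∈ Ln x e → u ≠ v → u ≠ x → u ≠ p → v ≠ x → v ≠ p →
      al a u v • p = al b u v • x := by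
    intro u v hu hv huv h1 h2 h3 h4
    have k1 := adj hu hv huv h1 h2 h3 h4
    have k2 := adj hv hu huv.symm h3 h4 h1 h2
    have k3 := same hu h1 h2
    have k4 := same hv h3 h4
    have k5 := (hc hu hv).st a
    have k6 := (hc hu hv).st b
    have k7 : ∀ z : Pt D, al b u v • al a u v • al b u v • z = al a u v • al b u v • al a u v • z := by
      intro z
      simp only [al_smul]
      generalize a ⋆ u = s1 at *
      generalize a ⋆ v = s3 at *
      generalize b ⋆ u = s4 at *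
      generalize b ⋆ v = s2 at *
      have f1 := k5.symm.comm; have f2 := k3.symm.comm; have f3 := k4.comm; have f4 := k6.comm
      simp only [f1, f2, f3, f4, braid (nc_symm k1), braid (nc_symm k2)]
    have k8 := k7 x
    rw [al_fix (a := a) hax.symm (hc hx hu) (hc hx hv)] at k8
    have k9 := h.al_mem he hu hv huv (ha u hu h1) (ha v hv h3)
      (h.al_mem he hu hv huv (hb u hu h2) (hb v hv h4) hx)
    have k10 := (h.al_fix_iff he hu hv huv k9).1 k8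
    have k11 : al a u v • al b u v • x = p := by
      by_contra k11; exact hb _ k9 k11 k10
    rw [← k11, al_al (hc hu hv)]
  obtain ⟨u, hu, hu'⟩ := pick (Ln x e) [x, p] (by simp; omega)
  obtain ⟨v, hv, hv'⟩ := pick (Ln x e) [x, p, u] (by simp; omega)
  obtain ⟨w, hw, hw'⟩ := pick (Ln x e) [x, p, u, v, al a u v • p] (by simp; omega)
  simp only [List.mem_cons, List.not_mem_nil, or_false, not_or] at hu' hv' hw'
  obtain ⟨u1, u2⟩ := hu'
  obtain ⟨v1, v2, v3⟩ := hv'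
  obtain ⟨w1, w2, w3, w4, w5⟩ := hw'
  have au := ha u hu u1; have av := ha v hv v1; have aw := ha w hw w1
  have bu := hb u hu u2; have bv := hb v hv v2
  have cm : ∀ z : Pt D, al a u w • al a u v • z = al a u v • al a u w • z :=
    al_comm (hc hu hu) (hc hu hv) (hc hw hu) (hc hw hv)
  have e1 : al a u v • al a u w • v = w := by
    rw [← cm, al_right au av (hc hu hv), al_left au aw (hc hu hw)]
  obtain ⟨z, hz⟩ : ∃ z, z = al a u w • v := ⟨_, rfl⟩
  rw [← hz] at e1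
  have z0 : z ∈ Ln x e := hz ▸ h.al_mem he hu hw (Ne.symm w3) au aw hv
  have z1 : z ≠ x := fun e2 => w1 (by
    rw [← e1, e2, al_fix (a := a) hax.symm (hc hx hu) (hc hx hv)])
  have z2 : z ≠ p := fun e2 => w5 (by rw [← e1, e2])
  have z3 : z ≠ al a u v • p := fun e2 => w2 (by rw [← e1, e2, al_al (hc hu hv)])
  have e2 : al b u v • z = w := by
    obtain ⟨z', hz'⟩ : ∃ z', z' = al b u v • z := ⟨_, rfl⟩
    have y0 : z' ∈ Ln x e := hz' ▸ h.al_mem he hu hv (Ne.symm v3) bu bv z0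
    have y1 : z ≠ z' := fun e2 =>
      hb z z0 z2 ((h.al_fix_iff he hu hv (Ne.symm v3) z0).1 (hz'.symm.trans e2.symm))
    have y2 : z' ≠ p := fun e2 => z2 (by
      rw [← al_al (a := b) (hc hu hv) z, ← hz', e2, al_fix hbp.symm (hc hp hu) (hc hp hv)])
    have y3 : z' ≠ x := fun e2 => z3 (by
      rw [← al_al (a := b) (hc hu hv) z, ← hz', e2, three hu hv (Ne.symm v3) u1 u2 v1 v2])
    have y4 := agree b p hp hb z0 y0 hu hv z0 hx z2 hpx.symm
      (by rw [al_left (hb z z0 z2) (hb z' y0 y2) (hc z0 y0), hz'])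
    rw [← three z0 y0 y1 z1 z2 y3 y2, ← three hu hv (Ne.symm v3) u1 u2 v1 v2] at y4
    have y5 := agree a x hx ha z0 y0 hu hv hp z0 hpx z1 y4
    rw [al_left (ha z z0 z1) (ha z' y0 y3) (hc z0 y0)] at y5
    rw [← hz', y5, e1]
  have g1 : (al a u w * al b u v) • u = z := by rw [mul_smul, al_left bu bv (hc hu hv), hz]
  have g2 : (al a u w * al b u v) • z = u := by rw [mul_smul, e2, al_right au aw (hc hu hw)]
  have g3 := cox5 (adj hu hv (Ne.symm v3) u1 u2 v1 v2) (nc_symm (adj hw hv w4 w1 w2 v1 v2))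
    (adj hw hu w3 w1 w2 u1 u2) ((hc hu hw).st a) (same hu u1 u2) ((hc hv hu).st b) u
  change (al a u w * al b u v) ^ 5 • u = u at g3
  simp only [pow_succ, pow_zero, one_mul, mul_smul (_ * _ : G) (al a u w * al b u v), g1, g2,
    mul_smul (al a u w * al b u v) (al a u w * al b u v)] at g3
  rw [g3] at e1
  exact w4 (by rw [← e1, al_left au av (hc hu hv)])

theorem three_le_Ln {x e : Pt D} (he : e ∈ Dx x) : 3 ≤ (Ln x e).ncard := by
  obtain ⟨z, hz, h1, h2⟩ := h.tau x e he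
  have : ({x, e, z} : Set (Pt D)).ncard = 3 := Set.ncard_eq_three.2 ⟨x, e, z, he.1.symm, h1.symm,
    h2.symm, rfl⟩
  rw [← this]
  refine Set.ncard_le_ncard ?_
  rintro w (rfl | rfl | rfl)
  · exact left_mem_Ln _ _
  · exact right_mem_Ln _ _
  · exact hz

theorem three_or_five : (∀ x : Pt D, ∀ e ∈ Dx x, (Ln x e).ncard = 3) ∨
    (∀ x : Pt D, ∀ e ∈ Dx x, (Ln x e).ncard = 5) := by
  by_contra hne
  push Not at hne
  obtain ⟨⟨x, e, he, h1⟩, ⟨x', e', he', h2⟩⟩ := hne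
  rw [← h.ncard_Ln_eq he he'] at h2
  have h3 := h.three_le_Ln he
  have h4 := h.Ln_le_five he
  obtain ⟨k, hk⟩ := h.odd_Ln he
  omega

/-- lines of size three: no affine planes -/
theorem noAG (h3 : ∀ x : Pt D, ∀ e ∈ Dx x, (Ln x e).ncard = 3) {a b z : Pt D} (hab : ¬ Cm a b) :
    Cm z a ∨ Cm z b ∨ Cm z (a ⋆ b) := by
  have key : ∀ {a b z : Pt D}, ¬ Cm a b → ¬ Cm z a → ¬ Cm z b → ¬ Cm z (a ⋆ b) →
      DD b z = DD b a := by
    intro a b z hab h1 h2 h4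
    refine h.DD_eq (nc_symm h2) (nc_symm hab) (fun y hy => ⟨hy.1, ?_⟩)
    by_contra h5
    have hyz : z ∈ Dx y := ⟨fun e => h2 (e ▸ hy.1), hy.2⟩
    obtain ⟨t, ht, h6⟩ := h.one_or_all hyz a
    obtain ⟨t', ht', h7⟩ := h.one_or_all hyz (a ⋆ b)
    have h8 : ¬ Cm y (a ⋆ b) := nc_st_left hab h5 hy.1
    have t1 : t ≠ y := fun e => h5 (e ▸ h6.symm)
    have t2 : t ≠ z := fun e => h1 (e ▸ h6.symm)
    have t3 : t' = t := by
      by_contra t3
      have : 4 ≤ (Ln y z).ncard := by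
        have e4 : ({y, z, t, t'} : Set (Pt D)).ncard = 4 := by
          rw [Set.ncard_insert_of_notMem, Set.ncard_eq_three.2 ⟨z, t, t', t2.symm,
            fun e => h4 (e ▸ h7.symm), fun e => t3 e.symm, rfl⟩]
          rintro (e | e | e)
          · exact hyz.1 e.symm
          · exact t1 e.symm
          · exact h8 (e ▸ h7.symm)
        rw [← e4]
        refine Set.ncard_le_ncard ?_
        rintro w (rfl | rfl | rfl | rfl)
        · exact left_mem_Ln _ _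
        · exact right_mem_Ln _ _
        · exact ht
        · exact ht'
      rw [h3 y z hyz] at this; omega
    rw [t3] at h7
    have h9 : Cm t b := by simpa using h6.symm.st_right h7.symm
    exact h2 (h.Ln_two hyz (left_mem_Ln y z) ht t1.symm hy.1.symm h9.symm).2.symm
  by_contra hne
  simp only [not_or] at hne
  obtain ⟨h1, h2, h4⟩ := hne
  have h5 : ¬ Cm b (a ⋆ z) := by rwa [cm_comm, ← cm_st_iff]
  have h6 : ¬ Cm a (b ⋆ z) := by rwa [cm_comm, ← cm_st_iff, ← st_comm hab]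
  have k1 := key hab h1 h2 h4
  have k2 := key (nc_symm hab) h2 h1 (by rwa [← st_comm hab])
  have k3 := key (a := b) (b := a) (z := b ⋆ z) (nc_symm hab) (nc_symm (nc_st_self (nc_symm h2)))
    (nc_symm h6) (by rw [cm_st]; exact h1)
  obtain ⟨y, y1, y2, y3⟩ := h.sep (ne_of_nc hab)
  have y4 : ¬ Cm y z := fun hc => y3 ((k2.le : DD a z ⊆ DD a b) ⟨y2.symm, hc⟩).2.symm
  have y5 : ¬ Cm y (b ⋆ z) := fun hc => y3 ((k3.le : DD a _ ⊆ DD a b) ⟨y2.symm, hc⟩).2.symm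
  have k4 := key (a := y) (b := b) (z := z) (nc_symm y3) (nc_symm y4) h2
    (by rwa [st_comm (nc_symm y3), cm_st_iff, cm_comm])
  refine y1 (h.P4a hab y2 (fun w hw => ?_)).symm
  rw [DD_comm, ← k1, k4] at hw
  exact hw.2

end Pol

end Cfsg.Agent.Fis
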