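import Cfsg.Agent.Class.Lin2
import Cfsg.Agent.Class.Uni
import Cfsg.Agent.Class.Orth2
import Cfsg.Agent.Class.Sp
import Cfsg.Prelude.Def_SporadicB

/-! Transvections over the fields with two and four elements as 3-transpositions. -/

set_option autoImplicit false

namespace Cfsg.Agent.Fis

open Cfsg.Agent.Class Matrix Module

variable {F : Type*} [Field F] {P : FP F} {V : Type*} [AddCommGroup V] [Module F V]

/-- `g` is the transvection with centre `u` -/
def IsTv (f : FS P V) (g : V ≃ₗ[F] V) (u : V) : Prop := ∀ x, g x = x + f.B u x • u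

theorem IsTv.ext {f : FS P V} {g g' : V ≃ₗ[F] V} {u : V} (h : IsTv f g u) (h' : IsTv f g' u) :
    g = g' := LinearEquiv.ext fun x => by rw [h, h']

theorem IsTv.smul {f : FS P V} {g : V ≃ₗ[F] V} {u : V} (h : IsTv f g u) {c : F}
    (hc : P.σ c * c = 1) : IsTv f g (c • u) := fun x => by
  rw [h, FS.B_smul_left, smul_smul, mul_right_comm, hc, one_mul]

theorem IsTv.conj {f : FS P V} {g k : V ≃ₗ[F] V} {u : V} (h : IsTv f g u) (hk : k ∈ f.Isom) :
    IsTv f (k * g * k⁻¹) (k u) := fun x => by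
  show k (g (k.symm x)) = _
  rw [h, map_add, map_smul, FS.Isom_B_symm hk, LinearEquiv.apply_symm_apply]

theorem IsTv.sq {f : FS P V} {g : V ≃ₗ[F] V} {u : V} (h : IsTv f g u) (h2 : (2 : F) = 0)
    (hu : f.B u u = 0) : g * g = 1 := LinearEquiv.ext fun x => by
  show g (g x) = x
  rw [h (g x), h x, map_add, map_smul, hu, smul_zero, add_zero, add_assoc, ← add_smul, ← two_mul, h2,
    zero_mul, zero_smul, add_zero]

theorem eps_one (h2 : (2 : F) = 0) : P.ε = 1 := by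
  have : (P.ε - 1) ^ 2 = 0 := by linear_combination P.εε + (1 - P.ε) * h2
  exact sub_eq_zero.1 (pow_eq_zero_iff two_ne_zero |>.1 this)

theorem class_of_tv {Γ : Type*} [Group Γ] {f : FS P V} (hf : f.Nondeg) (h2 : (2 : F) = 0)
    (hN : ∀ b : F, b ≠ 0 → P.σ b * b = 1) (φ : Γ →* (V ≃ₗ[F] V)) (hφ : Function.Injective φ)
    (hI : ∀ g, φ g ∈ f.Isom) (S : V → Prop) (hS : ∀ u, S u → u ≠ 0 ∧ f.B u u = 0)
    (hS' : ∀ g u, S u → S (φ g u)) {D : Set Γ} (hD : ∀ d, d ∈ D ↔ ∃ u, S u ∧ IsTv f (φ d) u)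
    (hne : D.Nonempty) (htr : ∀ u v, S u → S v → ∃ g, ∃ c : F, c ≠ 0 ∧ φ g u = c • v)
    (hgen : Subgroup.closure D = ⊤) : Cfsg.IsThreeTranspositionClass D := by
  have hsq : ∀ d ∈ D, d * d = 1 := fun d hd => by
    obtain ⟨u, hu, h⟩ := (hD d).1 hd
    apply hφ; rw [map_mul, map_one, h.sq h2 (hS u hu).2]
  have hinv : ∀ d ∈ D, d⁻¹ = d := fun d hd => inv_eq_of_mul_eq_one_right (hsq d hd)
  refine ⟨⟨fun d hd => ?_, fun d hd e he => ?_⟩, ?_, hgen⟩
  · refine orderOf_eq_prime (by rw [pow_two, hsq d hd]) ?_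
    rintro rfl
    obtain ⟨u, hu, h⟩ := (hD 1).1 hd
    refine (hS u hu).1 (hf.eq_zero fun y => ?_)
    have := h y
    rw [map_one] at this
    have h3 : f.B u y • u = 0 := by simpa using this
    exact (smul_eq_zero.1 h3).resolve_right (hS u hu).1
  · obtain ⟨u, hu, h⟩ := (hD d).1 hd
    obtain ⟨v, hv, h'⟩ := (hD e).1 he
    have c1 := h'.conj (hI d)
    have c2 := h.conj (hI e)
    rw [← map_inv, ← map_mul, ← map_mul, hinv d hd, h v] at c1
    rw [← map_inv, ← map_mul, ← map_mul, hinv e he, h' u] at c2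
    by_cases hb : f.B u v = 0
    · left
      rw [hb, zero_smul, add_zero] at c1
      have := hφ (c1.ext h')
      rw [pow_two, ← mul_assoc, this, hsq e he]
    · right
      have c3 := c1.smul (hN _ (FS.B_ne_zero_comm hb))
      have e1 : f.B v u * f.B u v = 1 := by rw [f.symm u v, eps_one h2, one_mul, hN _ hb]
      rw [smul_add, smul_smul, e1, one_smul, add_comm] at c3
      have := hφ (c3.ext c2)
      have e2 : (d * e) ^ 3 = (d * e * d) * (e * d * e) := by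
        simp only [pow_succ, pow_zero, one_mul, mul_assoc]
      rw [e2, this]
      calc e * d * e * (e * d * e) = e * (d * (e * e) * d) * e := by simp only [mul_assoc]
        _ = 1 := by rw [hsq e he, mul_one, hsq d hd, mul_one, hsq e he]
  · obtain ⟨d, hd⟩ := hne
    obtain ⟨u, hu, h⟩ := (hD d).1 hd
    refine ⟨d, hd, ?_⟩
    ext e; constructor
    · intro he
      obtain ⟨v, hv, h'⟩ := (hD e).1 he
      obtain ⟨g, c, hc, hg⟩ := htr u v hu hv
      have c1 := h.conj (hI g)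
      rw [← map_inv, ← map_mul, ← map_mul, hg] at c1
      exact isConj_iff.2 ⟨g, hφ (c1.ext (h'.smul (hN c hc)))⟩
    · intro he
      obtain ⟨g, rfl⟩ := isConj_iff.1 he
      have c1 := h.conj (hI g)
      rw [← map_inv, ← map_mul, ← map_mul] at c1
      exact (hD _).2 ⟨_, hS' g u hu, c1⟩

section mat

variable {ι : Type*} [Fintype ι] [DecidableEq ι] {f : FS P (ι → F)}

theorem exists_of_rank (hf : f.Nondeg) {g : (ι → F) ≃ₗ[F] (ι → F)} (hg : g ∈ f.Isom)
    {A : Matrix ι ι F} (hA : ∀ x, g x = A *ᵥ x) (hr : (A - 1).rank = 1) :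
    ∃ a c, a ≠ 0 ∧ c ≠ 0 ∧ (∀ x, g x = x + (c * f.B a x) • a) ∧ A.det = 1 + c * f.B a a := by
  obtain ⟨a, l, ha, hl, h1⟩ := exists_vecMulVec_of_rank hr
  have h2 : A = 1 + vecMulVec a l := by rw [← h1]; simp
  have h3 : ∀ x, g x = x + (l ⬝ᵥ x) • a := fun x => by rw [hA, h2, one_add_vecMulVec_mulVec]
  obtain ⟨x0, hx0⟩ : ∃ x0, l ⬝ᵥ x0 = 1 := by
    obtain ⟨i, hi⟩ := Function.ne_iff.1 hl
    exact ⟨Pi.single i (l i)⁻¹, by rw [dotProduct_single]; exact mul_inv_cancel₀ hi⟩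
  have h4 : ∀ y, f.B a y = -(f.B x0 a + f.B a a) * (l ⬝ᵥ y) := fun y => by
    have := FS.Isom_B hg x0 y
    rw [h3, h3, hx0, one_smul] at this
    simp only [map_add, LinearMap.add_apply, map_smul, smul_eq_mul] at this
    linear_combination this
  have h5 : -(f.B x0 a + f.B a a) ≠ 0 := fun h => ha (hf.eq_zero fun y => by rw [h4, h, zero_mul])
  have h6 : ∀ y, l ⬝ᵥ y = (-(f.B x0 a + f.B a a))⁻¹ * f.B a y := fun y => by
    rw [eq_inv_mul_iff_mul_eq₀ h5]; exact (h4 y).symm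
  refine ⟨a, _, ha, inv_ne_zero h5, fun x => by rw [h3, h6], ?_⟩
  rw [h2, det_one_add_vecMulVec, h6]

theorem rank_of_tv (hf : f.Nondeg) {g : (ι → F) ≃ₗ[F] (ι → F)} {A : Matrix ι ι F}
    (hA : ∀ x, g x = A *ᵥ x) {u : ι → F} (hu : u ≠ 0) (h : IsTv f g u) : (A - 1).rank = 1 := by
  have h1 : ∀ x, (A - 1) *ᵥ x = f.B u x • u := fun x => by
    rw [sub_mulVec, one_mulVec, ← hA, h, add_sub_cancel_left]
  have h2 : LinearMap.range (A - 1).mulVecLin = Submodule.span F {u} := by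
    apply le_antisymm
    · rintro _ ⟨x, rfl⟩
      rw [mulVecLin_apply, h1]
      exact Submodule.smul_mem _ _ (Submodule.mem_span_singleton_self u)
    · rw [Submodule.span_le, Set.singleton_subset_iff]
      obtain ⟨y, hy⟩ : ∃ y, f.B u y ≠ 0 := by
        by_contra hne; push Not at hne; exact hu (hf.eq_zero hne)
      refine ⟨(f.B u y)⁻¹ • y, ?_⟩
      rw [mulVecLin_apply, h1, map_smul, smul_eq_mul, inv_mul_cancel₀ hy, one_smul]
  rw [Matrix.rank, h2, finrank_span_singleton hu]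

end mat

theorem zmod2_ne {c : ZMod 2} (h : c ≠ 0) : c = 1 := by revert c; decide

theorem isTv_spT {V : Type*} [AddCommGroup V] [Module (ZMod 2) V] (f : FS (FP.sp (ZMod 2)) V)
    (u : V) : IsTv f (f.spT u 1) u := fun x => by
  rw [FS.spT_apply, one_mul, sub_eq_add_neg, ← neg_smul, ZMod.neg_eq_self_mod_two]

theorem isTv_rf {V : Type*} [AddCommGroup V] [Module (ZMod 2) V] (f : OS (ZMod 2) V)
    {u : V} (hu : f.Q u = 1) : IsTv f (f.rf u).1 u := fun x => by
  rw [FS.rf_apply, hu, inv_one, one_mul, sub_eq_add_neg, ← neg_smul, ZMod.neg_eq_self_mod_two]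

theorem sp_class (n : ℕ) (hn : 1 ≤ n) : Cfsg.IsThreeTranspositionClass
    {g : symplecticGroup (Fin n) (ZMod 2) |
      ((g : Matrix (Fin n ⊕ Fin n) (Fin n ⊕ Fin n) (ZMod 2)) - 1).rank = 1} := by
  have hf := spFS_nondeg n (ZMod 2)
  have hD : ∀ d : symplecticGroup (Fin n) (ZMod 2),
      d ∈ {g : symplecticGroup (Fin n) (ZMod 2) |
        ((g : Matrix (Fin n ⊕ Fin n) (Fin n ⊕ Fin n) (ZMod 2)) - 1).rank = 1} ↔
      ∃ u, u ≠ 0 ∧ IsTv (spFS n (ZMod 2)) (spLin n (ZMod 2) d) u := by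
    intro d
    constructor
    · intro hd
      obtain ⟨a, c, ha, hc, h1, -⟩ := exists_of_rank hf (spLin_mem d) (spLin_apply d) hd
      exact ⟨a, ha, fun x => by rw [h1, zmod2_ne hc, one_mul]⟩
    · rintro ⟨u, hu, h⟩
      exact rank_of_tv hf (spLin_apply d) hu h
  have hT : ∀ u, u ≠ 0 → ∃ d ∈ {g : symplecticGroup (Fin n) (ZMod 2) |
        ((g : Matrix (Fin n ⊕ Fin n) (Fin n ⊕ Fin n) (ZMod 2)) - 1).rank = 1},
      spLin n (ZMod 2) d = (spFS n (ZMod 2)).spT u 1 := by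
    intro u hu
    obtain ⟨d, hd⟩ := exists_sp_of_mem ((spFS n (ZMod 2)).spT_mem u 1)
    exact ⟨d, (hD d).2 ⟨u, hu, hd ▸ isTv_spT _ u⟩, hd⟩
  refine class_of_tv hf rfl (fun b hb => by rw [zmod2_ne hb]; rfl) (spLin n (ZMod 2))
    spLin_injective spLin_mem (· ≠ 0) (fun u hu => ⟨hu, FS.sp_self _ u⟩)
    (fun g u hu => by simpa only [ne_eq, EmbeddingLike.map_eq_zero_iff] using hu) hD ?_ ?_ ?_
  · obtain ⟨d, hd, -⟩ := hT (Pi.single (.inl ⟨0, hn⟩) 1) (by simp)
    exact ⟨d, hd⟩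
  · intro u v hu hv
    obtain ⟨g, hg, e⟩ := FS.witt_one hf hu hv (by rw [FS.sp_Q, FS.sp_Q])
    obtain ⟨A, rfl⟩ := exists_sp_of_mem hg
    exact ⟨A, 1, one_ne_zero, by rw [e, one_smul]⟩
  · refine closure_eq_top_of_map _ spLin_injective _ ?_
    rw [spLin_range]
    refine FS.sp_Isom_le hf (fun u c => ?_)
    by_cases hu : u = 0
    · have : (spFS n (ZMod 2)).spT u c = 1 := LinearEquiv.ext fun x => by
        rw [FS.spT_apply, hu]; simp
      rw [this]; exact one_mem _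
    by_cases hc : c = 0
    · have : (spFS n (ZMod 2)).spT u c = 1 := LinearEquiv.ext fun x => by
        rw [FS.spT_apply, hc]; simp
      rw [this]; exact one_mem _
    obtain ⟨d, hd, e⟩ := hT u hu
    rw [zmod2_ne hc]
    exact Subgroup.subset_closure ⟨d, hd, e⟩

theorem o_class {ι : Type} [Fintype ι] [DecidableEq ι] (f : OS (ZMod 2) (ι → ZMod 2))
    (hf : f.Nondeg) (hn : 5 ≤ finrank (ZMod 2) (ι → ZMod 2)) : Cfsg.IsThreeTranspositionClass
    {g : Cfsg.isometryGroup (ZMod 2) f.Q |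
      (((g : GL ι (ZMod 2)) : Matrix ι ι (ZMod 2)) - 1).rank = 1} := by
  have hI : ∀ g, oLin f.Q g ∈ f.Isom := fun g => oLin_range f ▸ ⟨g, rfl⟩
  have hS : ∀ u, f.Q u = 1 → u ≠ 0 ∧ f.B u u = 0 := fun u hu =>
    ⟨fun h => by simp [h] at hu, by rw [FS.orth_self]; exact mul_eq_zero_of_left rfl _⟩
  have hD : ∀ d : Cfsg.isometryGroup (ZMod 2) f.Q,
      d ∈ {g : Cfsg.isometryGroup (ZMod 2) f.Q |
        (((g : GL ι (ZMod 2)) : Matrix ι ι (ZMod 2)) - 1).rank = 1} ↔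
      ∃ u, f.Q u = 1 ∧ IsTv f (oLin f.Q d) u := by
    intro d
    constructor
    · intro hd
      obtain ⟨a, c, ha, hc, h1, -⟩ := exists_of_rank hf (hI d) (oLin_apply d) hd
      refine ⟨a, ?_, fun x => by rw [h1, zmod2_ne hc, one_mul]⟩
      obtain ⟨y, hy⟩ : ∃ y, f.B a y ≠ 0 := by
        by_contra hne; push Not at hne; exact ha (hf.eq_zero hne)
      have := FS.Isom_Q (hI d) y
      rw [h1, zmod2_ne hc, zmod2_ne hy, one_mul, one_smul, FS.orth_Q_add, FS.orth_symm,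
        zmod2_ne hy, add_assoc, add_eq_left] at this
      revert this; generalize f.Q a = q; revert q; decide
    · rintro ⟨u, hu, h⟩
      exact rank_of_tv hf (oLin_apply d) (hS u hu).1 h
  have hT : ∀ u, f.Q u = 1 → (oEquiv f).symm (f.rf u) ∈ {g : Cfsg.isometryGroup (ZMod 2) f.Q |
        (((g : GL ι (ZMod 2)) : Matrix ι ι (ZMod 2)) - 1).rank = 1} := by
    intro u hu
    refine (hD _).2 ⟨u, hu, ?_⟩
    have : oLin f.Q ((oEquiv f).symm (f.rf u)) = (f.rf u).1 :=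
      congrArg Subtype.val ((oEquiv f).apply_symm_apply _)
    rw [this]; exact isTv_rf f hu
  refine class_of_tv hf rfl (fun b hb => by rw [zmod2_ne hb]; rfl) (oLin f.Q)
    oLin_injective hI (f.Q · = 1) hS (fun g u hu => by rw [FS.Isom_Q (hI g), hu]) hD ?_ ?_ ?_
  · obtain ⟨u, hu⟩ := hf.exists_Q_ne' (by omega)
    exact ⟨_, hT u (zmod2_ne hu)⟩
  · intro u v hu hv
    obtain ⟨g, hg, e⟩ := FS.witt_one hf (hS u hu).1 (hS v hv).1 (hu.trans hv.symm)
    rw [← oLin_range] at hg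
    obtain ⟨A, rfl⟩ := hg
    exact ⟨A, 1, one_ne_zero, by rw [e, one_smul]⟩
  · rw [eq_top_iff]
    intro g _
    rw [← (oEquiv f).symm_apply_apply g]
    generalize oEquiv f g = k
    induction k using FS.rf_induction hf (Or.inr (Or.inl (by omega))) with
    | h1 => rw [map_one]; exact one_mem _
    | h2 v g hv ih => rw [map_mul]; exact mul_mem (Subgroup.subset_closure (hT v (zmod2_ne hv))) ih

theorem UF.two_eq_zero {σ : F →+* F} (h : UF σ 2) : (2 : F) = 0 := by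
  have := h.eq 2
  rw [map_ofNat] at this
  linear_combination -this

theorem UF.norm_one {σ : F →+* F} (h : UF σ 2) {b : F} (hb : b ≠ 0) : σ b * b = 1 := by
  have := h.σσ b
  rw [h.eq, h.eq] at this
  rw [h.eq]
  apply mul_left_cancel₀ hb
  linear_combination this

theorem UF.eq_one {σ : F →+* F} (h : UF σ 2) {c : F} (hc : c ≠ 0) (h1 : c + σ c = 0) : c = 1 := by
  rw [h.eq] at h1
  apply mul_left_cancel₀ hc
  linear_combination h1 - c * UF.two_eq_zero h

theorem su_trans {σ : F →+* F} {q : ℕ} (h : UF σ q) {f : FS (FP.herm σ h.σσ) V}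
    [FiniteDimensional F V] (hf : f.Nondeg) {u v : V} (hu : u ≠ 0) (hv : v ≠ 0) (hu' : f.Q u = 0)
    (hv' : f.Q v = 0) : ∃ g ∈ f.SI, ∃ c : F, c ≠ 0 ∧ g u = c • v := by
  obtain ⟨g, hg, e⟩ := FS.witt_one hf hu hv (hu'.trans hv'.symm)
  obtain ⟨w, hw⟩ := hf.exists_partner' hv' hv
  have h1 := FS.det_norm hf (inv_mem hg)
  obtain ⟨c, hc, e1⟩ := h.hilbert90 h1
  refine ⟨hw.scale c hc * g, FS.mem_SI.2 ⟨mul_mem (hw.scale_mem c hc) hg, ?_⟩, c, hc, ?_⟩
  · rw [map_mul]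
    have : (hw.scale c hc).det = g⁻¹.det := Units.ext ((hw.det_scale c hc).trans e1)
    rw [this, ← map_mul, inv_mul_cancel, map_one]
  · show hw.scale c hc (g u) = _
    rw [e, hw.scale_left]

theorem su_class {σ : F →+* F} (h : UF σ 2) (n : ℕ) (hn : 4 ≤ n) [DecidableEq F] :
    Cfsg.IsThreeTranspositionClass {g : Cfsg.SU n F 2 |
      (((g : SpecialLinearGroup (Fin n) F) : Matrix (Fin n) (Fin n) F) - 1).rank = 1} := by
  have hf : (uFS h n).Nondeg := uFS_nondeg h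
  have hI' : ∀ g, suLin F 2 n g ∈ (uFS h n).SI := fun g => suLin_range h ▸ ⟨g, rfl⟩
  have hI : ∀ g, suLin F 2 n g ∈ (uFS h n).Isom := fun g => FS.SI_le (hI' g)
  have h11 : (1 : F) + σ 1 = 0 := by rw [map_one, one_add_one_eq_two, UF.two_eq_zero h]
  have hD : ∀ d : Cfsg.SU n F 2, d ∈ {g : Cfsg.SU n F 2 |
      (((g : SpecialLinearGroup (Fin n) F) : Matrix (Fin n) (Fin n) F) - 1).rank = 1} ↔
      ∃ u, (u ≠ 0 ∧ (uFS h n).B u u = 0) ∧ IsTv (uFS h n) (suLin F 2 n d) u := by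
    intro d
    constructor
    · intro hd
      obtain ⟨a, c, ha, hc, h1, h2⟩ := exists_of_rank hf (hI d) (suLin_apply d) hd
      rw [d.1.2, left_eq_add, mul_eq_zero, or_iff_right hc] at h2
      refine ⟨a, ⟨ha, h2⟩, fun x => ?_⟩
      obtain ⟨w, hw⟩ := hf.exists_partner' ((FS.herm_Q _ _).trans h2) ha
      have := FS.Isom_B (hI d) w w
      rw [h1] at this
      have h3 : c + σ c = 0 := by simpa [hw.B11, hw.B12, hw.B21, hw.B22, add_comm] using this
      rw [h1, UF.eq_one h hc h3, one_mul]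
    · rintro ⟨u, hu, h⟩
      exact rank_of_tv hf (suLin_apply d) hu.1 h
  have hT : ∀ u (hu : u ≠ 0) (hu' : (uFS h n).Q u = 0), ∃ d ∈ {g : Cfsg.SU n F 2 |
      (((g : SpecialLinearGroup (Fin n) F) : Matrix (Fin n) (Fin n) F) - 1).rank = 1},
      suLin F 2 n d = (uFS h n).uT u 1 hu' h11 := by
    intro u hu hu'
    have := FS.EO_le_SI (FS.uT_mem_EO u 1 hu' h11)
    rw [← suLin_range] at this
    obtain ⟨d, hd⟩ := this
    exact ⟨d, (hD d).2 ⟨u, ⟨hu, (FS.herm_Q _ _).symm.trans hu'⟩, fun x => by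
      rw [hd, FS.uT_apply, one_mul]⟩, hd⟩
  refine class_of_tv hf (UF.two_eq_zero h) (fun b hb => UF.norm_one h hb) (suLin F 2 n)
    suLin_injective hI (fun u => u ≠ 0 ∧ (uFS h n).B u u = 0) (fun u hu => hu)
    (fun g u hu => ⟨by simpa only [ne_eq, EmbeddingLike.map_eq_zero_iff] using hu.1,
      by rw [FS.Isom_B (hI g), hu.2]⟩) hD ?_ ?_ ?_
  · obtain ⟨u, v, huv⟩ := hf.herm_exists_hyp h (by simp; omega)
    obtain ⟨d, hd, -⟩ := hT u huv.ne1 huv.Q1
    exact ⟨d, hd⟩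
  · intro u v hu hv
    obtain ⟨g, hg, c, hc, e⟩ := su_trans h hf hu.1 hv.1 ((FS.herm_Q _ _).trans hu.2)
      ((FS.herm_Q _ _).trans hv.2)
    rw [← suLin_range] at hg
    obtain ⟨A, rfl⟩ := hg
    exact ⟨A, c, hc, e⟩
  · refine closure_eq_top_of_map _ suLin_injective _ ?_
    have : Nonempty (Fin n) := ⟨⟨0, by omega⟩⟩
    rw [suLin_range h, ← FS.uTG_eq_SI h hf (Or.inr (by simpa using hn)), FS.uTG, Subgroup.closure_le]
    rintro _ ⟨u, c, hu', hc', rfl⟩
    by_cases hu : u = 0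
    · have : (uFS h n).uT u c hu' hc' = 1 := LinearEquiv.ext fun x => by
        rw [FS.uT_apply, hu]; simp
      rw [this]; exact one_mem _
    by_cases hc : c = 0
    · have : (uFS h n).uT u c hu' hc' = 1 := LinearEquiv.ext fun x => by
        rw [FS.uT_apply, hc]; simp
      rw [this]; exact one_mem _
    obtain ⟨d, hd, e⟩ := hT u hu hu'
    obtain rfl := UF.eq_one h hc hc'
    exact Subgroup.subset_closure ⟨d, hd, e⟩

end Cfsg.Agent.Fis
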