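import Cfsg.Agent.Fis.E
import Cfsg.Agent.Fis.Tv
import Cfsg.Agent.Class.Sp2

/-! Fischer spaces: linear models and recognition; the symplectic case. -/

set_option autoImplicit false

namespace Cfsg.Agent.Fis

open Subgroup Cfsg.Agent.Class Module

variable {G : Type*} [Group G] {D : Set G} [TT D]

theorem hom_of_Gam {K Y : Type*} [Group K] [MulAction K Y] {P : Y → Prop}
    {hP : ∀ (σ : K) y, P y → P (σ • y)} {ρ : Y → Pt D} (h : Cl D) (hZ : center G = ⊥)
    (h1 : ∀ σ, ∃ g, (σ, g) ∈ Gam P hP ρ)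
    (h2 : ∀ x : Pt D, ∃ σ, (σ, x.t) ∈ Gam P hP ρ) (h3 : ∀ x, ∃ y, P y ∧ ρ y = x) :
    ∃ ψ : K →* G, Function.Surjective ψ ∧ ∀ σ g, (σ, g) ∈ Gam P hP ρ ↔ ψ σ = g := by
  have h5 : ∀ g, (1, g) ∈ Gam P hP ρ → g = 1 := by
    intro g hg
    rw [← mem_bot, ← hZ, h.mem_center_iff]
    intro x
    obtain ⟨y, hy, rfl⟩ := h3 x
    have := hg y hy
    simpa using this.symm
  obtain ⟨ψ, hψ⟩ := Subgroup.exists_eq_graph (G := Gam P hP ρ)
    ⟨fun a b hab => by
      have h7 := h5 (a.1.2⁻¹ * b.1.2) (by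
        have := mul_mem (inv_mem a.2) b.2
        have e : a.1.1 = b.1.1 := hab
        rwa [show a.1⁻¹ * b.1 = (1, a.1.2⁻¹ * b.1.2) from Prod.ext (by simp [e]) rfl] at this)
      exact Subtype.ext (Prod.ext hab (inv_mul_eq_one.1 h7)),
     fun σ => by obtain ⟨g, hg⟩ := h1 σ; exact ⟨⟨_, hg⟩, rfl⟩⟩
  have key : ∀ σ g, (σ, g) ∈ Gam P hP ρ ↔ ψ σ = g := fun σ g => by rw [hψ]; rfl
  refine ⟨ψ, ?_, key⟩
  rw [← MonoidHom.range_eq_top, eq_top_iff, ← h.gen, closure_le]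
  intro d hd
  obtain ⟨σ, hσ⟩ := h2 ⟨d, hd⟩
  exact ⟨σ, (key _ _).1 hσ⟩

variable {F : Type*} [Field F] {P : FP F} {V : Type*} [AddCommGroup V] [Module F V]

/-- A linear model of the Fischer space: the points are the isotropic points. -/
structure Model (f : FS P V) (Φ : Pt D → V) : Prop where
  nd : f.Nondeg
  cm : ∀ a b, f.B (Φ a) (Φ b) = 0 ↔ Cm a b
  surj : ∀ v, v ≠ 0 → f.B v v = 0 → ∃ a c, c ≠ (0 : F) ∧ v = c • Φ a
  st : ∀ a b, ∃ c, c ≠ (0 : F) ∧ Φ b + f.B (Φ a) (Φ b) • Φ a = c • Φ (a ⋆ b)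

theorem Model.inj [Finite G] {f : FS P V} {Φ : Pt D → V} (hM : Model f Φ) (h : Prim D)
    {a b : Pt D} {c : F} (e : Φ a = c • Φ b) : a = b := by
  by_contra hne
  obtain ⟨x, -, h1, h2⟩ := h.sep (Ne.symm hne)
  apply h2
  rw [cm_comm, ← hM.cm, e, map_smul, (hM.cm _ _).2 h1.symm, smul_zero]

theorem Model.recog [Finite G] {f : FS P V} {Φ : Pt D → V} (hM : Model f Φ) (h : Prim D)
    (hZ : center G = ⊥) (hne : ∀ a, Φ a ≠ 0) (a0 : Pt D) (hN : ∀ b : F, b ≠ 0 → P.σ b * b = 1)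
    (Γ : Subgroup (V ≃ₗ[F] V)) (hΓ : Γ ≤ f.Isom)
    (hT : ∀ u, u ≠ 0 → f.B u u = 0 → ∃ g ∈ Γ, IsTv f g u)
    (hgen : closure {g : Γ | ∃ u, u ≠ 0 ∧ f.B u u = 0 ∧ IsTv f g u} = ⊤) :
    ∃ ψ : Γ →* G, Function.Surjective ψ ∧ ψ.ker = center Γ ∧
      ∀ σ ∈ ψ.ker, ∀ v, v ≠ 0 → f.B v v = 0 → ∃ c : F, c ≠ 0 ∧ σ.1 v = c • v := by
  classical
  let ρ : V → Pt D := fun v => if h : ∃ a c, c ≠ (0 : F) ∧ v = c • Φ a then h.choose else a0
  have hρ : ∀ a (c : F), c ≠ 0 → ρ (c • Φ a) = a := by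
    intro a c hc
    have h1 : ∃ b c', c' ≠ (0 : F) ∧ c • Φ a = c' • Φ b := ⟨a, c, hc, rfl⟩
    simp only [ρ, dif_pos h1]
    obtain ⟨c', hc', e⟩ := h1.choose_spec
    exact hM.inj h (c := c'⁻¹ * c) (by rw [mul_smul, eq_inv_smul_iff₀ hc']; exact e.symm)
  have hP : ∀ (σ : Γ) (v : V), (v ≠ 0 ∧ f.B v v = 0) → (σ • v ≠ 0 ∧ f.B (σ • v) (σ • v) = 0) :=
    fun σ v hv => ⟨by
      show σ.1 v ≠ 0
      simpa only [ne_eq, EmbeddingLike.map_eq_zero_iff] using hv.1, by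
      show f.B (σ.1 v) (σ.1 v) = 0
      rw [FS.Isom_B (hΓ σ.2), hv.2]⟩
  have key : ∀ (σ : Γ) a, IsTv f σ (Φ a) → (σ, a.t) ∈ Gam _ hP ρ := by
    intro σ a hσ v hv
    obtain ⟨b, c, hc, rfl⟩ := hM.surj v hv.1 hv.2
    obtain ⟨c', hc', e⟩ := hM.st a b
    show ρ (σ.1 (c • Φ b)) = a ⋆ ρ (c • Φ b)
    rw [map_smul, hσ, e, smul_smul, hρ _ _ (mul_ne_zero hc hc'), hρ _ _ hc]
  obtain ⟨ψ, h1, h2⟩ := hom_of_Gam (hP := hP) (ρ := ρ) h.toCl hZ (Gam_fst hgen (by
      rintro σ ⟨u, hu, hu', hσ⟩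
      obtain ⟨a, c, hc, rfl⟩ := hM.surj u hu hu'
      have := hσ.smul (hN _ (inv_ne_zero hc))
      rw [smul_smul, inv_mul_cancel₀ hc, one_smul] at this
      exact ⟨_, key σ a this⟩))
    (fun x => by
      obtain ⟨g, hg, hg'⟩ := hT (Φ x) (hne x) ((hM.cm x x).2 (Cm.refl x))
      exact ⟨⟨g, hg⟩, key ⟨g, hg⟩ x hg'⟩)
    (fun x => ⟨Φ x, ⟨hne x, (hM.cm x x).2 (Cm.refl x)⟩, by
      simpa using hρ x 1 one_ne_zero⟩)
  have h3 : ∀ σ ∈ ψ.ker, ∀ v, v ≠ 0 → f.B v v = 0 → ∃ c : F, c ≠ 0 ∧ σ.1 v = c • v := by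
    intro σ hσ v hv hv'
    have h4 := (h2 σ 1).2 hσ v ⟨hv, hv'⟩
    obtain ⟨h5, h6⟩ := hP σ v ⟨hv, hv'⟩
    obtain ⟨b, c, hc, rfl⟩ := hM.surj v hv hv'
    obtain ⟨b', c', hc', e⟩ := hM.surj _ h5 h6
    simp only [one_smul] at h4
    rw [e, hρ _ _ hc, hρ _ _ hc'] at h4
    refine ⟨c' * c⁻¹, mul_ne_zero hc' (inv_ne_zero hc), e.trans ?_⟩
    rw [h4, smul_smul, inv_mul_cancel_right₀ hc]
  refine ⟨ψ, h1, le_antisymm (fun σ hσ => ?_) (fun σ hσ => ?_), h3⟩
  · rw [Subgroup.mem_center_iff]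
    intro g
    have : closure {g : Γ | ∃ u, u ≠ 0 ∧ f.B u u = 0 ∧ IsTv f g u} ≤ centralizer {σ} := by
      rw [closure_le]
      rintro τ ⟨u, hu, hu', hτ⟩
      rw [SetLike.mem_coe, mem_centralizer_singleton_iff]
      obtain ⟨c, hc, e⟩ := h3 σ hσ u hu hu'
      have h4 := hτ.conj (hΓ σ.2)
      rw [e] at h4
      have h5 := h4.ext (hτ.smul (hN c hc))
      exact Subtype.ext (mul_inv_eq_iff_eq_mul.1 h5).symm
    exact mem_centralizer_singleton_iff.1 (this (hgen ▸ mem_top g))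
  · rw [MonoidHom.mem_ker, ← mem_bot, ← hZ, Subgroup.mem_center_iff]
    intro g
    obtain ⟨τ, rfl⟩ := h1 g
    rw [← map_mul, ← map_mul, Subgroup.mem_center_iff.1 hσ τ]

theorem closure_sub_of_le {H : Type*} [Group H] {Γ : Subgroup H} {S : Set H} (h1 : S ⊆ Γ)
    (h2 : Γ ≤ closure S) : closure ((↑) ⁻¹' S : Set Γ) = ⊤ := by
  have : Γ = closure S := le_antisymm h2 ((closure_le _).2 h1)
  subst this
  exact closure_closure_coe_preimage

theorem Model.sp_iso [Finite G] {V : Type*} [AddCommGroup V] [Module (ZMod 2) V]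
    [FiniteDimensional (ZMod 2) V] {f : FS (FP.sp (ZMod 2)) V} {Φ : Pt D → V} (hM : Model f Φ)
    (h : Prim D) (hZ : center G = ⊥) (hne : ∀ a, Φ a ≠ 0) (a0 : Pt D) {n : ℕ}
    (hn : finrank (ZMod 2) V = 2 * n) :
    Nonempty (G ≃* Matrix.symplecticGroup (Fin n) (ZMod 2)) := by
  obtain ⟨ψ, h1, -, h3⟩ := hM.recog h hZ hne a0 (fun b hb => by rw [zmod2_ne hb]; rfl) f.Isom le_rfl
    (fun u _ _ => ⟨_, f.spT_mem u 1, isTv_spT f u⟩) (by
      refine closure_sub_of_le (S := {g | ∃ u, u ≠ 0 ∧ f.B u u = 0 ∧ IsTv f g u}) ?_ ?_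
      · rintro g ⟨u, -, -, hg⟩
        rw [hg.ext (isTv_spT f u)]; exact f.spT_mem u 1
      refine FS.sp_Isom_le hM.nd (fun u c => ?_)
      by_cases hu : u = 0
      · have : f.spT u c = 1 := LinearEquiv.ext fun x => by rw [FS.spT_apply, hu]; simp
        rw [this]; exact one_mem _
      by_cases hc : c = 0
      · have : f.spT u c = 1 := LinearEquiv.ext fun x => by rw [FS.spT_apply, hc]; simp
        rw [this]; exact one_mem _
      rw [zmod2_ne hc]
      exact subset_closure ⟨u, hu, f.sp_self u, isTv_spT f u⟩)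
  have h4 : Function.Injective ψ := by
    rw [injective_iff_map_eq_one]
    intro σ hσ
    refine Subtype.ext (LinearEquiv.ext fun v => ?_)
    by_cases hv : v = 0
    · simp [hv]
    obtain ⟨c, hc, e⟩ := h3 σ hσ v hv (f.sp_self v)
    rw [e, zmod2_ne hc, one_smul]; rfl
  obtain ⟨e, he⟩ := FS.sp_isIso _ hM.nd (spFS_nondeg n (ZMod 2)) hn (by simp [two_mul])
  exact ⟨(MulEquiv.ofBijective ψ ⟨h4, h1⟩).symm.trans
    (he.isomEquiv.symm.trans (spEquiv n (ZMod 2)).symm)⟩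

theorem Model.su_iso [Finite G] {σ : F →+* F} (hF : UF σ 2) [FiniteDimensional F V]
    {f : FS (FP.herm σ hF.σσ) V} {Φ : Pt D → V} (hM : Model f Φ)
    (h : Prim D) (hZ : center G = ⊥) (hne : ∀ a, Φ a ≠ 0) (a0 : Pt D) (hn : 4 ≤ finrank F V) :
    Nonempty (G ≃* Cfsg.PSU (finrank F V) F 2) := by
  have h11 : (1 : F) + σ 1 = 0 := by rw [map_one, one_add_one_eq_two, UF.two_eq_zero hF]
  have hT : ∀ u (hu : f.Q u = 0), IsTv f (f.uT u 1 hu h11) u := fun u hu x => by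
    rw [FS.uT_apply, one_mul]
  have : Nontrivial V := Module.nontrivial_of_finrank_pos (R := F) (by omega)
  obtain ⟨ψ, h1, h2, -⟩ := hM.recog h hZ hne a0 (fun b hb => UF.norm_one hF hb) f.SI FS.SI_le
    (fun u _ hu => ⟨_, FS.EO_le_SI (FS.uT_mem_EO u 1 ((f.herm_Q u).trans hu) h11), hT u _⟩) (by
      refine closure_sub_of_le (S := {g | ∃ u, u ≠ 0 ∧ f.B u u = 0 ∧ IsTv f g u}) ?_ ?_
      · rintro g ⟨u, -, hu, hg⟩
        rw [hg.ext (hT u ((f.herm_Q u).trans hu))]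
        exact FS.EO_le_SI (FS.uT_mem_EO _ _ _ _)
      rw [← FS.uTG_eq_SI hF hM.nd (Or.inr hn), FS.uTG, closure_le]
      rintro _ ⟨u, c, hu', hc', rfl⟩
      by_cases hu : u = 0
      · have : f.uT u c hu' hc' = 1 := LinearEquiv.ext fun x => by rw [FS.uT_apply, hu]; simp
        rw [this]; exact one_mem _
      by_cases hc : c = 0
      · have : f.uT u c hu' hc' = 1 := LinearEquiv.ext fun x => by rw [FS.uT_apply, hc]; simp
        rw [this]; exact one_mem _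
      obtain rfl := UF.eq_one hF hc hc'
      exact subset_closure ⟨u, hu, (f.herm_Q u).symm.trans hu', hT u hu'⟩)
  obtain ⟨e, he⟩ := FS.herm_isIso hF hM.nd (uFS_nondeg hF (n := finrank F V)) (by simp)
  refine ⟨(QuotientGroup.quotientKerEquivOfSurjective ψ h1).symm.trans
    ((QuotientGroup.quotientMulEquivOfEq h2).trans ?_)⟩
  exact quotCenterCongr (he.siEquiv.symm.trans (suEquiv hF _).symm)

theorem exists_nondeg [FiniteDimensional F V] (f : FS P V) :
    ∃ (U : Submodule F V) (π : V →ₗ[F] U), Function.Surjective π ∧ (f.res U).Nondeg ∧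
      ∀ x y, f.B (π x) (π y) = f.B x y := by
  obtain ⟨U, hU⟩ := (f.perp ⊤).exists_isCompl
  have h1 : ∀ x, ∃ r ∈ f.perp ⊤, x = r + (U.projectionOnto _ hU.symm x : V) := by
    intro x
    obtain ⟨r, u, rfl⟩ := exists_add_of_isCompl hU x
    exact ⟨r, r.2, by simp⟩
  have h2 : ∀ r ∈ f.perp ⊤, ∀ x, f.B x r = 0 := fun r hr x => FS.mem_perp.1 hr x trivial
  refine ⟨U, U.projectionOnto _ hU.symm, fun u => ⟨u, by simp⟩,
    FS.nondeg_of_sep (fun u hu => ?_), fun x y => ?_⟩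
  · have : (u : V) ∈ f.perp ⊤ := by
      rw [FS.mem_perp']
      intro w _
      obtain ⟨r, w', rfl⟩ := exists_add_of_isCompl hU w
      rw [map_add, h2 _ r.2, zero_add]; exact hu w'
    exact Subtype.ext (Submodule.disjoint_def.1 hU.disjoint _ this u.2)
  · obtain ⟨r, hr, e⟩ := h1 x
    obtain ⟨r', hr', e'⟩ := h1 y
    conv_rhs => rw [e, e']
    simp only [map_add, LinearMap.add_apply, h2 r' hr', FS.B_comm_zero (h2 r hr _), zero_add]

theorem span_proj {I : Type*} [Fintype I] [DecidableEq I] {U : Type*} [AddCommGroup U] [Module F U]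
    (π : (I → F) →ₗ[F] U) (hπ : Function.Surjective π) :
    Submodule.span F (Set.range fun i => π (Pi.single i 1)) = ⊤ := by
  have : (Set.range fun i => π (Pi.single i 1)) = π '' Set.range (Pi.basisFun F I) := by
    rw [← Set.range_comp]; congr 1; ext i; simp
  rw [this, Submodule.span_image, (Pi.basisFun F I).span_eq, Submodule.map_top,
    LinearMap.range_eq_top.2 hπ]

theorem gram_sp {I : Type*} [Finite I] (h : I → I → F) (h1 : ∀ i j, h j i = - h i j)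
    (h2 : ∀ i, h i i = 0) : ∃ (U : Submodule F (I → F)) (f : FS (FP.sp F) U) (v : I → U),
      f.Nondeg ∧ (∀ i j, f.B (v i) (v j) = h i j) ∧ Submodule.span F (Set.range v) = ⊤ := by
  classical
  have := Fintype.ofFinite I
  have hA : ∀ x, Matrix.toBilin' (Matrix.of h) x x = 0 := by
    intro x
    induction x using Pi.single_induction with
    | zero => simp
    | add x y hx hy =>
      simp only [map_add, LinearMap.add_apply, hx, hy, zero_add, add_zero]
      simp only [Matrix.toBilin'_apply, Matrix.of_apply]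
      rw [Finset.sum_comm, ← Finset.sum_add_distrib]
      refine Finset.sum_eq_zero fun i _ => ?_
      rw [← Finset.sum_add_distrib]
      refine Finset.sum_eq_zero fun j _ => ?_
      rw [h1 i j]; ring
    | single i c =>
      have : (Pi.single i c : I → F) = c • Pi.single i 1 := by rw [← Pi.single_smul]; simp
      rw [this]; simp [h2]
  obtain ⟨U, π, h3, h4, h5⟩ := exists_nondeg (FS.ofAlt _ hA)
  refine ⟨U, _, fun i => π (Pi.single i 1), h4, fun i j => ?_, span_proj π h3⟩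
  exact (h5 _ _).trans (by simp)

theorem gram_herm {I : Type*} [Finite I] {σ : F →+* F} (hσ : ∀ a, σ (σ a) = a)
    (hσ1 : σ ≠ RingHom.id F) (h : I → I → F) (h1 : ∀ i j, σ (h i j) = h j i) :
    ∃ (U : Submodule F (I → F)) (f : FS (FP.herm σ hσ) U) (v : I → U),
      f.Nondeg ∧ (∀ i j, f.B (v i) (v j) = h i j) ∧ Submodule.span F (Set.range v) = ⊤ := by
  classical
  have := Fintype.ofFinite I
  let B : (I → F) →ₛₗ[σ] (I → F) →ₗ[F] F := LinearMap.mk₂'ₛₗ σ (RingHom.id F)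
    (fun x y => ∑ i, ∑ j, σ (x i) * h i j * y j)
    (fun _ _ _ => by simp [add_mul, Finset.sum_add_distrib])
    (fun _ _ _ => by simp [Finset.mul_sum, mul_assoc])
    (fun _ _ _ => by simp [mul_add, Finset.sum_add_distrib])
    (fun c _ _ => by
      simp only [Pi.smul_apply, smul_eq_mul, RingHom.id_apply, Finset.mul_sum]
      exact Finset.sum_congr rfl fun _ _ => Finset.sum_congr rfl fun _ _ => by ring)
  have hB : ∀ x y, B x y = ∑ i, ∑ j, σ (x i) * h i j * y j := fun _ _ => rfl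
  obtain ⟨U, π, h3, h4, h5⟩ := exists_nondeg (FS.ofHerm hσ hσ1 B (fun x y => by
    rw [hB, hB, Finset.sum_comm]
    simp only [map_sum, map_mul, hσ, h1]
    exact Finset.sum_congr rfl fun _ _ => Finset.sum_congr rfl fun _ _ => by ring))
  refine ⟨U, _, fun i => π (Pi.single i 1), h4, fun i j => ?_, span_proj π h3⟩
  refine (h5 _ _).trans ?_
  rw [FS.ofHerm_B, hB, Finset.sum_eq_single i (fun k _ hk => by simp [Pi.single_apply, hk])
    (by simp), Finset.sum_eq_single j (fun k _ hk => by simp [Pi.single_apply, hk]) (by simp)]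
  simp

theorem eq_of_test {f : FS P V} (hf : f.Nondeg) {I : Type*} {v : I → V}
    (hv : Submodule.span F (Set.range v) = ⊤) {x y : V} (h : ∀ i, f.B (v i) x = f.B (v i) y) :
    x = y := by
  rw [← sub_eq_zero]
  refine hf.eq_zero' fun w => ?_
  have hw : w ∈ Submodule.span F (Set.range v) := hv ▸ trivial
  induction hw using Submodule.span_induction with
  | mem _ hx => obtain ⟨i, rfl⟩ := hx; rw [map_sub, h, sub_self]
  | zero => simp
  | add a b _ _ ha hb => rw [map_add, LinearMap.add_apply, ha, hb, add_zero]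
  | smul c a _ ha => rw [FS.B_smul_left, ha, mul_zero]

theorem Pol.third [Finite G] (h : Pol D) (h3 : ∀ x : Pt D, ∀ e ∈ Dx x, (Ln x e).ncard = 3)
    {a b : Pt D} (hb : b ∈ Dx a) : ∃ c, c ≠ a ∧ c ≠ b ∧ Ln a b = {a, b, c} := by
  obtain ⟨c, hc, h1, h2⟩ := h.tau a b hb
  refine ⟨c, h1, h2, (Set.eq_of_subset_of_ncard_le ?_ ?_).symm⟩
  · rintro w (rfl | rfl | rfl)
    · exact left_mem_Ln _ _
    · exact right_mem_Ln _ _
    · exact hc
  · rw [h3 a b hb, Set.ncard_eq_three.2 ⟨a, b, c, hb.1.symm, h1.symm, h2.symm, rfl⟩]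

theorem Pol.sp_model [Finite G] (h : Pol D) (h3 : ∀ x : Pt D, ∀ e ∈ Dx x, (Ln x e).ncard = 3) :
    ∃ (U : Submodule (ZMod 2) (Pt D → ZMod 2)) (f : FS (FP.sp (ZMod 2)) U) (Φ : Pt D → U),
      Model f Φ := by
  classical
  obtain ⟨U, f, v, h1, h2, h4⟩ := gram_sp (F := ZMod 2) (fun a b : Pt D => if Cm a b then 0 else 1)
    (fun a b => by simp [cm_comm (a := a), ZMod.neg_eq_self_mod_two]) (fun a => by simp [Cm.refl])
  have hadd : ∀ x : U, x + x = 0 := fun x => by rw [← two_smul (ZMod 2) x]; exact zero_smul _ x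
  have k1 : ∀ a b, ¬ Cm a b → v b + v a = v (a ⋆ b) := by
    intro a b hab
    refine eq_of_test h1 h4 fun z => ?_
    rw [map_add, h2, h2, h2]
    by_cases c1 : Cm z a <;> by_cases c2 : Cm z b
    · simp [c1, c2, c1.st_right c2]
    · simp [c1, c2, nc_st_right c1 c2]
    · simp [c1, c2, nc_st_left hab c1 c2]
    · simp only [c1, c2, ((h.noAG h3 hab).resolve_left c1).resolve_left c2, if_true, if_false]; rfl
  have k2 : ∀ a b, v a + v b = 0 ∨ ∃ c, v a + v b = v c := by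
    intro a b
    by_cases hab : a = b
    · left; rw [hab, hadd]
    right
    by_cases hc : Cm a b
    · have hb : b ∈ Dx a := ⟨Ne.symm hab, hc⟩
      obtain ⟨c, c1, c2, c3⟩ := h.third h3 hb
      have hc' : c ∈ Ln a b := by rw [c3]; simp
      refine ⟨c, eq_of_test h1 h4 fun z => ?_⟩
      rw [map_add, h2, h2, h2]
      by_cases d1 : Cm z a <;> by_cases d2 : Cm z b
      · simp [d1, d2, hc' z d1 d2]
      · have : ¬ Cm z c := fun d3 => d2 (h.Ln_two hb (left_mem_Ln a b) hc' c1.symm d1 d3).2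
        simp [d1, d2, this]
      · have : ¬ Cm z c := fun d3 => d1 (h.Ln_two hb (right_mem_Ln a b) hc' c2.symm d2 d3).1
        simp [d1, d2, this]
      · obtain ⟨t, ht, d3⟩ := h.one_or_all hb z
        rw [c3] at ht
        rcases ht with rfl | rfl | rfl
        · exact absurd d3 d1
        · exact absurd d3 d2
        · simp only [d1, d2, d3, if_true, if_false]; rfl
    · exact ⟨_, by rw [add_comm, k1 a b hc]⟩
  refine ⟨U, f, v, h1, fun a b => by rw [h2]; simp, fun w hw _ => ?_, fun a b => ⟨1, one_ne_zero, ?_⟩⟩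
  · have : ∀ w, w = 0 ∨ ∃ a, w = v a := by
      intro w
      have hw : w ∈ Submodule.span (ZMod 2) (Set.range v) := h4 ▸ trivial
      induction hw using Submodule.span_induction with
      | mem _ hx => obtain ⟨i, rfl⟩ := hx; exact Or.inr ⟨i, rfl⟩
      | zero => exact Or.inl rfl
      | add a b _ _ ha hb =>
        rcases ha with rfl | ⟨a, rfl⟩
        · simpa using hb
        rcases hb with rfl | ⟨b, rfl⟩
        · exact Or.inr ⟨a, add_zero _⟩
        exact k2 a b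
      | smul c a _ ha =>
        by_cases hc : c = 0
        · left; rw [hc, zero_smul]
        · rwa [zmod2_ne hc, one_smul]
    obtain ⟨a, rfl⟩ := (this w).resolve_left hw
    exact ⟨a, 1, one_ne_zero, (one_smul _ _).symm⟩
  · rw [h2, one_smul]
    by_cases hc : Cm a b
    · simp [hc, hc.eq]
    · simp [hc, k1 a b hc]

theorem Model.ne_zero {f : FS P V} {Φ : Pt D → V} (hM : Model f Φ) (h : Cl D) {x y : Pt D}
    (hxy : x ≠ y) (a : Pt D) : Φ a ≠ 0 := by
  obtain ⟨w, hw⟩ := h.exists_nc hxy a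
  intro e
  exact hw ((hM.cm w a).1 (by rw [e, map_zero]))

end Cfsg.Agent.Fis
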