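import Cfsg.Agent.Class.Herm

/-! The field with four elements. -/

set_option autoImplicit false

namespace Cfsg.Agent.Fis

open Cfsg.Agent.Class

instance instFactK4 : Fact (∀ r : ZMod 2, r ^ 2 ≠ 1 + 1 * r) := ⟨by decide⟩

/-- the field with four elements -/
abbrev K4 : Type := QuadraticAlgebra (ZMod 2) 1 1

instance instFintypeK4 : Fintype K4 := Fintype.ofEquiv _ (QuadraticAlgebra.equivProd 1 1).symm

theorem card_K4 : Fintype.card K4 = 4 := by decide

/-- conjugation -/
noncomputable def s4 : K4 →+* K4 := (exists_UF (F := K4) (q := 2) card_K4).choose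

theorem uf4 : UF s4 2 := (exists_UF (F := K4) (q := 2) card_K4).choose_spec

theorem s4_eq (a : K4) : s4 a = a * a := by rw [uf4.eq, pow_two]

theorem K4.add_self (a : K4) : a + a = 0 := by revert a; decide

theorem K4.two : (2 : K4) = 0 := by decide

theorem K4.tr_cases (a : K4) : a + a * a = 0 ∨ a + a * a = 1 := by revert a; decide

theorem K4.tr_zero {a : K4} (h : a + a * a = 0) : a = 0 ∨ a = 1 := by revert a; decide

theorem K4.inv_eq {a b : K4} (h : a * b = 1) : a = b * b := by revert a b; decide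

theorem K4.translation (φ : K4 → K4) (h1 : ∀ c, φ (φ c) = c) (h2 : ∀ c, φ c ≠ c) :
    ∃ s, ∀ c, φ c = c + s := by revert φ; decide +kernel

theorem K4.affine (π : Equiv.Perm K4) (h : Equiv.Perm.sign π = 1) :
    ∃ l m : K4, l ≠ 0 ∧ ∀ c, π c = l * c + m := by revert π; decide +kernel

theorem K4.sign_tr (π : Equiv.Perm K4) (s : K4) (h : ∀ c, π c = c + s) :
    Equiv.Perm.sign π = 1 := by revert π s; decide +kernel

/-- Frobenius as a permutation -/
def K4.fr : Equiv.Perm K4 := ⟨fun a => a * a, fun a => a * a, by decide, by decide⟩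

theorem K4.sign_fr : Equiv.Perm.sign K4.fr = -1 := by decide +kernel

theorem K4.exists_lam {b b' : K4} (h1 : b ≠ 0) (h2 : b ≠ b') :
    ∃ l : K4, l * b + (l * b) * (l * b) = 1 ∧ l * b' + (l * b') * (l * b') = 0 := by
  revert b b'; decide

end Cfsg.Agent.Fis
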