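import Cfsg.Agent.Fis.F
import Cfsg.Agent.Fis.K4

/-! Fischer spaces: the unitary case, coordinates on the lines through a point. -/

set_option autoImplicit false

namespace Cfsg.Agent.Fis

open Subgroup

variable {G : Type*} [Group G] {D : Set G} [TT D]

theorem Pol.diamS [Finite G] (h : Pol D) {x u b : Pt D} (hu : u ∈ Dx x) (hb : b ∈ Dx x) :
    ∃ w ∈ Dx x, ¬ Cm u w ∧ ¬ Cm b w := by
  obtain ⟨w1, a1, a2, a3⟩ := h.sep hu.1.symm
  obtain ⟨w2, b1, b2, b3⟩ := h.sep hb.1.symm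
  by_cases c1 : Cm b w1
  swap; · exact ⟨w1, ⟨a1, a2⟩, a3, c1⟩
  by_cases c2 : Cm u w2
  swap; · exact ⟨w2, ⟨b1, b2⟩, c2, b3⟩
  by_cases c3 : Cm w1 w2
  · have c4 : w2 ∈ Dx w1 := ⟨fun e => a3 (e ▸ c2), c3⟩
    obtain ⟨z, hz, z1, z2⟩ := h.tau w1 w2 c4
    have d1 : ¬ Cm u z := fun d => a3 (h.Ln_two c4 (right_mem_Ln _ _) hz z2.symm c2 d).1
    exact ⟨z, ⟨fun e => d1 (e ▸ hu.2.symm), hz x a2 b2⟩, d1,
      fun d => b3 (h.Ln_two c4 (left_mem_Ln _ _) hz z1.symm c1 d).2⟩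
  · exact ⟨w1 ⋆ w2, Dx_st ⟨a1, a2⟩ ⟨b1, b2⟩, nc_st_left c3 a3 c2, nc_st_right c1 b3⟩

theorem Pol.union [Finite G] (h : Pol D) {x : Pt D} {q q' : G} {y y' : Pt D} (hy : y ∈ Dx x)
    (hy' : y' ∈ Dx x) (h1 : q • y ≠ y) (h2 : q' • y' ≠ y') :
    ∃ z ∈ Dx x, q • z ≠ z ∧ q' • z ≠ z := by
  have k0 : ∀ (g : G) {u v : Pt D}, g • u = u → g • v ≠ v → g • (u ⋆ v) ≠ u ⋆ v := by
    intro g u v e1 e2 e3
    rw [smul_st, e1] at e3; exact e2 (st_inj e3)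
  have key : ∀ {y y'}, y ∈ Dx x → y' ∈ Dx x → q • y ≠ y → q' • y' ≠ y' → ¬ Cm y y' →
      ∃ z ∈ Dx x, q • z ≠ z ∧ q' • z ≠ z := by
    intro y y' hy hy' h1 h2 hc
    by_cases c1 : q' • y = y
    swap; · exact ⟨y, hy, h1, c1⟩
    by_cases c2 : q • y' = y'
    swap; · exact ⟨y', hy', c2, h2⟩
    exact ⟨y ⋆ y', Dx_st hy hy', by rw [st_comm hc]; exact k0 q c2 h1, k0 q' c1 h2⟩
  by_cases hc : Cm y y'
  swap; · exact key hy hy' h1 h2 hc
  obtain ⟨z, hz, z1, z2⟩ := h.diamS hy hy'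
  by_cases c1 : q • z = z
  swap; · exact key hz hy' c1 h2 (nc_symm z2)
  by_cases c2 : q' • z = z
  swap; · exact key hy hz h1 c2 z1
  exact key (Dx_st hz hy) hy' (k0 q c1 h1) h2 (nc_symm (nc_st_left (nc_symm z1) z2 hc.symm))

theorem Pol.simply [Finite G] (h : Pol D) {x b : Pt D} (hb : b ∈ Dx x) (e : Pt D → Pt D → Bool)
    (hs : ∀ u ∈ Dx x, ∀ y ∈ Dx x, ¬ Cm u y → e u y = e y u)
    (ht : ∀ u ∈ Dx x, ∀ y ∈ Dx x, ∀ z ∈ Dx x, ¬ Cm u y → ¬ Cm y z → ¬ Cm u z →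
      e u z = xor (e u y) (e y z)) :
    ∃ f : Pt D → Bool, ∀ u ∈ Dx x, ∀ y ∈ Dx x, ¬ Cm u y → e u y = xor (f u) (f y) := by
  have wd : ∀ u ∈ Dx x, ∀ w ∈ Dx x, ∀ w' ∈ Dx x, ¬ Cm b w → ¬ Cm u w → ¬ Cm b w' → ¬ Cm u w' →
      xor (e b w) (e u w) = xor (e b w') (e u w') := by
    have k1 : ∀ u ∈ Dx x, ∀ w ∈ Dx x, ∀ w' ∈ Dx x, ¬ Cm b w → ¬ Cm u w → ¬ Cm b w' → ¬ Cm u w' →
        ¬ Cm w w' → xor (e b w) (e u w) = xor (e b w') (e u w') := by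
      intro u hu w hw w' hw' h1 h2 h3 h4 h5
      rw [ht b hb w hw w' hw' h1 h5 h3, ht u hu w hw w' hw' h2 h5 h4]
      cases e b w <;> cases e u w <;> cases e w w' <;> rfl
    intro u hu w hw w' hw' h1 h2 h3 h4
    by_cases c1 : Cm b u
    · by_cases c2 : Cm w w'
      · have z1 := nc_st_self h1
        have z2 := nc_st_right c1.symm h2
        exact (k1 u hu w hw _ (Dx_st hb hw) h1 h2 z1 z2 (nc_st_self' h1)).trans
          (k1 u hu w' hw' _ (Dx_st hb hw) h3 h4 z1 z2 (nc_st_left h1 (nc_symm h3) c2.symm)).symm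
      · exact k1 u hu w hw w' hw' h1 h2 h3 h4 c2
    · rw [ht b hb u hu w hw c1 h2 h1, ht b hb u hu w' hw' c1 h4 h3]
      cases e b u <;> cases e u w <;> cases e u w' <;> rfl
  have ex : ∀ u, ∃ w, u ∈ Dx x → w ∈ Dx x ∧ ¬ Cm b w ∧ ¬ Cm u w := by
    intro u
    by_cases hu : u ∈ Dx x
    · obtain ⟨w, h1, h2⟩ := h.diamS hb hu
      exact ⟨w, fun _ => ⟨h1, h2⟩⟩
    · exact ⟨u, fun h => absurd h hu⟩
  choose w hw using ex
  have hf : ∀ u ∈ Dx x, ∀ v ∈ Dx x, ¬ Cm b v → ¬ Cm u v →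
      xor (e b (w u)) (e u (w u)) = xor (e b v) (e u v) := fun u hu v hv h1 h2 =>
    wd u hu _ (hw u hu).1 v hv (hw u hu).2.1 (hw u hu).2.2 h1 h2
  refine ⟨fun u => xor (e b (w u)) (e u (w u)), ?_⟩
  have k2 : ∀ u ∈ Dx x, ∀ y ∈ Dx x, ¬ Cm u y → ¬ Cm b y →
      e u y = xor (xor (e b (w u)) (e u (w u))) (xor (e b (w y)) (e y (w y))) := by
    intro u hu y hy h1 h2
    rw [hf u hu y hy h2 h1, ht b hb y hy _ (hw y hy).1 h2 (hw y hy).2.2 (hw y hy).2.1]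
    cases e b y <;> cases e u y <;> cases e y (w y) <;> rfl
  have k3 : ∀ u ∈ Dx x, ∀ y ∈ Dx x, ∀ v ∈ Dx x, ¬ Cm u y → ¬ Cm b v → ¬ Cm u v → ¬ Cm y v →
      e u y = xor (xor (e b (w u)) (e u (w u))) (xor (e b (w y)) (e y (w y))) := by
    intro u hu y hy v hv h1 h2 h3 h4
    rw [hf u hu v hv h2 h3, hf y hy v hv h2 h4, ht u hu y hy v hv h1 h4 h3]
    cases e b v <;> cases e u y <;> cases e y v <;> rfl
  intro u hu y hy huy
  by_cases c1 : Cm b y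
  swap; · exact k2 u hu y hy huy c1
  by_cases c2 : Cm b u
  swap; · rw [hs u hu y hy huy, Bool.xor_comm]; exact k2 y hy u hu (nc_symm huy) c2
  obtain ⟨h1, h2, h3⟩ := hw u hu
  by_cases c3 : Cm y (w u)
  swap; · exact k3 u hu y hy _ h1 huy h2 h3 c3
  exact k3 u hu y hy _ (Dx_st hu h1) huy (nc_st_right c2 h2) (nc_st_self h3)
    (nc_st_left h3 (nc_symm huy) c3)

theorem st_al {b u v z : Pt D} (h1 : Cm u z) (h2 : Cm v z) :
    (u ⋆ v ⋆ b) ⋆ z = b ⋆ al b u v • z := by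
  rw [al_smul, st_st_left, st_st_left, st_st_left b u, st_st_left b v, st_st, st_st, h1.eq, h2.eq]

theorem Prim.four_fix [Finite G] (h : Prim D) {x e b p u1 u2 u3 u4 : Pt D} (he : e ∈ Dx x)
    (hp : p ∈ Ln x e) (h1 : u1 ∈ Ln x e) (h2 : u2 ∈ Ln x e) (h3 : u3 ∈ Ln x e) (h4 : u4 ∈ Ln x e)
    (n13 : u1 ≠ u3) (n14 : u1 ≠ u4) (n34 : u3 ≠ u4) (bp : Cm b p)
    (hb : ∀ z ∈ Ln x e, z ≠ p → ¬ Cm b z) (p1 : u1 ≠ p) (p2 : u2 ≠ p) (p3 : u3 ≠ p) (p4 : u4 ≠ p)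
    (cov : ∀ z ∈ Ln x e, z = p ∨ z = u1 ∨ z = u2 ∨ z = u3 ∨ z = u4) :
    u1 ⋆ u2 ⋆ u3 ⋆ u4 ⋆ p ⋆ b = b := by
  have hc : ∀ {u v}, u ∈ Ln x e → v ∈ Ln x e → Cm u v := fun hu hv => Ln_cm he.2 hu hv
  have b1 := hb _ h1 p1; have b2 := hb _ h2 p2; have b3 := hb _ h3 p3; have b4 := hb _ h4 p4
  have k : al b u3 u4 • u1 = u2 := by
    rcases cov _ (h.al_mem he h3 h4 n34 b3 b4 h1) with e | e | e | e | e
    · rw [← al_fix bp.symm (hc hp h3) (hc hp h4)] at e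
      exact absurd (MulAction.injective _ e) p1
    · exact absurd ((h.al_fix_iff he h3 h4 n34 h1).1 e) b1
    · exact e
    · rw [← al_right b3 b4 (hc h3 h4)] at e
      nth_rw 1 [al_right b3 b4 (hc h3 h4)] at e
      exact absurd (MulAction.injective _ e) n14
    · rw [← al_left b3 b4 (hc h3 h4)] at e
      nth_rw 1 [al_left b3 b4 (hc h3 h4)] at e
      exact absurd (MulAction.injective _ e) n13
  have k2 : (u1 ⋆ u2 ⋆ b) ⋆ u1 = (u3 ⋆ u4 ⋆ b) ⋆ u1 := by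
    rw [st_al (hc h1 h1) (hc h2 h1), st_al (hc h3 h1) (hc h4 h1), k, al_left b1 b2 (hc h1 h2)]
  have k3 := st_left_inj (nc_symm (nc_st_right (hc h1 h1) (nc_st_right (hc h1 h2) (nc_symm b1)))) k2
  rw [bp.eq', ← k3, (hc h1 h2).comm, st_st, st_st]

/-- The case of lines of size five. -/
structure U5 (D : Set G) [TT D] : Prop extends Pol D where
  five : ∀ x : Pt D, ∀ e ∈ Dx x, (Ln x e).ncard = 5
  cen : center G = ⊥

theorem U5.eq_one [Finite G] (h : U5 D) {g : G} (hg : ∀ y : Pt D, g • y = y) : g = 1 := by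
  rw [← mem_bot, ← h.cen, h.mem_center_iff]; exact hg

theorem U5.five_prod [Finite G] (h : U5 D) {x u1 u2 u3 u4 : Pt D} (he : u1 ∈ Dx x)
    (h2 : u2 ∈ Ln x u1) (h3 : u3 ∈ Ln x u1) (h4 : u4 ∈ Ln x u1) (p2 : u2 ≠ x) (p3 : u3 ≠ x)
    (p4 : u4 ≠ x) (n12 : u1 ≠ u2) (n13 : u1 ≠ u3) (n14 : u1 ≠ u4) (n23 : u2 ≠ u3) (n24 : u2 ≠ u4)
    (n34 : u3 ≠ u4) (cov : ∀ z ∈ Ln x u1, z = x ∨ z = u1 ∨ z = u2 ∨ z = u3 ∨ z = u4) :
    u1.t * u2.t = x.t * (u3.t * u4.t) := by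
  have hc : ∀ {u v}, u ∈ Ln x u1 → v ∈ Ln x u1 → Cm u v := fun hu hv => Ln_cm he.2 hu hv
  have h0 := left_mem_Ln x u1
  have h1 := right_mem_Ln x u1
  have p1 := he.1
  have : u1.t * u2.t * (u3.t * u4.t) * x.t = 1 := by
    refine h.eq_one fun b => ?_
    simp only [mul_smul, ← st_def]
    obtain ⟨p, hp, bp⟩ := h.one_or_all he b
    by_cases hb : ∀ z ∈ Ln x u1, z ≠ p → ¬ Cm b z
    swap
    · push Not at hb
      obtain ⟨z, z1, z2, z3⟩ := hb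
      have k : ∀ {w}, w ∈ Ln x u1 → w ⋆ b = b := fun hw => (h.Ln_all he z1 hp z2 z3 bp hw).eq'
      rw [k h0, k h4, k h3, k h2, k h1]
    have c1 := (hc h0 h1).comm; have c2 := (hc h0 h2).comm; have c3 := (hc h0 h3).comm
    have c4 := (hc h0 h4).comm; have c5 := (hc h2 h1).comm; have c6 := (hc h3 h1).comm
    have c7 := (hc h4 h1).comm; have c8 := (hc h3 h2).comm; have c9 := (hc h4 h2).comm
    have c10 := (hc h4 h3).comm
    rcases cov p hp with rfl | rfl | rfl | rfl | rfl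
    · exact h.four_fix he hp h1 h2 h3 h4 n13 n14 n34 bp hb p1 p2 p3 p4 cov
    · have := h.four_fix he hp h0 h2 h3 h4 p3.symm p4.symm n34 bp hb p1.symm n12.symm n13.symm
        n14.symm (fun z hz => by have := cov z hz; tauto)
      simpa only [c1, c2, c3, c4, c5, c6, c7, c8, c9, c10] using this
    · have := h.four_fix he hp h1 h0 h3 h4 n13 n14 n34 bp hb n12 p2.symm n23.symm
        n24.symm (fun z hz => by have := cov z hz; tauto)
      simpa only [c1, c2, c3, c4, c5, c6, c7, c8, c9, c10] using this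
    · have := h.four_fix he hp h1 h2 h0 h4 p1 n14 p4.symm bp hb n13 n23 p3.symm
        n34.symm (fun z hz => by have := cov z hz; tauto)
      simpa only [c1, c2, c3, c4, c5, c6, c7, c8, c9, c10] using this
    · have := h.four_fix he hp h1 h2 h3 h0 n13 p1 p3 bp hb n14 n24 n34
        p4.symm (fun z hz => by have := cov z hz; tauto)
      simpa only [c1, c2, c3, c4, c5, c6, c7, c8, c9, c10] using this
  have e1 : (u3.t * u4.t * x.t)⁻¹ = x.t * (u3.t * u4.t) := by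
    rw [mul_inv_rev, mul_inv_rev, x.inv, u3.inv, u4.inv, (cm_iff.1 (hc h3 h4)).eq]
  rw [← e1, eq_inv_iff_mul_eq_one, ← this, mul_assoc (u1.t * u2.t)]

/-- points on the same line through `x` -/
def Sl (x u v : Pt D) : Prop := v ∈ Ln x u ∧ v ≠ x

theorem Sl.refl {x u : Pt D} (hu : u ∈ Dx x) : Sl x u u := ⟨right_mem_Ln x u, hu.1⟩
theorem Sl.mem {x u v : Pt D} (hu : u ∈ Dx x) (h : Sl x u v) : v ∈ Dx x := Ln_mem_Dx hu h.1 h.2
theorem Sl.cm {x u v w : Pt D} (hu : u ∈ Dx x) (h : Sl x u v) (h' : Sl x u w) : Cm v w :=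
  Ln_cm hu.2 h.1 h'.1
theorem Sl.smul {x u v : Pt D} {g : G} (hg : g • x = x) (h : Sl x u v) : Sl x (g • u) (g • v) :=
  ⟨by have := Ln_smul g h.1; rwa [hg] at this,
    fun e => h.2 (MulAction.injective g (e.trans hg.symm))⟩

namespace Prim

variable [Finite G] (h : Prim D)
include h

theorem sl_eq {x u v : Pt D} (hu : u ∈ Dx x) (hv : Sl x u v) : Ln x v = Ln x u :=
  h.Ln_eq hu (left_mem_Ln x u) hv.1 hv.2.symm

theorem sl_iff {x u v w : Pt D} (hu : u ∈ Dx x) (hv : Sl x u v) : Sl x v w ↔ Sl x u w := by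
  rw [Sl, h.sl_eq hu hv]; rfl

theorem sl_cm {x u v y : Pt D} (hu : u ∈ Dx x) (hv : Sl x u v) (hy : Cm y x) :
    Cm y v ↔ Cm y u :=
  ⟨fun h1 => (h.Ln_two hu (left_mem_Ln x u) hv.1 hv.2.symm hy h1).2, fun h1 => hv.1 y hy h1⟩

theorem sl_cm2 {x u v y z : Pt D} (hu : u ∈ Dx x) (hv : Sl x u v) (hy : y ∈ Dx x)
    (hz : Sl x y z) : Cm v z ↔ Cm u y := by
  rw [h.sl_cm hy hz (hv.mem hu).2.symm, cm_comm, h.sl_cm hu hv hy.2.symm, cm_comm]

theorem sl_Q {x u u' v' y y' : Pt D} (hu : u ∈ Dx x) (h1 : Sl x u u') (h2 : Sl x u v')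
    (hy : y ∈ Dx x) (h3 : Sl x y y') : Sl x y (u' ⋆ v' ⋆ y') := by
  have h4 := (h.sl_iff hu h1).2 h2
  rw [← h.sl_iff hy h3]
  exact ⟨h.Ln_Q0 (h1.mem hu) h4.1 h4.2 (h3.mem hy).2,
    (Dx_st (h1.mem hu) (Dx_st (h2.mem hu) (h3.mem hy))).1⟩

end Prim

/-- coordinates on the lines through `x` -/
structure Crd (x a : Pt D) (κ : Pt D → K4) : Prop where
  inj : ∀ y ∈ Dx x, ∀ u v, Sl x y u → Sl x y v → κ u = κ v → u = v
  surj : ∀ y ∈ Dx x, ∀ s, ∃ z, Sl x y z ∧ κ z = s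
  zero : ∀ y ∈ Dx x, κ y = 0 ↔ Cm a y

theorem U5.exists_crd0 [Finite G] (h : U5 D) {x a : Pt D} (ha : ¬ Cm x a) : ∃ κ, Crd x a κ := by
  classical
  have key : ∀ L : Set (Pt D), ∃ k : Pt D → K4, ∀ y ∈ Dx x, L = Ln x y →
      (∀ u v, Sl x y u → Sl x y v → k u = k v → u = v) ∧ (∀ s, ∃ z, Sl x y z ∧ k z = s) ∧
      (k y = 0 ↔ Cm a y) := by
    intro L
    by_cases hL : ∃ y ∈ Dx x, L = Ln x y
    swap; · exact ⟨fun _ => 0, fun y hy e => absurd ⟨y, hy, e⟩ hL⟩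
    obtain ⟨y0, hy0, rfl⟩ := hL
    have h4 : Nat.card {z // Sl x y0 z} = Nat.card K4 := by
      have := Set.ncard_diff_singleton_add_one (left_mem_Ln x y0)
      rw [h.five x y0 hy0] at this
      rw [Nat.card_eq_fintype_card (α := K4), card_K4]
      change Nat.card (Ln x y0 \ {x} : Set (Pt D)) = 4
      rw [Nat.card_coe_set_eq]; omega
    obtain ⟨e⟩ := Finite.card_eq.1 h4
    obtain ⟨p, hp, ap⟩ := h.one_or_all hy0 a
    have hp' : Sl x y0 p := ⟨hp, fun e => ha (e ▸ ap.symm)⟩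
    refine ⟨fun z => if hz : Sl x y0 z then e ⟨z, hz⟩ - e ⟨p, hp'⟩ else 0, fun y hy e1 => ?_⟩
    have e2 : ∀ z, Sl x y z ↔ Sl x y0 z := fun z => by rw [Sl, Sl, e1]
    refine ⟨fun u v hu hv e3 => ?_, fun s => ?_, ?_⟩
    · rw [e2] at hu hv
      simp only [dif_pos hu, dif_pos hv, sub_left_inj] at e3
      exact congrArg Subtype.val (e.injective e3)
    · obtain ⟨z, hz⟩ := e.surjective (s + e ⟨p, hp'⟩)
      exact ⟨z, (e2 _).2 z.2, by simp only [dif_pos z.2, hz, add_sub_cancel_right]⟩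
    · have hy' := (e2 y).1 (Sl.refl hy)
      simp only [dif_pos hy', sub_eq_zero, e.injective.eq_iff, Subtype.mk.injEq]
      refine ⟨fun e3 => e3 ▸ ap, fun e3 => ?_⟩
      by_contra e4
      exact ha (h.Ln_two hy0 hy'.1 hp e4 e3 ap).1.symm
  choose k hk using key
  refine ⟨fun y => k (Ln x y) y, fun y hy u v hu hv e => ?_, fun y hy s => ?_,
    fun y hy => (hk _ y hy rfl).2.2⟩
  · rw [h.sl_eq hy hu, h.sl_eq hy hv] at e
    exact (hk _ y hy rfl).1 u v hu hv e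
  · obtain ⟨z, h1, h2⟩ := (hk _ y hy rfl).2.1 s
    exact ⟨z, h1, by rw [h.sl_eq hy h1]; exact h2⟩


/-- powers of the base point -/
def xp (x : Pt D) (c : K4) : G := if c = 0 then 1 else x.t

theorem xp_zero (x : Pt D) : xp x 0 = 1 := if_pos rfl
theorem xp_one (x : Pt D) : xp x 1 = x.t := if_neg one_ne_zero
theorem xp_smul {x y : Pt D} (c : K4) (h : Cm x y) : xp x c • y = y := by
  unfold xp; split_ifs
  · exact one_smul _ _
  · exact h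

theorem K4.pairs (a b c d : K4) (h : a + b = c + d) :
    (a * a * a + b * b * b + (c * c * c + d * d * d) = 0 ∧
      ((a = b ∧ c = d) ∨ (a = c ∧ b = d) ∨ (a = d ∧ b = c))) ∨
    (a * a * a + b * b * b + (c * c * c + d * d * d) = 1 ∧ a ≠ b ∧ a ≠ c ∧ a ≠ d ∧ b ≠ c ∧ b ≠ d ∧
      c ≠ d ∧ ∀ s, s = a ∨ s = b ∨ s = c ∨ s = d) := by
  revert a b c d; decide +kernel

theorem U5.gen_eq [Finite G] (h : U5 D) {x a : Pt D} {κ : Pt D → K4} (hκ : Crd x a κ)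
    {y u v u' v' : Pt D} (hy : y ∈ Dx x) (h1 : Sl x y u) (h2 : Sl x y v) (h3 : Sl x y u')
    (h4 : Sl x y v') (e : κ u + κ v = κ u' + κ v') :
    u.t * v.t = xp x (κ u * κ u * κ u + κ v * κ v * κ v + (κ u' * κ u' * κ u' +
      κ v' * κ v' * κ v')) * (u'.t * v'.t) := by
  rcases K4.pairs _ _ _ _ e with ⟨e0, ⟨e1, e2⟩ | ⟨e1, e2⟩ | ⟨e1, e2⟩⟩ |
    ⟨e0, e1, e2, e3, e4, e5, e6, e7⟩
  · rw [e0, xp_zero, one_mul, hκ.inj y hy _ _ h1 h2 e1, hκ.inj y hy _ _ h3 h4 e2, Pt.sq, Pt.sq]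
  · rw [e0, xp_zero, one_mul, hκ.inj y hy _ _ h1 h3 e1, hκ.inj y hy _ _ h2 h4 e2]
  · rw [e0, xp_zero, one_mul, hκ.inj y hy _ _ h1 h4 e1, hκ.inj y hy _ _ h2 h3 e2,
      (cm_iff.1 (h3.cm hy h4)).eq]
  · rw [e0, xp_one]
    have e8 := h.sl_eq hy h1
    refine h.five_prod (h1.mem hy) (e8 ▸ h2.1) (e8 ▸ h3.1) (e8 ▸ h4.1) h2.2 h3.2 h4.2
      (fun e => e1 (e ▸ rfl)) (fun e => e2 (e ▸ rfl)) (fun e => e3 (e ▸ rfl))
      (fun e => e4 (e ▸ rfl)) (fun e => e5 (e ▸ rfl)) (fun e => e6 (e ▸ rfl)) (fun z hz => ?_)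
    by_cases hzx : z = x
    · exact Or.inl hzx
    have hz' : Sl x y z := ⟨e8 ▸ hz, hzx⟩
    rcases e7 (κ z) with e | e | e | e
    · exact Or.inr (Or.inl (hκ.inj y hy _ _ hz' h1 e))
    · exact Or.inr (Or.inr (Or.inl (hκ.inj y hy _ _ hz' h2 e)))
    · exact Or.inr (Or.inr (Or.inr (Or.inl (hκ.inj y hy _ _ hz' h3 e))))
    · exact Or.inr (Or.inr (Or.inr (Or.inr (hκ.inj y hy _ _ hz' h4 e))))

/-- the action of the translations of a line on another line -/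
def Act (x : Pt D) (κ : Pt D → K4) (u y : Pt D) (M : K4 → K4) : Prop :=
  ∀ u' v' y', Sl x u u' → Sl x u v' → Sl x y y' → κ (u' ⋆ v' ⋆ y') = κ y' + M (κ u' + κ v')

theorem K4.add_eq {a b c : K4} (h : a + b = c) : b = a + c := by revert a b c; decide

namespace U5

variable [Finite G] (h : U5 D) {x a : Pt D} {κ : Pt D → K4} (hκ : Crd x a κ)
include h hκ

theorem act_ne {u y : Pt D} {M : K4 → K4} (hu : u ∈ Dx x) (hy : y ∈ Dx x) (hM : Act x κ u y M)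
    (s : K4) : M s = 0 ↔ (Cm u y ∨ s = 0) := by
  obtain ⟨v, hv, e⟩ := hκ.surj u hu (κ u + s)
  have e1 := hM u v y (Sl.refl hu) hv (Sl.refl hy)
  rw [e, ← add_assoc, K4.add_self, zero_add] at e1
  have h2 := h.sl_Q hu (Sl.refl hu) hv hy (Sl.refl hy)
  constructor
  · intro e2
    rw [e2, add_zero] at e1
    have e3 := hκ.inj y hy _ _ h2 (Sl.refl hy) e1
    by_cases huv : u = v
    · right; rw [← huv] at e; exact left_eq_add.1 e
    · exact Or.inl ((mul_smul_eq_iff huv).1 (by rw [st_mul, e3])).1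
  · rintro (e2 | e2)
    · rw [((h.sl_cm hu hv hy.2.symm).2 e2.symm).eq', e2.eq] at e1
      exact left_eq_add.1 e1
    · rw [e2, add_zero] at e
      rw [hκ.inj u hu _ _ hv (Sl.refl hu) e, st_st, e2] at e1
      rw [e2]; exact left_eq_add.1 e1

theorem exists_tr {u v y : Pt D} (hu : u ∈ Dx x) (hv : Sl x u v) (hy : y ∈ Dx x) :
    ∃ s, ∀ y', Sl x y y' → κ (u ⋆ v ⋆ y') = κ y' + s := by
  by_cases hc : Cm u y
  · refine ⟨0, fun y' hy' => ?_⟩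
    rw [((h.sl_cm2 hu hv hy hy').2 hc).eq, ((h.sl_cm2 hu (Sl.refl hu) hy hy').2 hc).eq, add_zero]
  by_cases huv : u = v
  · exact ⟨0, fun y' _ => by rw [huv, st_st, add_zero]⟩
  choose pt hpt e using hκ.surj y hy
  have k : ∀ z, Sl x y z → pt (κ z) = z := fun z hz => hκ.inj y hy _ _ (hpt _) hz (e _)
  have hQ : ∀ {z}, Sl x y z → Sl x y (u ⋆ v ⋆ z) := fun hz => h.sl_Q hu (Sl.refl hu) hv hy hz
  obtain ⟨s, hs⟩ := K4.translation (fun c => κ (u ⋆ v ⋆ pt c))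
    (fun c => by
      show κ (u ⋆ v ⋆ pt (κ (u ⋆ v ⋆ pt c))) = c
      rw [k _ (hQ (hpt c)), ((Sl.refl hu).cm hu hv).comm, st_st, st_st, e])
    (fun c e1 => by
      have e2 := hκ.inj y hy _ _ (hQ (hpt c)) (hpt c) (e1.trans (e c).symm)
      exact hc ((h.sl_cm2 hu (Sl.refl hu) hy (hpt c)).1
        ((mul_smul_eq_iff huv).1 (by rw [st_mul, e2])).1))
  exact ⟨s, fun y' hy' => by rw [← hs, k _ hy']⟩

theorem exists_act {u y : Pt D} (hu : u ∈ Dx x) (hy : y ∈ Dx x) :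
    ∃ M, Act x κ u y M ∧ ∀ s t, M (s + t) = M s + M t := by
  choose pt hpt e using hκ.surj u hu
  choose T hT using fun c => h.exists_tr hκ hu (hpt c) hy
  have hM : Act x κ u y (fun s => T (κ u + s)) := by
    intro u' v' y' h1 h2 h3
    have := h.gen_eq hκ hu h1 h2 (Sl.refl hu) (hpt (κ u + (κ u' + κ v')))
      (by rw [e, ← add_assoc, K4.add_self, zero_add])
    rw [← st_mul, this, mul_smul, st_mul,
      xp_smul _ ((h.sl_Q hu (Sl.refl hu) (hpt _) hy h3).mem hy).2, hT _ _ h3]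
  refine ⟨_, hM, fun s t => ?_⟩
  have e1 := hM u (pt (κ u + s)) _ (Sl.refl hu) (hpt _)
    (h.sl_Q hu (hpt (κ u + s)) (hpt (κ u + (s + t))) hy (Sl.refl hy))
  rw [st_st, hM _ _ _ (Sl.refl hu) (hpt _) (Sl.refl hy), hM _ _ _ (hpt _) (hpt _) (Sl.refl hy), e,
    e] at e1
  have a1 : ∀ a s : K4, a + (a + s) = s := by decide
  have a2 : ∀ a s t : K4, a + s + (a + (s + t)) = t := by decide
  simp only [a1, a2] at e1
  rw [add_assoc, add_right_inj, add_comm (T _)] at e1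
  exact e1

theorem act_symm {u y : Pt D} {M M' : K4 → K4} (hu : u ∈ Dx x) (hy : y ∈ Dx x) (hc : ¬ Cm u y)
    (hM : Act x κ u y M) (hM' : Act x κ y u M') (s : K4) : M' (M s) = s := by
  obtain ⟨v, hv, e⟩ := hκ.surj u hu (κ u + s)
  have e1 := hM u v y (Sl.refl hu) hv (Sl.refl hy)
  have e2 := hM' y _ u (Sl.refl hy) (h.sl_Q hu (Sl.refl hu) hv hy (Sl.refl hy)) (Sl.refl hu)
  have c1 := (Sl.refl hu).cm hu hv
  have e3 : y ⋆ (u ⋆ v ⋆ y) ⋆ u = v := by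
    rw [st_st_left, st_st_left, st_self, c1.eq', ← st_comm hc, c1.comm, st_st,
      st_st_mid (fun h1 => hc ((h.sl_cm hu hv hy.2.symm).1 h1.symm).symm)]
  rw [e3, e1, e, add_right_inj] at e2
  have a1 : ∀ a s : K4, a + (a + s) = s := by decide
  rw [a1, a1] at e2
  exact e2.symm

theorem act_tri {y1 y2 y3 : Pt D} {M12 M23 M13 : K4 → K4} (h1 : y1 ∈ Dx x) (h2 : y2 ∈ Dx x)
    (h3 : y3 ∈ Dx x) (a12 : Act x κ y1 y2 M12) (a23 : Act x κ y2 y3 M23)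
    (a13 : Act x κ y1 y3 M13) : (∀ s, M13 s + M23 (M12 s) = 0) ∨
      (∀ s, s ≠ 0 → M13 s + M23 (M12 s) ≠ 0) := by
  have h4 := Dx_st h2 h1
  obtain ⟨M, hM, -⟩ := h.exists_act hκ h4 h3
  have key : ∀ s, ∃ t, (t = 0 ↔ s = 0) ∧ M13 s + M23 (M12 s) = M t := by
    intro s
    obtain ⟨v, hv, e⟩ := hκ.surj y1 h1 (κ y1 + s)
    have hv' : Sl x (y2 ⋆ y1) (y2 ⋆ v) := hv.smul (g := y2.t) h2.2.eq'
    refine ⟨κ (y2 ⋆ y1) + κ (y2 ⋆ v), ⟨fun e1 => ?_, fun e1 => ?_⟩, ?_⟩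
    · have := st_inj (hκ.inj _ h4 _ _ (Sl.refl h4) hv' (by
        rw [K4.add_eq e1, add_zero]))
      rw [← this] at e; exact left_eq_add.1 e
    · rw [e1, add_zero] at e
      rw [hκ.inj _ h1 _ _ hv (Sl.refl h1) e, K4.add_self]
    have e1 := hM _ _ y3 (Sl.refl h4) hv' (Sl.refl h3)
    have c1 := (Sl.refl h1).cm h1 hv
    have e2 : (y2 ⋆ y1) ⋆ (y2 ⋆ v) ⋆ y3 = y2 ⋆ (y1 ⋆ v ⋆ y2) ⋆ (y1 ⋆ v ⋆ y3) := by
      rw [← st_dist y1, ← st_dist v, st_st_left, st_st_left, st_st]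
    rw [e2, a23 _ _ _ (Sl.refl h2) (h.sl_Q h1 (Sl.refl h1) hv h2 (Sl.refl h2))
      (h.sl_Q h1 (Sl.refl h1) hv h3 (Sl.refl h3)), a12 _ _ _ (Sl.refl h1) hv (Sl.refl h2),
      a13 _ _ _ (Sl.refl h1) hv (Sl.refl h3), e, add_assoc, add_right_inj] at e1
    have a1 : ∀ a s : K4, a + (a + s) = s := by decide
    rw [a1, a1] at e1
    exact e1
  by_cases hc : Cm (y2 ⋆ y1) y3
  · refine Or.inl fun s => ?_
    obtain ⟨t, -, e⟩ := key s
    rw [e, h.act_ne hκ h4 h3 hM]; exact Or.inl hc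
  · refine Or.inr fun s hs => ?_
    obtain ⟨t, ht, e⟩ := key s
    rw [e, Ne, h.act_ne hκ h4 h3 hM, ht]; tauto

end U5

/-- identity or Frobenius -/
def frb (b : Bool) (s : K4) : K4 := cond b (s * s) s

theorem K4.additive (M : K4 → K4) (h1 : ∀ s t, M (s + t) = M s + M t) (h2 : ∀ s, M s = 0 → s = 0) :
    ∃ m, (∀ s, M s = m * s) ∨ (∀ s, M s = m * frb true s) := by
  revert M; decide +kernel

theorem K4.fr_symm (m m' : K4) (b b' : Bool) (h : ∀ s, m' * frb b' (m * frb b s) = s) : b = b' := by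
  revert m m' b b'; decide +kernel

theorem K4.fr_tri (m1 m2 m3 : K4) (b1 b2 b3 : Bool) (h1 : m1 ≠ 0) (h2 : m2 ≠ 0) (h3 : m3 ≠ 0)
    (h : (∀ s, m3 * frb b3 s + m2 * frb b2 (m1 * frb b1 s) = 0) ∨
      (∀ s, s ≠ 0 → m3 * frb b3 s + m2 * frb b2 (m1 * frb b1 s) ≠ 0)) : b3 = xor b1 b2 := by
  revert m1 m2 m3 b1 b2 b3; decide +kernel

theorem K4.fr_lin (m a b c : K4) (b1 b2 : Bool) :
    frb b2 (a + m * frb (xor b1 b2) (b + c)) = frb b2 a + frb b2 m * (frb b1 b + frb b1 c) := by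
  revert m a b c b1 b2; decide +kernel

theorem K4.fr_fr (b : Bool) (s : K4) : frb b (frb b s) = s := by revert b s; decide
theorem K4.fr_zero (b : Bool) (s : K4) : frb b s = 0 ↔ s = 0 := by revert b s; decide

theorem U5.exists_crd [Finite G] (h : U5 D) {x a : Pt D} (ha : ¬ Cm x a) :
    ∃ κ, Crd x a κ ∧ ∀ u ∈ Dx x, ∀ y ∈ Dx x, ∃ m, Act x κ u y (fun s => m * s) := by
  classical
  obtain ⟨κ, hκ⟩ := h.exists_crd0 ha
  obtain ⟨b, b1, b2, -⟩ := h.sep (ne_of_nc ha)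
  let e : Pt D → Pt D → Bool := fun u y => decide (∃ m, Act x κ u y (fun s => m * frb true s))
  have he : ∀ u ∈ Dx x, ∀ y ∈ Dx x, ¬ Cm u y →
      ∃ m, m ≠ 0 ∧ Act x κ u y (fun s => m * frb (e u y) s) := by
    intro u hu y hy hc
    have k : ∀ m b, Act x κ u y (fun s => m * frb b s) → m ≠ 0 := fun m b hm e0 => by
      have := (h.act_ne hκ hu hy hm 1).1 (by simp [e0])
      simp [hc] at this
    by_cases h1 : ∃ m, Act x κ u y (fun s => m * frb true s)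
    · simp only [e, decide_eq_true h1]
      obtain ⟨m, hm⟩ := h1
      exact ⟨m, k m _ hm, hm⟩
    · simp only [e, decide_eq_false h1]
      obtain ⟨M, hM, h2⟩ := h.exists_act hκ hu hy
      obtain ⟨m, h3 | h3⟩ := K4.additive M h2
        (fun s hs => ((h.act_ne hκ hu hy hM s).1 hs).resolve_left hc)
      · obtain rfl : M = fun s => m * frb false s := funext h3
        exact ⟨m, k m _ hM, hM⟩
      · obtain rfl : M = fun s => m * frb true s := funext h3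
        exact absurd ⟨m, hM⟩ h1
  obtain ⟨f, hf⟩ := h.simply (x := x) (b := b) ⟨b1, b2⟩ e
    (fun u hu y hy hc => by
      obtain ⟨m, -, hm⟩ := he u hu y hy hc
      obtain ⟨m', -, hm'⟩ := he y hy u hu (nc_symm hc)
      have := h.act_symm hκ hu hy hc hm hm'
      exact K4.fr_symm m m' _ _ this)
    (fun u hu y hy z hz h1 h2 h3 => by
      obtain ⟨m1, k1, a1⟩ := he u hu y hy h1
      obtain ⟨m2, k2, a2⟩ := he y hy z hz h2
      obtain ⟨m3, k3, a3⟩ := he u hu z hz h3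
      have := h.act_tri hκ hu hy hz a1 a2 a3
      exact K4.fr_tri m1 m2 m3 _ _ _ k1 k2 k3 this)
  have hl : ∀ y ∈ Dx x, ∀ z, Sl x y z → f z = f y := by
    intro y hy z hz
    obtain ⟨w, w1, w2, w3⟩ := h.sep hy.1.symm
    have hw : w ∈ Dx x := ⟨w1, w2⟩
    have e1 := hf w hw y hy (nc_symm w3)
    have e2 := hf w hw z (hz.mem hy) (fun hc => w3 ((h.sl_cm hy hz w2.symm).1 hc).symm)
    have e3 : e w z = e w y := by simp only [e, Act, h.sl_iff hy hz]; congr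
    rw [e3, e1] at e2
    exact (Bool.xor_right_inj.1 e2).symm
  refine ⟨fun y => frb (f y) (κ y), ⟨fun y hy u v hu hv e1 => ?_, fun y hy s => ?_,
    fun y hy => by rw [K4.fr_zero, hκ.zero y hy]⟩, fun u hu y hy => ?_⟩
  · rw [hl y hy u hu, hl y hy v hv] at e1
    refine hκ.inj y hy u v hu hv ?_
    rw [← K4.fr_fr (f y) (κ u), e1, K4.fr_fr]
  · obtain ⟨z, h1, h2⟩ := hκ.surj y hy (frb (f y) s)
    exact ⟨z, h1, by rw [h2, hl y hy z h1, K4.fr_fr]⟩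
  by_cases hc : Cm u y
  · refine ⟨0, fun u' v' y' h1 h2 h3 => ?_⟩
    rw [((h.sl_cm2 hu h2 hy h3).2 hc).eq, ((h.sl_cm2 hu h1 hy h3).2 hc).eq]; simp
  obtain ⟨m, -, hm⟩ := he u hu y hy hc
  refine ⟨frb (f y) m, fun u' v' y' h1 h2 h3 => ?_⟩
  have := hm u' v' y' h1 h2 h3
  simp only at this ⊢
  rw [this, hf u hu y hy hc, hl y hy _ (h.sl_Q hu h1 h2 hy h3), K4.fr_lin,
    hl y hy y' h3, hl u hu u' h1, hl u hu v' h2]

end Cfsg.Agent.Fis
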