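import Cfsg.Agent.Fis.U1

/-! Fischer spaces: the unitary case, the extraspecial group of a point. -/

set_option autoImplicit false

namespace Cfsg.Agent.Fis

open Subgroup Cfsg.Agent.Class

variable {G : Type*} [Group G] {D : Set G} [TT D]

/-- the Hermitian form parameters over the field with four elements -/
noncomputable abbrev PK : FP K4 := FP.herm s4 uf4.σσ

variable {W : Type*} [AddCommGroup W] [Module K4 W]

theorem B_sm (f : FS PK W) (c : K4) (w v : W) : f.B (c • w) v = c * c * f.B w v := by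
  rw [FS.B_smul_left, ← s4_eq]; rfl

theorem B_cj (f : FS PK W) (w v : W) : f.B v w = f.B w v * f.B w v := by
  rw [f.symm, ← s4_eq]; exact one_mul _

theorem W_add_self (w : W) : w + w = 0 := by rw [← two_smul K4, K4.two, zero_smul]

theorem N_cases (f : FS PK W) (w : W) : f.B w w = 0 ∨ f.B w w = 1 :=
  K4.tr_zero (by rw [← B_cj, K4.add_self])

theorem B_add_add (f : FS PK W) (a b c d : W) :
    f.B (a + b) (c + d) = f.B a c + f.B a d + (f.B b c + f.B b d) := by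
  simp only [map_add, LinearMap.add_apply]; ring

/-- the residue of the point `x` as a Hermitian space -/
structure Wd (x a : Pt D) (κ : Pt D → K4) (f : FS PK W) (r : Pt D → W) : Prop
    extends Crd x a κ where
  nd : f.Nondeg
  span : Submodule.span K4 (r '' Dx x) = ⊤
  act : ∀ u ∈ Dx x, ∀ v, Sl x u v → ∀ y ∈ Dx x,
    κ (u ⋆ v ⋆ y) = κ y + f.B (r u) (r y) * (κ u + κ v)
  cm : ∀ u ∈ Dx x, ∀ y ∈ Dx x, f.B (r u) (r y) = 0 ↔ Cm u y
  line : ∀ u ∈ Dx x, ∀ v, Sl x u v → r v = r u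

theorem U5.exists_wd [Finite G] (h : U5 D) {x a : Pt D} (ha : ¬ Cm x a) :
    ∃ (κ : Pt D → K4) (W : Submodule K4 (Dx x → K4)) (f : FS PK W) (r : Pt D → W),
      Wd x a κ f r := by
  classical
  obtain ⟨κ, hκ, h1⟩ := h.exists_crd ha
  choose gm hgm using fun (u y : Dx x) => h1 u u.2 y y.2
  have c1 : ∀ u y : Dx x, gm u y = 0 ↔ Cm u.1 y.1 := fun u y => by
    have := h.act_ne hκ u.2 y.2 (hgm u y) 1
    simpa using this
  obtain ⟨U, f, v, k1, k2, k3⟩ := gram_herm uf4.σσ uf4.ne_id gm (fun u y => by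
    rw [s4_eq]
    by_cases hc : Cm u.1 y.1
    · rw [(c1 u y).2 hc, (c1 y u).2 hc.symm, mul_zero]
    · have := h.act_symm hκ u.2 y.2 hc (hgm u y) (hgm y u) 1
      simp only [mul_one] at this
      exact (K4.inv_eq this).symm)
  let r : Pt D → U := fun y => if hy : y ∈ Dx x then v ⟨y, hy⟩ else 0
  have hr : ∀ y (hy : y ∈ Dx x), r y = v ⟨y, hy⟩ := fun y hy => dif_pos hy
  refine ⟨κ, U, f, r, hκ, k1, ?_, fun u hu w hw y hy => ?_, fun u hu y hy => ?_,
    fun u hu w hw => ?_⟩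
  · rw [← k3]; congr 1; ext w; constructor
    · rintro ⟨y, hy, rfl⟩; exact ⟨_, (hr y hy).symm⟩
    · rintro ⟨y, rfl⟩; exact ⟨y, y.2, hr y y.2⟩
  · rw [hr u hu, hr y hy, k2]; exact hgm ⟨u, hu⟩ ⟨y, hy⟩ u w y (Sl.refl hu) hw (Sl.refl hy)
  · rw [hr u hu, hr y hy, k2, c1]
  · rw [hr u hu, hr w (hw.mem hu)]
    refine eq_of_test k1 k3 fun z => ?_
    rw [k2, k2]
    obtain ⟨z', h2, h3⟩ := hκ.surj z z.2 (κ z + 1)
    have e1 := hgm z ⟨u, hu⟩ z z' w (Sl.refl z.2) h2 hw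
    have e2 := hgm z ⟨w, hw.mem hu⟩ z z' w (Sl.refl z.2) h2 (Sl.refl (hw.mem hu))
    simp only [h3, ← add_assoc, K4.add_self, zero_add, mul_one] at e1 e2
    exact add_left_cancel (e2.symm.trans e1)

/-- generators of the extraspecial group -/
def Gn (x : Pt D) (κ : Pt D → K4) (r : Pt D → W) (g : G) (w : W) (c : K4) : Prop :=
  ∃ u ∈ Dx x, ∃ v, Sl x u v ∧ g = u.t * v.t ∧ w = ((κ u + κ v) * (κ u + κ v)) • r u ∧
    c = κ u * κ u * κ u + κ v * κ v * κ v

/-- the extraspecial group with its coordinates -/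
inductive QR (x : Pt D) (κ : Pt D → K4) (f : FS PK W) (r : Pt D → W) : G → W → K4 → Prop
  | one : QR x κ f r 1 0 0
  | step {g q w0 w c0 c} : Gn x κ r g w0 c0 → QR x κ f r q w c →
      QR x κ f r (g * q) (w0 + w) (c0 + c + f.B w0 w)

variable {x a : Pt D} {κ : Pt D → K4} {f : FS PK W} {r : Pt D → W}

theorem QR.cast {q q' : G} {w w' : W} {c c' : K4} (h : QR x κ f r q w c) (h1 : q = q')
    (h2 : w = w') (h3 : c = c') : QR x κ f r q' w' c' := h1 ▸ h2 ▸ h3 ▸ h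

theorem Gn.qr {g : G} {w : W} {c : K4} (h : Gn x κ r g w c) : QR x κ f r g w c :=
  (QR.step h QR.one).cast (mul_one _) (add_zero _) (by simp)

theorem Gn.fix {g : G} {w : W} {c : K4} (h : Gn x κ r g w c) : g • x = x := by
  obtain ⟨u, hu, v, hv, rfl, -⟩ := h
  rw [st_mul, (hv.mem hu).2.eq', hu.2.eq']

theorem Gn.sq {g : G} {w : W} {c : K4} (h : Gn x κ r g w c) : g * g = 1 := by
  obtain ⟨u, hu, v, hv, rfl, -⟩ := h
  rw [← pow_two, sq_eq_one ((Sl.refl hu).cm hu hv)]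

theorem Gn.cc {g : G} {w : W} {c : K4} (h : Gn x κ r g w c) : c * c = c := by
  obtain ⟨u, hu, v, hv, -, -, rfl⟩ := h
  generalize κ u = s; generalize κ v = t; revert s t; decide

theorem QR.fix {q : G} {w : W} {c : K4} (h : QR x κ f r q w c) : q • x = x := by
  induction h with
  | one => exact one_smul _ _
  | step hg _ ih => rw [mul_smul, ih, hg.fix]

theorem QR.mul {q q' : G} {w w' : W} {c c' : K4} (h' : QR x κ f r q' w' c')
    (h : QR x κ f r q w c) : QR x κ f r (q' * q) (w' + w) (c' + c + f.B w' w) := by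
  induction h' with
  | one => exact h.cast (one_mul _).symm (zero_add _).symm (by simp)
  | step hg _ ih =>
    refine (QR.step hg ih).cast (mul_assoc _ _ _).symm (add_assoc _ _ _).symm ?_
    simp only [map_add, LinearMap.add_apply]; ring

theorem xp_comm {q : G} (h : q • x = x) (c : K4) : q * xp x c = xp x c * q := by
  unfold xp; split_ifs
  · simp
  · exact smul_eq_iff_commute.1 h

theorem xp_add {c c' : K4} (h : c = 0 ∨ c = 1) (h' : c' = 0 ∨ c' = 1) :
    xp x (c + c') = xp x c * xp x c' := by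
  rcases h with rfl | rfl <;> rcases h' with rfl | rfl <;>
    simp [xp_zero, xp_one, K4.add_self, Pt.sq]

theorem T_cases (f : FS PK W) (w v : W) : f.B w v + f.B v w = 0 ∨ f.B w v + f.B v w = 1 := by
  rw [B_cj f w v]; exact K4.tr_cases _

namespace Wd

variable (hW : Wd x a κ f r)
include hW

theorem test {w w' : W} (h : ∀ y ∈ Dx x, f.B w (r y) = f.B w' (r y)) : w = w' := by
  rw [← sub_eq_zero]
  refine hW.nd.eq_zero fun v => ?_
  have hv : v ∈ Submodule.span K4 (r '' Dx x) := hW.span ▸ trivial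
  induction hv using Submodule.span_induction with
  | mem _ hx => obtain ⟨y, hy, rfl⟩ := hx; rw [map_sub, LinearMap.sub_apply, h y hy, sub_self]
  | zero => simp
  | add a b _ _ ha hb => rw [map_add, ha, hb, add_zero]
  | smul c a _ ha => rw [map_smul, ha, smul_zero]

theorem gn_iso {g : G} {w : W} {c : K4} (h : Gn x κ r g w c) : f.B w w = 0 := by
  obtain ⟨u, hu, v, hv, -, rfl, -⟩ := h
  rw [map_smul, B_sm, (hW.cm u hu u hu).2 (Cm.refl u)]; simp

theorem tr {q : G} {w : W} {c : K4} (h : QR x κ f r q w c) : c + c * c = f.B w w := by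
  induction h with
  | one => simp
  | @step g q w0 w c0 c hg _ ih =>
    rw [B_add_add, hW.gn_iso hg, ← ih, B_cj f w0 w]
    have := hg.cc; have := K4.two
    grind

theorem inv {q : G} {w : W} {c : K4} (h : QR x κ f r q w c) : QR x κ f r q⁻¹ w (c * c) := by
  induction h with
  | one => exact QR.one.cast inv_one.symm rfl (by simp)
  | @step g q w0 w c0 c hg _ ih =>
    refine (ih.mul hg.qr).cast ?_ (add_comm _ _) ?_
    · rw [mul_inv_rev, inv_eq_of_mul_eq_one_right hg.sq]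
    · rw [B_cj f w0 w]
      have := hg.cc; have := K4.two
      grind

theorem exists_gn {u : Pt D} (hu : u ∈ Dx x) (s : K4) : ∃ g c, Gn x κ r g (s • r u) c := by
  obtain ⟨v, hv, e⟩ := hW.surj u hu (κ u + s * s)
  refine ⟨_, _, u, hu, v, hv, rfl, ?_, rfl⟩
  rw [e, ← add_assoc, K4.add_self, zero_add]
  congr 1; exact (by decide : ∀ s : K4, s = s * s * (s * s)) s

theorem surjW (w : W) : ∃ q c, QR x κ f r q w c := by
  have : ∀ s : K4, ∃ q c, QR x κ f r q (s • w) c := by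
    have hv : w ∈ Submodule.span K4 (r '' Dx x) := hW.span ▸ trivial
    induction hv using Submodule.span_induction with
    | mem _ hx =>
      obtain ⟨y, hy, rfl⟩ := hx
      intro s
      obtain ⟨g, c, hg⟩ := hW.exists_gn hy s
      exact ⟨g, c, hg.qr⟩
    | zero => exact fun s => ⟨1, 0, QR.one.cast rfl (smul_zero _).symm rfl⟩
    | add a b _ _ ha hb =>
      intro s
      obtain ⟨q, c, h1⟩ := ha s
      obtain ⟨q', c', h2⟩ := hb s
      exact ⟨_, _, (h1.mul h2).cast rfl (smul_add _ _ _).symm rfl⟩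
    | smul c a _ ha => intro s; rw [smul_smul]; exact ha _
  simpa using this 1

variable [Finite G] (h : U5 D)
include h

theorem qact {q : G} {w : W} {c : K4} (hq : QR x κ f r q w c) {y : Pt D} (hy : y ∈ Dx x) :
    Sl x y (q • y) ∧ κ (q • y) = κ y + f.B w (r y) := by
  induction hq with
  | one => simp [Sl.refl hy]
  | @step g q w0 w c0 c hg _ ih =>
    obtain ⟨u, hu, v, hv, rfl, rfl, -⟩ := hg
    rw [mul_smul, st_mul, hW.act u hu v hv _ (ih.1.mem hy), ih.2, hW.line y hy _ ih.1]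
    refine ⟨h.sl_Q hu (Sl.refl hu) hv hy ih.1, ?_⟩
    rw [map_add, LinearMap.add_apply, B_sm]
    generalize κ u + κ v = s
    have : s * s * (s * s) = s := by revert s; decide
    rw [this]; ring

theorem uniq {q : G} {w w' : W} {c c' : K4} (hq : QR x κ f r q w c) (hq' : QR x κ f r q w' c') :
    w = w' :=
  hW.test fun _ hy => add_left_cancel ((hW.qact h hq hy).2.symm.trans (hW.qact h hq' hy).2)

theorem qfix_iff {q : G} {w : W} {c : K4} (hq : QR x κ f r q w c) {y : Pt D} (hy : y ∈ Dx x) :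
    q • y = y ↔ f.B w (r y) = 0 := by
  obtain ⟨h1, h2⟩ := hW.qact h hq hy
  refine ⟨fun e => ?_, fun e => hW.inj y hy _ _ h1 (Sl.refl hy) (by rw [h2, e, add_zero])⟩
  rw [e] at h2; exact left_eq_add.1 h2

theorem exists_moved {q : G} {w : W} {c : K4} (hq : QR x κ f r q w c) (hw : w ≠ 0) :
    ∃ y ∈ Dx x, q • y ≠ y := by
  by_contra hne
  push Not at hne
  exact hw (hW.test fun y hy => by rw [(hW.qfix_iff h hq hy).1 (hne y hy)]; simp)

theorem qx (ha : ¬ Cm x a) : QR x κ f r x.t 0 1 := by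
  obtain ⟨u, b1, b2, -⟩ := h.sep (ne_of_nc ha)
  have hu : u ∈ Dx x := ⟨b1, b2⟩
  choose pt hpt e using hW.surj u hu
  obtain ⟨ω, hω⟩ : ∃ ω : K4, ω * ω = ω + 1 := by decide
  have k := h.gen_eq hW.toCrd hu (hpt 0) (hpt 1) (hpt ω) (hpt (ω + 1)) (by
    rw [e, e, e, e, ← add_assoc, K4.add_self])
  have g1 : Gn x κ r _ _ _ := ⟨_, (hpt 0).mem hu, _, (h.sl_iff hu (hpt 0)).2 (hpt 1), rfl, rfl, rfl⟩
  have g2 : Gn x κ r _ _ _ :=
    ⟨_, (hpt ω).mem hu, _, (h.sl_iff hu (hpt ω)).2 (hpt (ω + 1)), rfl, rfl, rfl⟩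
  have k2 := g2.sq
  have k3 := hW.gn_iso g2
  have k4 := QR.step g1 (g2.qr (f := f))
  simp only [e, hW.line u hu _ (hpt _), ← add_assoc, K4.add_self, zero_add] at k k3 k4
  have := K4.two
  refine k4.cast ?_ (W_add_self _) ?_
  · rw [k, mul_assoc, k2, mul_one, ← xp_one]; congr 1; grind
  · rw [k3]; grind

theorem comm_gn {q g : G} {w w0 : W} {c c0 : K4} (hq : QR x κ f r q w c) (hg : Gn x κ r g w0 c0) :
    q * g = xp x (f.B w w0 + f.B w0 w) * (g * q) := by
  obtain ⟨u, hu, v, hv, rfl, rfl, -⟩ := hg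
  obtain ⟨h1, h2⟩ := hW.qact h hq hu
  obtain ⟨h3, h4⟩ := hW.qact h hq (hv.mem hu)
  rw [h.sl_iff hu hv] at h3
  rw [hW.line u hu v hv] at h4
  have k := h.gen_eq hW.toCrd hu h1 h3 (Sl.refl hu) hv (by
    rw [h2, h4]; have := K4.two; grind)
  rw [smul_t, smul_t, mul_assoc, ← mul_assoc q⁻¹, inv_mul_cancel_left, mul_assoc q, ← mul_assoc u.t,
    ← mul_assoc q, mul_inv_eq_iff_eq_mul] at k
  rw [k, mul_assoc, h2, h4, B_cj f w, map_smul, smul_eq_mul]
  congr 2
  generalize κ u = s; generalize κ v = t; generalize f.B w (r u) = b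
  revert s t b; decide

theorem comm {q q' : G} {w w' : W} {c c' : K4} (hq : QR x κ f r q w c) (hq' : QR x κ f r q' w' c') :
    q * q' = xp x (f.B w w' + f.B w' w) * (q' * q) := by
  induction hq' with
  | one => simp [xp_zero]
  | @step g q' w0 w' c0 c' hg _ ih =>
    rw [← mul_assoc q, hW.comm_gn h hq hg, mul_assoc, mul_assoc g, ih, ← mul_assoc g, xp_comm hg.fix,
      mul_assoc, ← mul_assoc (xp x _), ← xp_add (T_cases f _ _) (T_cases f _ _), mul_assoc g]
    congr 2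
    simp only [map_add, LinearMap.add_apply]; ring

theorem sq {q : G} {w : W} {c : K4} (hq : QR x κ f r q w c) : q * q = xp x (f.B w w) := by
  induction hq with
  | one => simp [xp_zero]
  | @step g q w0 w c0 c hg hq ih =>
    rw [mul_assoc, ← mul_assoc q, hW.comm_gn h hq hg, mul_assoc, ← mul_assoc g, xp_comm hg.fix,
      mul_assoc, mul_assoc g, ← mul_assoc g, hg.sq, one_mul, ih,
      ← xp_add (T_cases f _ _) (N_cases f _), B_add_add, hW.gn_iso hg]
    congr 1; ring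

theorem reg {q : G} {w : W} {c : K4} (hq : QR x κ f r q w c) {b : Pt D} (hb : ¬ Cm x b)
    (e : q • b = b) : q = 1 := by
  have k1 : ∀ y, Cm x y → q • y = y := by
    intro y hc
    by_cases hyx : y = x
    · rw [hyx, hq.fix]
    have hy : y ∈ Dx x := ⟨hyx, hc⟩
    obtain ⟨p, hp, bp⟩ := h.one_or_all hy b
    have hp' : Sl x y p := ⟨hp, fun e => hb (e ▸ bp.symm)⟩
    have h1 := (hW.qact h hq (hp'.mem hy)).1
    rw [h.sl_iff hy hp'] at h1
    have h2 : q • p = p := by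
      by_contra h2
      exact hb (h.Ln_two hy h1.1 hp h2 (by have := bp.smul q; rwa [e] at this) bp).1.symm
    rw [hW.qfix_iff h hq (hp'.mem hy), hW.line y hy p hp'] at h2
    exact (hW.qfix_iff h hq hy).2 h2
  refine h.eq_one fun y => ?_
  by_cases hc : Cm x y
  · exact k1 y hc
  obtain ⟨g, hg, rfl⟩ := h.trA' hb hc
  exact closure_smul_mem (P := fun y => q • y = y)
    (fun s hs y hy => by rw [smul_st, k1 s hs, hy]) hg b e

theorem trans (ha : ¬ Cm x a) {b : Pt D} (hb : ¬ Cm x b) :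
    ∃ q w c, QR x κ f r q w c ∧ q • a = b := by
  obtain ⟨g, hg, rfl⟩ := h.trA' ha hb
  refine closure_smul_mem (P := fun b => ∃ q w c, QR x κ f r q w c ∧ q • a = b) ?_ hg a
    ⟨1, 0, 0, QR.one, one_smul _ _⟩
  rintro s hs _ ⟨q, w, c, hq, rfl⟩
  by_cases hsx : s = x
  · exact ⟨_, _, _, (hW.qx h ha).mul hq, by rw [mul_smul, hsx]; rfl⟩
  have hy : s ∈ Dx x := ⟨hsx, hs⟩
  obtain ⟨p, hp, bp⟩ := h.one_or_all hy (q • a)
  have hp' : Sl x s p := ⟨hp, fun e => ha (by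
    rw [e, ← hq.fix, cm_smul] at bp; exact bp.symm)⟩
  exact ⟨_, _, _, QR.step ⟨s, hy, p, hp', rfl, rfl, rfl⟩ hq, by rw [mul_smul, st_mul, bp.eq']⟩

theorem c2 (ha : ¬ Cm x a) {q : G} {w : W} {c : K4} (hq : QR x κ f r q w c) (hw : f.B w w = 0) :
    Cm a (q • a) ∨ Cm a (x ⋆ q • a) := by
  by_contra hne
  rw [not_or] at hne
  have h1 := hW.sq h hq
  rw [hw, xp_zero] at h1
  have h2 : q • (a ⋆ q • a) = a ⋆ q • a := by
    rw [smul_st, smul_smul, h1, one_smul, st_comm hne.1]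
  have h3 : ¬ Cm x (a ⋆ q • a) := by
    rw [cm_st_iff, ← st_comm ha, ← cm_st_iff]; exact hne.2
  rw [hW.reg h hq h3 h2, one_smul] at hne
  exact hne.1 (Cm.refl a)

theorem P4x (ha : ¬ Cm x a) {b : Pt D} (hb : ¬ Cm x b) (hs : ∀ y ∈ DD x a, Cm y b) :
    b = a ∨ b = x ⋆ a := by
  obtain ⟨q, w, c, hq, rfl⟩ := hW.trans h ha hb
  have hw : w = 0 := hW.test fun y hy => by
    obtain ⟨p, hp, e⟩ := hW.surj y hy 0
    have h1 := hp.mem hy
    have h2 := hs p ⟨h1.2.symm, ((hW.zero p h1).1 e).symm⟩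
    rw [cm_smul_iff, cm_comm] at h2
    obtain ⟨h3, h4⟩ := hW.qact h (hW.inv hq) h1
    rw [(hW.zero _ (h3.mem h1)).2 h2, e, zero_add, hW.line y hy p hp] at h4
    rw [← h4]; simp
  rcases hW.c2 h ha hq (by simp [hw]) with h1 | h1
  · exact Or.inl (h.P4a (nc_symm ha) h1 (fun y hy => hs y ⟨hy.2, hy.1⟩)).symm
  · exact Or.inr (st_eq_iff.1 (h.P4a (nc_symm ha) h1
      (fun y hy => hy.2.st_right (hs y ⟨hy.2, hy.1⟩))).symm)

theorem zdesc (ha : ¬ Cm x a) {q : G} {w : W} {c : K4} (hq : QR x κ f r q w c)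
    (hz : Cm a (q • a)) : w = 0 ∧ q = 1 ∨
      ∃ u ∈ Dx x, ∃ l : K4, l ≠ 0 ∧ ¬ Cm a u ∧ q • a = x ⋆ a ⋆ u ∧ w = l • r u := by
  by_cases h1 : q • a = a
  · have := hW.reg h hq ha h1
    subst this
    exact Or.inl ⟨hW.uniq h hq QR.one, rfl⟩
  right
  have hb : ¬ Cm x (q • a) := by rw [← hq.fix, cm_smul]; exact ha
  obtain ⟨u, hu⟩ : ∃ u, q • a = x ⋆ a ⋆ u := ⟨a ⋆ x ⋆ q • a, by rw [st_st, st_st]⟩
  rw [hu] at hz hb h1
  have h2 : u ∈ Dx x := ⟨fun e => h1 (by rw [e, st_st_mid (nc_symm ha)]), by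
    rwa [cm_st_iff, cm_st_iff, st_st_mid ha] at hz⟩
  have h3 : ¬ Cm a u := fun hc => hb (by rw [hc.eq, h2.2.eq]; exact h2.2)
  obtain ⟨p, hp, e⟩ := hW.surj u h2 0
  have h4 := (hW.qx h ha).mul (Gn.qr (f := f) ⟨u, h2, p, hp, rfl, rfl, rfl⟩)
  have h5 := hW.reg h ((hW.inv h4).mul hq) ha (by
    rw [mul_smul, inv_smul_eq_iff, mul_smul, st_mul, ((hW.zero _ (hp.mem h2)).1 e).eq', hu,
      st_comm h3]; rfl)
  rw [inv_mul_eq_one] at h5
  have h6 : κ u ≠ 0 := fun e => h3 ((hW.zero u h2).1 e)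
  refine ⟨u, h2, κ u * κ u, mul_ne_zero h6 h6, h3, hu, ?_⟩
  rw [hW.uniq h hq (h5 ▸ h4), e, add_zero, zero_add]

theorem z_iso (ha : ¬ Cm x a) {q : G} {w : W} {c : K4} (hq : QR x κ f r q w c)
    (hz : Cm a (q • a)) : f.B w w = 0 := by
  rcases hW.zdesc h ha hq hz with ⟨rfl, -⟩ | ⟨u, hu, l, -, -, -, rfl⟩
  · simp
  · rw [map_smul, B_sm, (hW.cm u hu u hu).2 (Cm.refl u)]; simp

theorem z_cm (ha : ¬ Cm x a) {q q' : G} {w w' : W} {c c' : K4} (hq : QR x κ f r q w c)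
    (hq' : QR x κ f r q' w' c') (hz : Cm a (q • a)) (hz' : Cm a (q' • a)) :
    Cm (q • a) (q' • a) ↔ f.B w w' = 0 := by
  rcases hW.zdesc h ha hq hz with ⟨rfl, rfl⟩ | ⟨u, hu, l, hl, -, e, rfl⟩
  · simpa using hz'
  rcases hW.zdesc h ha hq' hz' with ⟨rfl, rfl⟩ | ⟨u', hu', l', hl', -, e', rfl⟩
  · simpa using hz.symm
  rw [e, e', cm_st, cm_st, map_smul, B_sm, ← hW.cm u hu u' hu']
  simp [hl, hl']

end Wd

end Cfsg.Agent.Fis
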