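import Cfsg.Agent.Fis.U2

/-! Fischer spaces: the unitary case, the model. -/

set_option autoImplicit false

namespace Cfsg.Agent.Fis

open Subgroup Cfsg.Agent.Class Module

variable {G : Type*} [Group G] {D : Set G} [TT D]
variable {W : Type*} [AddCommGroup W] [Module K4 W]
variable {x a : Pt D} {κ : Pt D → K4} {f : FS PK W} {r : Pt D → W}

open Classical in
/-- indicator of non-commuting -/
noncomputable def c0 (a : Pt D) (q : G) : K4 := if Cm a (q • a) then 0 else 1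

theorem c0_eq_zero {q : G} : c0 a q = 0 ↔ Cm a (q • a) := by
  unfold c0; split_ifs with h <;> simp [h]

theorem c0_cases (q : G) : c0 a q = 0 ∨ c0 a q = 1 := by
  unfold c0; split_ifs <;> simp

theorem K4.eq_of_iff {s t : K4} (hs : s = 0 ∨ s = 1) (ht : t = 0 ∨ t = 1) (h : s = 0 ↔ t = 0) :
    s = t := by revert s t; decide

/-- the invariant of the induction -/
def Inv (x a : Pt D) (κ : Pt D → K4) (f : FS PK W) (r : Pt D → W) (q : G) (w : W) (c : K4) :
    Prop :=
  ∀ e we ce, QR x κ f r e we ce → Cm a (e • a) → f.B we w + f.B w we = f.B w w →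
    c0 a (e * q) = c + f.B we w

namespace Wd

variable (hW : Wd x a κ f r) [Finite G] (h : U5 D) (ha : ¬ Cm x a)
include hW h ha

theorem qxp {q : G} {w : W} {c : K4} (hq : QR x κ f r q w c) {s : K4} (hs : s = 0 ∨ s = 1) :
    QR x κ f r (xp x s * q) w (s + c) := by
  rcases hs with rfl | rfl
  · exact hq.cast (by rw [xp_zero, one_mul]) rfl (zero_add _).symm
  · exact ((hW.qx h ha).mul hq).cast (by rw [xp_one]) (zero_add _) (by simp)

theorem F1 {q : G} {w : W} {c : K4} (hq : QR x κ f r q w c) (hw : f.B w w = 0) {s : K4}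
    (hs : s = 0 ∨ s = 1) : c0 a (xp x s * q) = s + c0 a q := by
  rcases hs with rfl | rfl
  · rw [xp_zero, one_mul, zero_add]
  rw [xp_one]
  have h1 := hW.c2 h ha hq hw
  have h2 : ¬ (Cm a (q • a) ∧ Cm a (x ⋆ q • a)) := by
    rintro ⟨h2, h3⟩
    rw [cm_st_iff, st_comm ha, ← cm_st_iff, h2.eq, ← hq.fix, cm_smul] at h3
    exact ha h3
  rw [← c0_eq_zero, st_def, ← mul_smul, ← c0_eq_zero] at h1 h2
  have h3 := c0_cases (a := a) q
  have h4 := c0_cases (a := a) (x.t * q)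
  generalize c0 a q = s at *
  generalize c0 a (x.t * q) = t at *
  clear hw hq
  revert s t; decide

theorem toZ {q : G} {w : W} {c : K4} (hq : QR x κ f r q w c) (hw : f.B w w = 0) :
    Cm a ((xp x (c0 a q) * q) • a) := by
  rw [← c0_eq_zero, hW.F1 h ha hq hw (c0_cases q), K4.add_self]

theorem F2 {e q : G} {we w : W} {ce c : K4} (he : QR x κ f r e we ce) (hz : Cm a (e • a))
    (hq : QR x κ f r q w c) (hw : f.B w w = 0) (ht : f.B we w + f.B w we = 0) :
    c0 a (e * q) = c0 a q + f.B we w := by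
  have k0 : f.B we w = 0 ∨ f.B we w = 1 := K4.tr_zero (by rwa [← B_cj])
  have k1 := hW.z_iso h ha he hz
  have h1 := hW.qxp h ha hq (c0_cases (a := a) q)
  have h2 := hW.toZ h ha hq hw
  have h3 : c0 a (e * (xp x (c0 a q) * q)) = f.B we w := by
    refine K4.eq_of_iff (c0_cases _) k0 ?_
    have e2 := hW.sq h he
    rw [k1, xp_zero] at e2
    rw [c0_eq_zero, mul_smul, cm_smul_iff, inv_eq_of_mul_eq_one_right e2,
      hW.z_cm h ha he h1 hz h2]
  rw [← mul_assoc, xp_comm he.fix, mul_assoc, hW.F1 h ha (he.mul hq)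
    (by rw [B_add_add, k1, hw, zero_add, add_zero, ht]) (c0_cases q)] at h3
  rw [← h3, ← add_assoc, K4.add_self, zero_add]

theorem wdA {e e' q : G} {we we' w : W} {ce ce' c : K4} (he : QR x κ f r e we ce)
    (hz : Cm a (e • a)) (he' : QR x κ f r e' we' ce') (hz' : Cm a (e' • a))
    (hq : QR x κ f r q w c) (h1 : f.B we w + f.B w we = f.B w w)
    (h2 : f.B we' w + f.B w we' = f.B w w) (h3 : f.B we' we + f.B we we' = 0) :
    c0 a (e' * q) + f.B we' w = c0 a (e * q) + f.B we w := by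
  have k1 := hW.z_iso h ha he hz
  have k2 := hW.z_iso h ha he' hz'
  have two := K4.two
  have k3 : f.B (we' + we) (we' + we) = 0 := by rw [B_add_add]; grind
  have k4 : f.B (we + w) (we + w) = 0 := by rw [B_add_add]; grind
  have k5 := hW.F2 h ha he' hz' he k1 h3
  rw [c0_eq_zero.2 hz, zero_add] at k5
  have k6 := hW.F2 h ha (hW.qxp h ha (he'.mul he) (c0_cases (a := a) (e' * e)))
    (hW.toZ h ha (he'.mul he) k3) (he.mul hq) k4 (by rw [B_add_add, B_add_add]; grind)
  have e2 := hW.sq h he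
  rw [k1, xp_zero] at e2
  rw [mul_assoc, mul_assoc, ← mul_assoc e, e2, one_mul, hW.F1 h ha (he'.mul hq)
    (by rw [B_add_add]; grind) (c0_cases _), B_add_add, k5] at k6
  grind

theorem inv_of_ex {e q : G} {we w : W} {ce c c' : K4} (he : QR x κ f r e we ce)
    (hz : Cm a (e • a)) (hq : QR x κ f r q w c') (h1 : f.B we w + f.B w we = f.B w w)
    (h2 : c0 a (e * q) = c + f.B we w) : Inv x a κ f r q w c := by
  intro e' we' ce' he' hz' h3
  have two := K4.two
  rcases T_cases f we' we with h4 | h4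
  · have := hW.wdA h ha he hz he' hz' hq h1 h3 h4
    grind
  have k1 := hW.z_iso h ha he hz
  have k2 := hW.z_iso h ha he' hz'
  rcases N_cases f w with h5 | h5
  · have k3 := hW.F2 h ha he hz hq h5 (h1.trans h5)
    have k4 := hW.F2 h ha he' hz' hq h5 (h3.trans h5)
    grind
  have k4 : f.B (we + w) (we + w) = 0 := by rw [B_add_add]; grind
  have := hW.wdA h ha (hW.qxp h ha (he.mul hq) (c0_cases (a := a) (e * q)))
    (hW.toZ h ha (he.mul hq) k4) he' hz' hq
    (by simp only [map_add, LinearMap.add_apply]; grind) h3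
    (by simp only [map_add, LinearMap.add_apply]; grind)
  rw [mul_assoc, mul_assoc, hW.sq h hq, xp_comm he.fix, hW.F1 h ha (hW.qxp h ha he (N_cases f w))
    k1 (c0_cases _), hW.F1 h ha he k1 (N_cases f w), c0_eq_zero.2 hz, map_add,
    LinearMap.add_apply] at this
  grind

theorem inv_xp {q : G} {w : W} {c c' : K4} (hq : QR x κ f r q w c') (hi : Inv x a κ f r q w c)
    {s : K4} (hs : s = 0 ∨ s = 1) : Inv x a κ f r (xp x s * q) w (s + c) := by
  intro e we ce he hz h1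
  have two := K4.two
  rw [← mul_assoc, xp_comm he.fix, mul_assoc, hW.F1 h ha (he.mul hq)
    (by rw [B_add_add, hW.z_iso h ha he hz]; grind) hs, hi e we ce he hz h1, add_assoc]

theorem exists_u {e q : G} {we w : W} {ce c : K4} (he : QR x κ f r e we ce)
    (hq : QR x κ f r q w c) (h1 : w ≠ 0) (h2 : we + w ≠ 0) : ∃ u wu cu, QR x κ f r u wu cu ∧
      Cm a (u • a) ∧ f.B wu w + f.B w wu = 1 ∧ f.B wu we + f.B we wu = 0 := by
  obtain ⟨y, y1, y2⟩ := hW.exists_moved h hq h1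
  obtain ⟨y', y3, y4⟩ := hW.exists_moved h (he.mul hq) h2
  obtain ⟨z, z1, z2, z3⟩ := h.union y1 y3 y2 y4
  rw [Ne, hW.qfix_iff h hq z1] at z2
  rw [Ne, hW.qfix_iff h (he.mul hq) z1, map_add, LinearMap.add_apply] at z3
  obtain ⟨l, l1, l2⟩ := K4.exists_lam z2 (b' := f.B we (r z))
    (fun e1 => z3 (by rw [e1, K4.add_self]))
  obtain ⟨g, cg, hg⟩ := hW.exists_gn z1 l
  refine ⟨_, _, _, hW.qxp h ha hg.qr (c0_cases (a := a) g), hW.toZ h ha hg.qr (hW.gn_iso hg), ?_, ?_⟩
  · rw [B_cj f w, map_smul, smul_eq_mul, add_comm, l1]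
  · rw [B_cj f we, map_smul, smul_eq_mul, add_comm, l2]

theorem inv_step {e q : G} {we w : W} {ce c c' : K4} (he : QR x κ f r e we ce)
    (hz : Cm a (e • a)) (hq : QR x κ f r q w c') (hi : Inv x a κ f r q w c) :
    Inv x a κ f r (e * q) (we + w) (c + f.B we w) := by
  have two := K4.two
  have k1 := hW.z_iso h ha he hz
  have k0 : Cm a ((1 : G) • a) := by rw [one_smul]; exact Cm.refl a
  have k2 := B_add_add f we w we w
  rcases N_cases f (we + w) with h1 | h1
  · refine hW.inv_of_ex h ha QR.one k0 (he.mul hq) (by rw [h1]; simp) ?_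
    rw [one_mul, hi e we ce he hz (by grind)]; simp
  rcases N_cases f w with h2 | h2
  · refine hW.inv_of_ex h ha he hz (he.mul hq)
      (by simp only [map_add, LinearMap.add_apply]; grind) ?_
    have e2 := hW.sq h he
    rw [k1, xp_zero] at e2
    have := hi 1 0 0 QR.one k0 (by simp [h2])
    rw [one_mul] at this
    rw [← mul_assoc, e2, one_mul, this]
    simp only [map_add, map_zero, LinearMap.zero_apply]
    grind
  obtain ⟨u, wu, cu, hu, hzu, u1, u2⟩ := hW.exists_u h ha he hq (fun e0 => by simp [e0] at h2)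
    (fun e0 => by simp [e0] at h1)
  have k3 := hW.z_iso h ha hu hzu
  refine hW.inv_of_ex h ha hu hzu (he.mul hq)
    (by rw [h1]; simp only [map_add, LinearMap.add_apply]; grind) ?_
  have k4 := hW.comm h hu he
  rw [u2, xp_zero, one_mul] at k4
  rw [← mul_assoc, k4, mul_assoc, hW.F2 h ha he hz (hu.mul hq) (by rw [B_add_add]; grind)
    (by simp only [map_add, LinearMap.add_apply]; grind), hi u wu cu hu hzu (by grind)]
  simp only [map_add]
  grind

omit h ha [Finite G] in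
theorem gn_c0 {g : G} {w : W} {c : K4} (hg : Gn x κ r g w c) : c0 a g = c := by
  have h1 := hg.cc
  obtain ⟨u, hu, v, hv, rfl, -, rfl⟩ := hg
  refine K4.eq_of_iff (c0_cases _) (K4.tr_zero (by rw [h1, K4.add_self])) ?_
  have h2 : ∀ s t : K4, s * s * s + t * t * t = 0 ↔ (s = 0 ↔ t = 0) := by decide
  rw [c0_eq_zero, st_mul, h2, hW.zero u hu, hW.zero v (hv.mem hu)]
  by_cases c1 : Cm a u <;> by_cases c2 : Cm a v
  · simp [c1, c2, c1.st_right (c2.st_right (Cm.refl a))]
  · simp [c1, c2, nc_st_right c1 (nc_st_self' (nc_symm c2))]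
  · simp [c1, c2, c2.eq', nc_st_self' (nc_symm c1)]
  · simp [c1, c2, s4_cm c1 c2 ((Sl.refl hu).cm hu hv)]

theorem inv_all {q : G} {w : W} {c : K4} (hq : QR x κ f r q w c) : Inv x a κ f r q w c := by
  induction hq with
  | one => intro e we ce _ hz _; simp [c0_eq_zero.2 hz]
  | @step g q w0 w c0' c hg hq ih =>
    have h1 := hW.gn_c0 hg
    have h2 := c0_cases (a := a) g
    have h3 := hW.qxp h ha hg.qr h2
    have := hW.inv_xp h ha (h3.mul hq)
      (hW.inv_step h ha h3 (hW.toZ h ha hg.qr (hW.gn_iso hg)) hq ih) h2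
    rwa [mul_assoc, ← mul_assoc (xp x _), ← xp_add h2 h2, K4.add_self, xp_zero, one_mul, h1,
      ← add_assoc] at this

theorem c_zero {q : G} {w : W} {c : K4} (hq : QR x κ f r q w c) : c = 0 ↔ Cm a (q • a) := by
  have k : f.B w w = 0 → (c = 0 ↔ Cm a (q • a)) := fun h1 => by
    have := hW.inv_all h ha hq 1 0 0 QR.one (by rw [one_smul]; exact Cm.refl a) (by simp [h1])
    rw [← c0_eq_zero, ← one_mul q, this]; simp
  exact ⟨fun e => (k (by rw [← hW.tr hq, e]; simp)).1 e, fun e => (k (hW.z_iso h ha hq e)).2 e⟩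

end Wd

/-- the form on the extended space -/
noncomputable def extF (f : FS PK W) : FS PK (K4 × W × K4) :=
  FS.ofHerm uf4.σσ uf4.ne_id (LinearMap.mk₂'ₛₗ s4 (RingHom.id K4)
    (fun v v' => s4 v.1 * v'.2.2 + f.B v.2.1 v'.2.1 + s4 v.2.2 * v'.1)
    (fun _ _ _ => by simp; ring) (fun _ _ _ => by simp; ring)
    (fun _ _ _ => by simp; ring) (fun _ _ _ => by simp; ring))
    (fun v v' => by
      simp only [LinearMap.mk₂'ₛₗ_apply, map_add, map_mul, uf4.σσ]
      rw [B_cj f v.2.1, s4_eq (f.B _ _)]; ring)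

theorem extF_B (f : FS PK W) (c c' d d' : K4) (w w' : W) :
    (extF f).B (c, w, d) (c', w', d') = c * c * d' + f.B w w' + d * d * c' := by
  rw [← s4_eq, ← s4_eq]; rfl

theorem extF_nd [FiniteDimensional K4 W] (hf : f.Nondeg) : (extF f).Nondeg := by
  refine FS.nondeg_of_sep ?_
  rintro ⟨c, w, d⟩ hv
  have h1 := hv (0, 0, 1)
  have h2 := hv (1, 0, 0)
  have h3 : w = 0 := hf.eq_zero fun y => by simpa [extF_B] using hv (0, y, 0)
  simp [extF_B] at h1 h2
  rw [h1, h2, h3]; rfl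

theorem Model.of_P4 [Finite G] (h : Prim D) {V : Type*} [AddCommGroup V] [Module K4 V]
    {f : FS PK V} {Φ : Pt D → V} (nd : f.Nondeg) (cm : ∀ a b, f.B (Φ a) (Φ b) = 0 ↔ Cm a b)
    (surj : ∀ v, v ≠ 0 → f.B v v = 0 → ∃ a c, c ≠ (0 : K4) ∧ v = c • Φ a) (ha : ¬ Cm x a)
    (P4 : ∀ b, ¬ Cm x b → (∀ y ∈ DD x a, Cm y b) → b = a ∨ b = x ⋆ a) : Model f Φ := by
  refine ⟨nd, cm, surj, fun p b => ?_⟩
  by_cases hc : Cm p b
  · exact ⟨1, one_ne_zero, by rw [(cm p b).2 hc, hc.eq]; simp⟩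
  have h0 : ∀ z, f.B (Φ z) (Φ z) = 0 := fun z => (cm z z).2 (Cm.refl z)
  have h1 : f.B (Φ p) (Φ b) ≠ 0 := fun e => hc ((cm p b).1 e)
  have h2 : ∀ z, f.B (Φ z) (Φ b + f.B (Φ p) (Φ b) • Φ p) =
      f.B (Φ z) (Φ b) + f.B (Φ p) (Φ b) * f.B (Φ z) (Φ p) := fun z => by simp
  obtain ⟨d, c, hc0, e⟩ := surj (Φ b + f.B (Φ p) (Φ b) • Φ p)
    (fun e => h1 (by have := h2 p; rw [e, h0] at this; simpa using this.symm))
    (by
      rw [B_add_add, B_sm, B_sm, FS.B_smul_right, FS.B_smul_right, h0, h0, B_cj f (Φ p) (Φ b)]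
      have := K4.two
      grind)
  refine ⟨c, hc0, e.trans ?_⟩
  have h3 : ∀ z, Cm z d ↔ f.B (Φ z) (Φ b) + f.B (Φ p) (Φ b) * f.B (Φ z) (Φ p) = 0 := fun z => by
    rw [← h2, e, map_smul, smul_eq_zero, cm]; simp [hc0]
  obtain ⟨g, rfl⟩ := h.tr x p
  obtain ⟨k, k1, rfl⟩ := h.trA (d := g • x) (a := g • a) (by rwa [cm_smul]) hc
  rw [← k1, smul_smul, smul_smul] at *
  generalize k * g = m at *
  obtain ⟨d, rfl⟩ : ∃ d', d = m • d' := ⟨m⁻¹ • d, (smul_inv_smul _ _).symm⟩
  rcases P4 d (fun h4 => h1 (by simpa [h0] using (h3 _).1 (h4.smul m))) (fun y hy => by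
    rw [← cm_smul m, h3, (cm _ _).2 (hy.1.smul m), (cm _ _).2 (hy.2.smul m)]; simp) with e1 | e1
  · have := (h3 _).1 (Cm.refl _)
    rw [e1, h0, zero_add, mul_eq_zero, cm, cm] at this
    exact absurd (this.elim id Cm.symm) hc
  · rw [e1, smul_st]

theorem Wd.model (hW : Wd x a κ f r) [Finite G] (h : U5 D) (ha : ¬ Cm x a)
    [FiniteDimensional K4 W] : ∃ Φ : Pt D → K4 × W × K4, Model (extF f) Φ := by
  classical
  have ex : ∀ b, ∃ q w c, ¬ Cm x b → QR x κ f r q w c ∧ q • a = b := fun b => by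
    by_cases hb : Cm x b
    · exact ⟨1, 0, 0, fun h => absurd hb h⟩
    · obtain ⟨q, w, c, h1⟩ := hW.trans h ha hb
      exact ⟨q, w, c, fun _ => h1⟩
  choose qq ww cc hq using ex
  let Φ : Pt D → K4 × W × K4 := fun b =>
    if b = x then (1, 0, 0) else if Cm x b then (κ b, r b, 0) else (cc b, ww b, 1)
  have p1 : Φ x = (1, 0, 0) := if_pos rfl
  have p2 : ∀ y ∈ Dx x, Φ y = (κ y, r y, 0) := fun y hy => by simp only [Φ, if_neg hy.1, if_pos hy.2]
  have p3 : ∀ b, ¬ Cm x b → Φ b = (cc b, ww b, 1) := fun b hb => by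
    simp only [Φ, if_neg (ne_of_nc hb).symm, if_neg hb]
  have tri : ∀ b, b = x ∨ b ∈ Dx x ∨ ¬ Cm x b := fun b => by
    by_cases h1 : b = x
    · exact Or.inl h1
    by_cases h2 : Cm x b
    · exact Or.inr (Or.inl ⟨h1, h2⟩)
    · exact Or.inr (Or.inr h2)
  have c1 : ∀ b, (extF f).B (Φ x) (Φ b) = 0 ↔ Cm x b := fun b => by
    rcases tri b with rfl | hb | hb
    · simp [p1, extF_B, Cm.refl]
    · simp [p1, p2 b hb, extF_B, hb.2]
    · simp [p1, p3 b hb, extF_B, hb]
  have c2 : ∀ b, ¬ Cm x b → ∀ y ∈ Dx x, (extF f).B (Φ b) (Φ y) = 0 ↔ Cm b y := fun b hb y hy => by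
    obtain ⟨h1, h2⟩ := hq b hb
    obtain ⟨h3, h4⟩ := hW.qact h (hW.inv h1) hy
    rw [p3 b hb, p2 y hy, extF_B, cm_comm]
    conv_rhs => rw [← h2, cm_smul_iff, cm_comm, ← hW.zero _ (h3.mem hy), h4]
    simp [add_comm]
  refine ⟨Φ, Model.of_P4 h.toPrim (extF_nd hW.nd) (fun p b => ?_) ?_ ha
    (fun b hb => hW.P4x h ha hb)⟩
  · rcases tri p with rfl | hp | hp
    · exact c1 b
    · rcases tri b with rfl | hb | hb
      · rw [FS.B_eq_zero_comm, cm_comm]; exact c1 p
      · rw [p2 p hp, p2 b hb, extF_B, ← hW.cm p hp b hb]; simp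
      · rw [FS.B_eq_zero_comm, cm_comm]; exact c2 b hb p hp
    · rcases tri b with rfl | hb | hb
      · rw [FS.B_eq_zero_comm, cm_comm]; exact c1 p
      · exact c2 p hp b hb
      · obtain ⟨h1, h2⟩ := hq p hp
        obtain ⟨h3, h4⟩ := hq b hb
        have := hW.c_zero h ha ((hW.inv h1).mul h3)
        rw [mul_smul, h4, ← cm_smul (qq p), smul_inv_smul, h2] at this
        rw [p3 p hp, p3 b hb, extF_B, ← this, add_right_comm]; simp
  · have k1 : ∀ q w c, QR x κ f r q w c → Φ (q • a) = (c, w, 1) := by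
      intro q w c h1
      have hb : ¬ Cm x (q • a) := by rw [← h1.fix, cm_smul]; exact ha
      obtain ⟨h2, h3⟩ := hq _ hb
      have h4 := (hW.inv h1).mul h2
      have h5 := hW.reg h h4 ha (by rw [mul_smul, h3, inv_smul_smul])
      have h6 := (hW.c_zero h ha h4).2 (by rw [h5, one_smul]; exact Cm.refl a)
      rw [inv_mul_eq_one] at h5
      have h7 := hW.uniq h h1 (h2.cast h5.symm rfl rfl)
      rw [← h7, ← hW.tr h1] at h6
      rw [p3 _ hb, ← h7]
      have := K4.two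
      congr 1; grind
    have k2 : ∀ c w, c + c * c = f.B w w → ∃ q, QR x κ f r q w c := by
      intro c w e
      obtain ⟨q, c', h1⟩ := hW.surjW w
      have h2 := hW.tr h1
      have h3 : c + c' = 0 ∨ c + c' = 1 := K4.tr_zero (by have := K4.two; grind)
      exact ⟨_, (hW.qxp h ha h1 h3).cast rfl rfl (by rw [add_assoc, K4.add_self, add_zero])⟩
    rintro ⟨c, w, d⟩ hv e
    rw [extF_B] at e
    by_cases hd : d = 0
    · subst hd
      simp only [mul_zero, zero_mul, zero_add, add_zero] at e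
      obtain ⟨q, h1⟩ := k2 0 w (by simp [e])
      rcases hW.zdesc h ha h1 ((hW.c_zero h ha h1).1 rfl) with ⟨rfl, -⟩ | ⟨u, hu, l, hl, -, -, rfl⟩
      · exact ⟨x, c, fun e1 => hv (by rw [e1]; rfl), by simp [p1]⟩
      · obtain ⟨y, h2, h3⟩ := hW.surj u hu (l⁻¹ * c)
        exact ⟨y, l, hl, by simp [p2 y (h2.mem hu), h3, hW.line u hu y h2, hl]⟩
    · obtain ⟨q, h1⟩ := k2 (d⁻¹ * c) (d⁻¹ • w) (by
        rw [map_smul, B_sm, smul_eq_mul]
        generalize f.B w w = n at e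
        clear hv
        revert c d n; decide +kernel)
      exact ⟨q • a, d, hd, by simp [k1 _ _ _ h1, hd]⟩

end Cfsg.Agent.Fis
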