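import Cfsg.Agent.Fis.U3
import Cfsg.Agent.Class.Exc4

/-! Fischer spaces: the polar case, conclusions. -/

set_option autoImplicit false

namespace Cfsg.Agent.Fis

open Subgroup Cfsg.Agent.Class Module

universe u

variable {G : Type*} [Group G] {D : Set G} [TT D]

theorem not_solvable_of_path {H : Subgroup G} {a b c d : Pt D} (hab : ¬ Cm a b)
    (hbc : ¬ Cm b c) (hcd : ¬ Cm c d) (hac : Cm a c) (had : Cm a d) (hbd : Cm b d)
    (ha : a.t ∈ H) (hb : b.t ∈ H) (hc : c.t ∈ H) (hd : d.t ∈ H) : ¬ Group.IsSolvable H := by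
  intro hs
  have hg := r5_gen hab hbc hcd hac had hbd
  set Γ := Gam (fun y : Fin 5 × Fin 5 => y.1 ≠ y.2) ne_smul5 (r5 a b c d)
  set Γ' := Γ ⊓ H.comap (MonoidHom.snd _ _)
  have h1 : ∀ σ, ∃ g, (σ, g) ∈ Γ' := by
    intro σ
    have : closure (Set.range fun i : Fin 4 => Equiv.swap i.castSucc i.succ) ≤
        Γ'.map (MonoidHom.fst _ _) := by
      rw [closure_le]
      rintro _ ⟨k, rfl⟩
      refine ⟨_, ⟨hg k, ?_⟩, rfl⟩
      fin_cases k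
      exacts [ha, hb, hc, hd]
    rw [closure_eq_top_of_mclosure_eq_top (Equiv.Perm.mclosure_swap_castSucc_succ 4)] at this
    obtain ⟨q, hq, rfl⟩ := this (mem_top σ)
    exact ⟨q.2, hq⟩
  have h2 : ∀ σ, (σ, 1) ∈ Γ → σ = 1 := by
    intro σ hσ
    by_contra hne
    set N := Γ.comap (MonoidHom.inl (Equiv.Perm (Fin 5)) G)
    haveI : N.Normal := ⟨fun n hn τ => by
      obtain ⟨g, hg⟩ := h1 τ
      have hg' : (τ, g) ∈ Γ := hg.1
      have := mul_mem (mul_mem hg' hn) (inv_mem hg')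
      simpa [N] using this⟩
    have := Equiv.Perm.alternatingGroup_le_of_normal (N := N) (by simp)
      ⟨⟨σ, hσ⟩, 1, fun e => hne (congrArg Subtype.val e)⟩
      (show Equiv.swap 0 1 * Equiv.swap 1 2 ∈ alternatingGroup (Fin 5) by
        simp [Equiv.Perm.mem_alternatingGroup])
    have h2 := this (0, 1) (by decide)
    have h3 : (Equiv.swap (0 : Fin 5) 1 * Equiv.swap 1 2) • ((0 : Fin 5), (1 : Fin 5)) = (1, 2) := by
      decide
    simp only [MonoidHom.inl_apply, h3, one_smul] at h2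
    exact ne_of_nc hab h2.symm
  let φ : Γ' →* H := ((MonoidHom.snd _ _).comp Γ'.subtype).codRestrict H (fun g => g.2.2)
  have h3 : Function.Injective φ := by
    rw [injective_iff_map_eq_one]
    rintro ⟨⟨σ, g⟩, hq⟩ e
    obtain rfl : g = 1 := congrArg Subtype.val e
    obtain rfl := h2 σ hq.1
    rfl
  have h4 := Group.isSolvable_of_isSolvable_injective h3
  have h5 : Function.Surjective ((MonoidHom.fst _ _).comp Γ'.subtype) := fun σ => by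
    obtain ⟨g, hg⟩ := h1 σ; exact ⟨⟨_, hg⟩, rfl⟩
  exact Equiv.Perm.not_isSolvable_fin_5 (Group.isSolvable_of_surjective h5)

variable {F : Type*} [Field F] {P : FP F} {V : Type u} [AddCommGroup V] [Module F V]
  [FiniteDimensional F V] {f : FS P V} {Φ : Pt D → V}

theorem Model.four_le [Finite G] (hM : Model f Φ) (h : Pol D) (hQ : ∀ v, f.B v v = 0 → f.Q v = 0)
    {x a : Pt D} (ha : ¬ Cm x a) : 4 ≤ finrank F V := by
  have h0 : ∀ z, f.Q (Φ z) = 0 := fun z => hQ _ ((hM.cm z z).2 (Cm.refl z))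
  have k : ∀ e ∈ Dx x, ∃ y, Sl x e y ∧ Cm a y := fun e he => by
    obtain ⟨y, h1, h2⟩ := h.one_or_all he a
    exact ⟨y, ⟨h1, fun e => ha (e ▸ h2.symm)⟩, h2⟩
  obtain ⟨e, e1, e2, -⟩ := h.sep (ne_of_nc ha)
  obtain ⟨y, y1, y2⟩ := k e ⟨e1, e2⟩
  have y3 := y1.mem ⟨e1, e2⟩
  obtain ⟨w, w1, w2, w3⟩ := h.sep y3.1.symm
  obtain ⟨z, z1, z2⟩ := k w ⟨w1, w2⟩
  have z3 := z1.mem ⟨w1, w2⟩
  have z4 : ¬ Cm y z := fun hc => w3 ((h.sl_cm ⟨w1, w2⟩ z1 y3.2.symm).1 hc)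
  have H1 := FS.isHyp_of_ne (h0 x) (h0 a) (fun e => ha ((hM.cm _ _).1 e))
  have m : ∀ y ∈ Dx x, Cm a y → Φ y ∈ f.hperp (Φ x) ((f.B (Φ x) (Φ a))⁻¹ • Φ a) :=
    fun y h1 h2 => FS.mem_hperp.2 ⟨(hM.cm _ _).2 h1.2, by
      rw [FS.B_smul_left, (hM.cm _ _).2 h2, mul_zero]⟩
  have H2 := FS.isHyp_of_ne (f := f.res _) (u := ⟨_, m y y3 y2⟩) (v := ⟨_, m z z3 z2⟩) (h0 y) (h0 z)
    (fun e => z4 ((hM.cm _ _).1 e))
  have := H1.finrank_hperp
  have := H2.finrank_hperp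
  omega

theorem Model.le_five (hM : Model f Φ) (hQ : ∀ v, f.B v v = 0 → f.Q v = 0)
    (hex : ∀ (U : Type u) [AddCommGroup U] [Module F U] [FiniteDimensional F U] (f' : FS P U),
      f'.Nondeg → 2 ≤ finrank F U → ∃ u v, f'.IsHyp u v)
    {x a : Pt D} (ha : ¬ Cm x a) (hs : Group.IsSolvable (HH x)) : finrank F V ≤ 5 := by
  by_contra hlt
  have h0 : ∀ z, f.Q (Φ z) = 0 := fun z => hQ _ ((hM.cm z z).2 (Cm.refl z))
  have h1 : f.B (Φ x) (Φ a) ≠ 0 := fun e => ha ((hM.cm _ _).1 e)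
  have H1 := FS.isHyp_of_ne (h0 x) (h0 a) h1
  have d1 := H1.finrank_hperp
  have n1 := H1.nondeg_hperp hM.nd
  obtain ⟨e1, f1, H2⟩ := hex _ _ n1 (by omega)
  have d2 := H2.finrank_hperp
  obtain ⟨e2, f2, H3⟩ := hex _ _ (H2.nondeg_hperp n1) (by omega)
  have k : ∀ v : f.hperp (Φ x) ((f.B (Φ x) (Φ a))⁻¹ • Φ a), v.1 ≠ 0 → f.B v.1 v.1 = 0 →
      ∃ p ∈ Dx x, ∃ c : F, c ≠ 0 ∧ v.1 = c • Φ p := by
    intro v hv hv'
    obtain ⟨p, c, hc, e⟩ := hM.surj _ hv hv'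
    obtain ⟨h2, h3⟩ := FS.mem_hperp.1 v.2
    rw [e] at h2 h3
    simp only [map_smul, FS.B_smul_left, smul_eq_mul, mul_eq_zero, hc, false_or, P.σ_eq_zero,
      inv_eq_zero, h1, hM.cm] at h2 h3
    exact ⟨p, ⟨fun e => ha (e ▸ h3.symm), h2⟩, c, hc, e⟩
  have k2 : ∀ {v v' : V} {p p' : Pt D} {c c' : F}, c ≠ 0 → c' ≠ 0 → v = c • Φ p → v' = c' • Φ p' →
      (Cm p p' ↔ f.B v v' = 0) := by
    rintro _ _ p p' c c' hc hc' rfl rfl
    simp only [map_smul, FS.B_smul_left, smul_eq_mul, mul_eq_zero, hc, hc', false_or, P.σ_eq_zero,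
      hM.cm]
  obtain ⟨a1, a2⟩ := FS.mem_hperp.1 e2.2
  obtain ⟨a3, a4⟩ := FS.mem_hperp.1 f2.2
  have b1 : f.B e1.1 e1.1 = 0 := H2.B11
  have b2 : f.B f1.1 f1.1 = 0 := H2.B22
  have b3 : f.B e1.1 f1.1 = 1 := H2.B12
  have b4 : f.B f1.1 e1.1 = P.ε := H2.B21
  have b5 : f.B e2.1.1 e2.1.1 = 0 := H3.B11
  have b6 : f.B f2.1.1 f2.1.1 = 0 := H3.B22
  have b7 : f.B e2.1.1 f2.1.1 = 1 := H3.B12
  replace a1 : f.B e1.1 e2.1.1 = 0 := a1
  replace a2 : f.B f1.1 e2.1.1 = 0 := a2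
  replace a3 : f.B e1.1 f2.1.1 = 0 := a3
  replace a4 : f.B f1.1 f2.1.1 = 0 := a4
  have b8 : f.B (e1 + e2.1).1 f2.1.1 = 1 := by simp [a3, b7]
  obtain ⟨p1, m1, c1, n1, r1⟩ := k e1 (fun e => by simp [e] at b3) b1
  obtain ⟨p2, m2, c2, n2, r2⟩ := k f1 (fun e => by simp [e] at b3) b2
  obtain ⟨p3, m3, c3, n3, r3⟩ := k (e1 + e2.1) (fun e => by simp [e] at b8)
    (by simp [b1, b5, a1, FS.B_comm_zero a1])
  obtain ⟨p4, m4, c4, n4, r4⟩ := k f2.1 (fun e => by simp [e] at b7) b6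
  refine not_solvable_of_path (a := p1) (b := p2) (c := p3) (d := p4) ?_ ?_ ?_ ?_ ?_ ?_
    (t_mem_HH m1) (t_mem_HH m2) (t_mem_HH m3) (t_mem_HH m4) hs
  · rw [k2 n1 n2 r1 r2, b3]; exact one_ne_zero
  · rw [k2 n2 n3 r2 r3]; simp [b4, a2, P.ε_ne]
  · rw [k2 n3 n4 r3 r4, b8]; exact one_ne_zero
  · rw [k2 n1 n3 r1 r3]; simp [b1, a1]
  · rw [k2 n1 n4 r1 r4, a3]
  · rw [k2 n2 n4 r2 r4, a4]

theorem Pol.classify [Finite G] (h : Pol D) (hZ : center G = ⊥) {x a : Pt D} (ha : ¬ Cm x a) :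
    (∃ n : ℕ, (Group.IsSolvable (HH x) → n = 2) ∧
      Nonempty (G ≃* Matrix.symplecticGroup (Fin n) (ZMod 2))) ∨
    ∃ n : ℕ, (Group.IsSolvable (HH x) → n = 4 ∨ n = 5) ∧ Nonempty (G ≃* Cfsg.PSU n K4 2) := by
  have hne := ne_of_nc ha
  rcases h.three_or_five with h3 | h5
  · obtain ⟨U, f, Φ, hM⟩ := h.sp_model h3
    obtain ⟨n, hn⟩ := FS.sp_even _ hM.nd rfl
    refine Or.inl ⟨n, fun hs => ?_, hM.sp_iso h.toPrim hZ (hM.ne_zero h.toCl hne) x (by omega)⟩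
    have h1 := hM.four_le h (fun v _ => f.sp_Q v) ha
    have h2 := hM.le_five (fun v _ => f.sp_Q v) (fun U _ _ _ f' hf hU => by
      have := Module.nontrivial_of_finrank_pos (R := ZMod 2) (M := U) (by omega)
      obtain ⟨u, hu⟩ := exists_ne (0 : U)
      exact ⟨u, hf.exists_partner' (f'.sp_Q u) hu⟩) ha hs
    omega
  · have h' : U5 D := ⟨h, h5, hZ⟩
    obtain ⟨κ, W, f, r, hW⟩ := h'.exists_wd ha
    obtain ⟨Φ, hM⟩ := hW.model h' ha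
    have h1 := hM.four_le h (fun v hv => (FS.herm_Q _ v).trans hv) ha
    refine Or.inr ⟨_, fun hs => ?_, hM.su_iso uf4 h.toPrim hZ (hM.ne_zero h.toCl hne) x h1⟩
    have h2 := hM.le_five (fun v hv => (FS.herm_Q _ v).trans hv)
      (fun U _ _ _ f' hf hU => hf.herm_exists_hyp uf4 hU) ha hs
    omega

theorem Prim.exists_nc' [Finite G] (h : Prim D) (hZ : center G = ⊥) (x : Pt D) :
    ∃ a, ¬ Cm x a := by
  by_contra hne
  push Not at hne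
  have : x.t ∈ center G := h.mem_center_iff.2 hne
  rw [hZ, mem_bot] at this
  exact x.ne_one this

theorem Prim.exists_pcore [Finite G] (h : Prim D) (hZ : center G = ⊥) (x : Pt D)
    (hs : Group.IsSolvable (HH x)) :
    ∃ p : ℕ, p.Prime ∧ ¬ pCore p (HH x) ≤ center (HH x) := by
  by_contra hne
  push Not at hne
  have h1 : fittingSubgroup (HH x) ≤ center (HH x) :=
    Core.fitting_le_iff.2 fun p hp => hne p hp.out
  obtain ⟨a, ha⟩ := h.exists_nc' hZ x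
  obtain ⟨y, y1, y2, -⟩ := h.sep (ne_of_nc ha)
  obtain ⟨z, z1, z2, z3⟩ := h.sep y1.symm
  have h2 : (⟨y.t, t_mem_HH ⟨y1, y2⟩⟩ : HH x) ∈ center (HH x) :=
    h1 (Core.centralizer_fitting_le fun g hg =>
      (Subgroup.mem_center_iff.1 (h1 hg) _).symm)
  exact z3 (cm_iff.2 (congrArg Subtype.val
    (Subgroup.mem_center_iff.1 h2 ⟨z.t, t_mem_HH ⟨z1, z2⟩⟩)).symm)

end Cfsg.Agent.Fis
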